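/-
An elementary abelian 2-subgroup that is self-centralising in the group normalising it, carries an invariant pairing,
contains the fusion and the centralisers of its involutions: the normalising group is then the whole group.
-/
import Mathlib

set_option autoImplicit false

namespace CfsgLib.Classical22.C6Two

open Module

/-- The hypotheses of the fusion theorem. -/
structure FusionData (G E : Type*) [Group G] [AddCommGroup E] [Module (ZMod 2) E] where
  N : Subgroup G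
  e : E → G
  B : LinearMap.BilinForm (ZMod 2) E
  e_add : ∀ x y, e (x + y) = e x * e y
  e_inj : Function.Injective e
  e_mem : ∀ x, e x ∈ N
  refl : ∀ x y, B x y = B y x
  nondeg : ∀ x, (∀ y, B x y = 0) → x = 0
  conj : ∀ n ∈ N, ∃ φ : E → E, (∀ x, n * e x * n⁻¹ = e (φ x)) ∧ ∀ x y, B (φ x) (φ y) = B x y
  centr : ∀ n ∈ N, (∀ x, n * e x = e x * n) → ∃ x, n = e x
  ctr : ∀ x, x ≠ 0 → ∀ g, g * e x = e x * g → g ∈ N
  fus : ∀ x y g, x ≠ 0 → g * e x * g⁻¹ = e y → ∃ n ∈ N, n * e x * n⁻¹ = e y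
  tex : ∀ (A Y : Submodule (ZMod 2) E) (β : E → G), (∀ x, x ∈ A ↔ ∀ y ∈ A, B y x = 0) →
    finrank (ZMod 2) Y = finrank (ZMod 2) A → (∀ x y, β (x + y) = β x * β y) → (∀ y ∈ Y, β y ∈ N) →
    (∀ y ∈ Y, y ≠ 0 → ∀ x, β y * e x = e x * β y ↔ x ∈ A) →
    ∃ T ∈ N, (∃ y ∈ Y, y ≠ 0 ∧ T * β y = β y * T) ∧ (∀ y ∈ Y, ∃ x, T * β y * T⁻¹ * (β y)⁻¹ = e x) ∧
      ∃ a ∈ A, a ≠ 0 ∧ T * T = e a
  inv : ∃ u ∈ N, u * u = 1 ∧ (∀ x, u ≠ e x) ∧ ∃ x, u * e x = e x * u ∧ ∀ z, e x ≠ u * e z * u⁻¹ * e z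

namespace FusionData

variable {G E : Type*} [Group G] [AddCommGroup E] [Module (ZMod 2) E] (S : FusionData G E)

theorem two_eq : ∀ t : ZMod 2, t + t = 0 := by decide

theorem add_self (x : E) : x + x = 0 := by
  have h : ((1 : ZMod 2) + 1) • x = 0 := by rw [two_eq, zero_smul]
  rwa [add_smul, one_smul] at h

theorem e_zero : S.e 0 = 1 := by
  have h := S.e_add 0 0
  rw [add_zero] at h
  simpa using h.symm

theorem e_sq (x : E) : S.e x * S.e x = 1 := by rw [← S.e_add, add_self, e_zero]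

theorem e_inv (x : E) : (S.e x)⁻¹ = S.e x := inv_eq_of_mul_eq_one_left (S.e_sq x)

theorem e_comm (x y : E) : S.e x * S.e y = S.e y * S.e x := by rw [← S.e_add, ← S.e_add, add_comm]

theorem e_ne {x : E} (hx : x ≠ 0) : S.e x ≠ 1 := fun h => hx (S.e_inj (h.trans S.e_zero.symm))

/-- The action of a normalising element. -/
noncomputable def act (n : S.N) : E →ₗ[ZMod 2] E :=
  AddMonoidHom.toZModLinearMap 2 (AddMonoidHom.mk' (Classical.choose (S.conj n n.2)) fun x y => S.e_inj (by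
    rw [← (Classical.choose_spec (S.conj n n.2)).1, S.e_add, S.e_add, ← (Classical.choose_spec (S.conj n n.2)).1,
      ← (Classical.choose_spec (S.conj n n.2)).1]
    group))

theorem e_act (n : S.N) (x : E) : S.e (S.act n x) = n * S.e x * (n : G)⁻¹ :=
  ((Classical.choose_spec (S.conj n n.2)).1 x).symm

theorem act_iso (n : S.N) (x y : E) : S.B (S.act n x) (S.act n y) = S.B x y :=
  (Classical.choose_spec (S.conj n n.2)).2 x y

theorem act_mul (n m : S.N) (x : E) : S.act (n * m) x = S.act n (S.act m x) := S.e_inj (by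
  rw [e_act, e_act, e_act, Subgroup.coe_mul]; group)

/-- The difference of the action from the identity. -/
noncomputable def del (n : S.N) : E →ₗ[ZMod 2] E := S.act n + LinearMap.id

theorem mem_ker_del (n : S.N) (x : E) : x ∈ LinearMap.ker (S.del n) ↔ (n : G) * S.e x = S.e x * n := by
  rw [LinearMap.mem_ker, show S.del n x = S.act n x + x from rfl]
  constructor
  · intro h
    have h' : S.act n x = x := by
      have := congrArg (· + x) h
      simpa [add_assoc, add_self] using this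
    have := S.e_act n x
    rw [h'] at this
    exact (mul_inv_eq_iff_eq_mul.1 this.symm)
  · intro h
    have h' : S.act n x = x := S.e_inj (by rw [e_act, h, mul_inv_cancel_right])
    rw [h', add_self]

theorem e_del (n : S.N) (x : E) : S.e (S.del n x) = n * S.e x * (n : G)⁻¹ * S.e x := by
  rw [show S.del n x = S.act n x + x from rfl, S.e_add, e_act]

theorem del_del {n : S.N} (hn : (n : G) * n = 1) (x : E) : S.del n (S.del n x) = 0 := S.e_inj (by
  rw [e_del, e_del, e_zero]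
  have h1 : (n : G)⁻¹ = n := inv_eq_of_mul_eq_one_left hn
  calc (n : G) * (n * S.e x * (n : G)⁻¹ * S.e x) * (n : G)⁻¹ * (n * S.e x * (n : G)⁻¹ * S.e x)
      = ((n : G) * n) * S.e x * (n : G)⁻¹ * (S.e x * S.e x) * (n : G)⁻¹ * S.e x := by group
    _ = 1 := by rw [hn, e_sq, one_mul, mul_one, mul_assoc (S.e x), h1, hn, mul_one, e_sq])

theorem B_del_of_fix (n : S.N) {a : E} (ha : a ∈ LinearMap.ker (S.del n)) (x : E) : S.B a (S.del n x) = 0 := by
  have h : S.act n a = a := by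
    have := congrArg (· + a) (LinearMap.mem_ker.1 ha)
    simpa [del, add_assoc, add_self] using this
  have h1 := S.act_iso n a x
  rw [h] at h1
  rw [show S.del n x = S.act n x + x from rfl, map_add, h1, two_eq]

theorem isRefl : S.B.IsRefl := fun x y h => by rw [S.refl]; exact h

theorem mem_orth (A : Submodule (ZMod 2) E) (x : E) : x ∈ S.B.orthogonal A ↔ ∀ y ∈ A, S.B y x = 0 := Iff.rfl

variable [Finite E]

theorem finrank_orth (A : Submodule (ZMod 2) E) :
    finrank (ZMod 2) A + finrank (ZMod 2) (S.B.orthogonal A) = finrank (ZMod 2) E := by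
  have hsl : S.B.SeparatingLeft := fun x hx => S.nondeg x hx
  have h := LinearMap.BilinForm.finrank_orthogonal (B := S.B)
    (LinearMap.IsRefl.nondegenerate_iff_separatingLeft S.isRefl |>.mpr hsl) A
  have := Submodule.finrank_le A
  omega

/-- An involution fixes at least half. -/
theorem half_le_fix {n : S.N} (hn : (n : G) * n = 1) :
    finrank (ZMod 2) E ≤ 2 * finrank (ZMod 2) (LinearMap.ker (S.del n)) := by
  have h := LinearMap.finrank_range_add_finrank_ker (S.del n)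
  have hle : LinearMap.range (S.del n) ≤ LinearMap.ker (S.del n) := by
    rintro _ ⟨x, rfl⟩
    exact LinearMap.mem_ker.2 (S.del_del hn x)
  have := Submodule.finrank_mono hle
  omega

/-- An element outside meets the subgroup trivially. -/
theorem ti {g : G} (hg : g ∉ S.N) {x : E} (hx : x ≠ 0) (y : E) : g * S.e x * g⁻¹ ≠ S.e y := by
  intro h
  obtain ⟨n, hn, hn'⟩ := S.fus x y g hx h
  refine hg ?_
  have hc : n⁻¹ * g * S.e x = S.e x * (n⁻¹ * g) := by
    have h' : n * S.e x * n⁻¹ = g * S.e x * g⁻¹ := hn'.trans h.symm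
    calc n⁻¹ * g * S.e x = n⁻¹ * (g * S.e x * g⁻¹) * g := by group
      _ = S.e x * (n⁻¹ * g) := by rw [← h']; group
  have := S.N.mul_mem hn (S.ctr x hx _ hc)
  rwa [mul_inv_cancel_left] at this

theorem zero_of_ti {g : G} (hg : g ∉ S.N) {x y : E} (h : g * S.e x * g⁻¹ = S.e y) : x = 0 := by
  by_contra hx
  exact S.ti hg hx y h

/-- What a conjugate of the subgroup meets inside the normaliser. -/
theorem configuration {g : G} (hg : g ∉ S.N) {Y : Submodule (ZMod 2) E}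
    (hY : ∀ y, y ∈ Y ↔ g * S.e y * g⁻¹ ∈ S.N) (hne : Y ≠ ⊥) :
    ∃ A : Submodule (ZMod 2) E, (∀ a, a ∈ A ↔ g⁻¹ * S.e a * g ∈ S.N) ∧ A ≠ ⊥ ∧
      (∀ y (hy : y ∈ Y), y ≠ 0 → LinearMap.ker (S.del ⟨_, (hY y).1 hy⟩) = A) ∧
      finrank (ZMod 2) E ≤ 2 * finrank (ZMod 2) A ∧
      S.B.orthogonal A ≤ A ∧ finrank (ZMod 2) Y + finrank (ZMod 2) A ≤ finrank (ZMod 2) E := by
  obtain ⟨y0, hy0, hy0ne⟩ := (Submodule.ne_bot_iff Y).1 hne
  have hker : ∀ y (hy : y ∈ Y), y ≠ 0 → ∀ x,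
      x ∈ LinearMap.ker (S.del ⟨_, (hY y).1 hy⟩) ↔ g⁻¹ * S.e x * g ∈ S.N := by
    intro y hy hyne x
    rw [mem_ker_del]
    constructor
    · intro h
      refine S.ctr y hyne _ ?_
      calc g⁻¹ * S.e x * g * S.e y = g⁻¹ * (S.e x * (g * S.e y * g⁻¹)) * g := by group
        _ = S.e y * (g⁻¹ * S.e x * g) := by rw [← h]; group
    · intro hx
      obtain ⟨φ, hφ, -⟩ := S.conj _ hx
      obtain ⟨ψ, hψ, -⟩ := S.conj _ ((hY y).1 hy)
      have hc : g * S.e (y + φ y) * g⁻¹ = S.e (ψ x + x) := by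
        rw [S.e_add, S.e_add, ← hφ, ← hψ]
        calc g * (S.e y * (g⁻¹ * S.e x * g * S.e y * (g⁻¹ * S.e x * g)⁻¹)) * g⁻¹
            = g * S.e y * g⁻¹ * S.e x * (g * S.e y * g⁻¹) * (S.e x)⁻¹ := by group
          _ = g * S.e y * g⁻¹ * S.e x * (g * S.e y * g⁻¹)⁻¹ * S.e x := by
            rw [S.e_inv, _root_.mul_inv_rev, _root_.mul_inv_rev, inv_inv, S.e_inv]; group
      have h0 := S.zero_of_ti hg hc
      rw [h0, S.e_zero, mul_one, mul_inv_cancel] at hc
      have hψx : ψ x = x := by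
        have hz : ψ x + x = 0 := S.e_inj (by rw [S.e_zero]; exact hc.symm)
        have := congrArg (· + x) hz
        simpa [add_assoc, add_self] using this
      have := hψ x
      rw [hψx] at this
      exact mul_inv_eq_iff_eq_mul.1 this
  obtain ⟨A, hA⟩ : ∃ A, A = LinearMap.ker (S.del ⟨_, (hY y0).1 hy0⟩) := ⟨_, rfl⟩
  have hAmem : ∀ a, a ∈ A ↔ g⁻¹ * S.e a * g ∈ S.N := fun a => by rw [hA]; exact hker y0 hy0 hy0ne a
  have hkA : ∀ y (hy : y ∈ Y), y ≠ 0 → LinearMap.ker (S.del ⟨_, (hY y).1 hy⟩) = A := fun y hy hyne =>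
    Submodule.ext fun x => (hker y hy hyne x).trans (hAmem x).symm
  have hinv : ∀ y (hy : y ∈ Y), (g * S.e y * g⁻¹) * (g * S.e y * g⁻¹) = 1 := fun y _ => by
    calc g * S.e y * g⁻¹ * (g * S.e y * g⁻¹) = g * (S.e y * S.e y) * g⁻¹ := by group
      _ = 1 := by rw [e_sq, mul_one, mul_inv_cancel]
  have hrange : ∀ y (hy : y ∈ Y), LinearMap.range (S.del ⟨_, (hY y).1 hy⟩) ≤ S.B.orthogonal A := by
    intro y hy
    rintro _ ⟨x, rfl⟩
    rw [mem_orth]
    intro a ha
    by_cases hyne : y = 0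
    · subst hyne
      have h1 : ∀ x, x ∈ LinearMap.ker (S.del ⟨_, (hY 0).1 hy⟩) := fun x =>
        (S.mem_ker_del _ x).2 (by simp [S.e_zero])
      rw [LinearMap.mem_ker.1 (h1 x), map_zero]
    · exact S.B_del_of_fix _ (by rw [hkA y hy hyne]; exact ha) x
  have hhalf : finrank (ZMod 2) E ≤ 2 * finrank (ZMod 2) A := by
    rw [hA]; exact S.half_le_fix (hinv y0 hy0)
  have htop : A ≠ ⊤ := by
    intro h
    obtain ⟨x, hx⟩ := S.centr _ ((hY y0).1 hy0) fun x =>
      (S.mem_ker_del ⟨_, (hY y0).1 hy0⟩ x).1 (by rw [← hA, h]; trivial)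
    exact S.ti hg hy0ne x hx
  have hbot : A ≠ ⊥ := by
    intro h
    rw [h, finrank_bot, mul_zero, Nat.le_zero] at hhalf
    haveI : Subsingleton E := Module.finrank_zero_iff.1 hhalf
    exact hy0ne (Subsingleton.elim _ _)
  have hortho : S.B.orthogonal A ≤ A := by
    have h := LinearMap.finrank_range_add_finrank_ker (S.del ⟨_, (hY y0).1 hy0⟩)
    rw [← hA] at h
    have hle : LinearMap.range (S.del ⟨_, (hY y0).1 hy0⟩) = S.B.orthogonal A :=
      Submodule.eq_of_le_of_finrank_eq (hrange y0 hy0) (by have := S.finrank_orth A; omega)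
    rw [← hle, hA]
    rintro _ ⟨x, rfl⟩
    exact LinearMap.mem_ker.2 (S.del_del (hinv y0 hy0) x)
  refine ⟨A, hAmem, hbot, hkA, hhalf, hortho, ?_⟩
  obtain ⟨u, hu⟩ : ∃ u, u ∉ A := by
    by_contra hcon
    push Not at hcon
    exact htop (eq_top_iff.2 fun x _ => hcon x)
  -- evaluation at a moved vector
  let L : Y →ₗ[ZMod 2] S.B.orthogonal A := AddMonoidHom.toZModLinearMap 2
    (AddMonoidHom.mk' (fun y => ⟨S.del ⟨_, (hY y.1).1 y.2⟩ u, hrange y.1 y.2 ⟨u, rfl⟩⟩) fun y z => Subtype.ext (by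
      obtain ⟨b, hb⟩ : ∃ b : S.N, b = ⟨_, (hY y.1).1 y.2⟩ := ⟨_, rfl⟩
      obtain ⟨c, hc⟩ : ∃ c : S.N, c = ⟨_, (hY z.1).1 z.2⟩ := ⟨_, rfl⟩
      change S.del ⟨_, (hY (y + z).1).1 (y + z).2⟩ u = S.del ⟨_, (hY y.1).1 y.2⟩ u + S.del ⟨_, (hY z.1).1 z.2⟩ u
      rw [show (⟨_, (hY (y + z).1).1 (y + z).2⟩ : S.N) = b * c from Subtype.ext (by
        rw [hb, hc]
        change g * S.e ((y : E) + z) * g⁻¹ = g * S.e y * g⁻¹ * (g * S.e z * g⁻¹)
        rw [S.e_add]; group), ← hb, ← hc]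
      have hfix : S.del b (S.del c u) = 0 := by
        by_cases hy : (y : E) = 0
        · exact LinearMap.mem_ker.1 ((S.mem_ker_del _ _).2 (by rw [hb]; simp [hy, S.e_zero]))
        · refine LinearMap.mem_ker.1 ?_
          rw [hb, hkA y.1 y.2 hy]
          exact hortho (hc ▸ hrange z.1 z.2 ⟨u, rfl⟩)
      have hb' : ∀ v, S.del b v = S.act b v + v := fun v => rfl
      have hc' : ∀ v, S.del c v = S.act c v + v := fun v => rfl
      rw [hc' u, map_add, hb', hb' u] at hfix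
      rw [show S.del (b * c) u = S.act (b * c) u + u from rfl, act_mul, hb' u, hc' u]
      have h0 := congrArg (· + (S.act b u + u + (S.act c u + u))) hfix
      simp only [zero_add] at h0
      rw [← h0]
      have e1 := add_self (E := E)
      calc S.act b (S.act c u) + u = S.act b (S.act c u) + u + ((S.act c u + S.act c u) + (S.act b u + S.act b u) + (u + u)) := by
            simp [e1]
        _ = _ := by abel))
  have hL : Function.Injective L := by
    rw [← LinearMap.ker_eq_bot, Submodule.eq_bot_iff]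
    intro y hy
    by_contra hne
    have hy0' : (y : E) ≠ 0 := fun h => hne (Subtype.ext h)
    refine hu ?_
    rw [← hkA y.1 y.2 hy0', LinearMap.mem_ker]
    exact congrArg Subtype.val (LinearMap.mem_ker.1 hy)
  have := LinearMap.finrank_le_finrank_of_injective hL
  have := S.finrank_orth A
  omega

/-- The submodule met by the normaliser. -/
def meet (g : G) : Submodule (ZMod 2) E :=
  AddSubgroup.toZModSubmodule 2
    { carrier := {y | g * S.e y * g⁻¹ ∈ S.N}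
      zero_mem' := by simp [S.e_zero]
      add_mem' := fun {a b} ha hb => by
        change g * S.e (a + b) * g⁻¹ ∈ S.N
        rw [S.e_add, show g * (S.e a * S.e b) * g⁻¹ = (g * S.e a * g⁻¹) * (g * S.e b * g⁻¹) by group]
        exact S.N.mul_mem ha hb
      neg_mem' := fun {a} ha => by
        rw [show -a = a from neg_eq_of_add_eq_zero_left (add_self a)]; exact ha }

omit [Finite E] in
theorem mem_meet (g : G) (y : E) : y ∈ S.meet g ↔ g * S.e y * g⁻¹ ∈ S.N := Iff.rfl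

/-- Conjugates into the normaliser only come from the normaliser. -/
theorem sc {g : G} (hg : g ∉ S.N) {x : E} (hx : x ≠ 0) : g * S.e x * g⁻¹ ∉ S.N := by
  intro hmem
  have hne : S.meet g ≠ ⊥ := (Submodule.ne_bot_iff _).2 ⟨x, hmem, hx⟩
  obtain ⟨A, hA, hAne, hker, hhalf, hort, hle⟩ := S.configuration hg (S.mem_meet g) hne
  have hg' : g⁻¹ ∉ S.N := fun h => hg (by simpa using S.N.inv_mem h)
  obtain ⟨A', hA', -, -, hhalf', hort', -⟩ := S.configuration hg' (Y := A) (fun y => by rw [hA, inv_inv]) hAne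
  have hA'eq : A' = S.meet g := Submodule.ext fun y => by rw [hA', mem_meet, inv_inv]
  rw [hA'eq] at hhalf' hort'
  have hYA : finrank (ZMod 2) (S.meet g) = finrank (ZMod 2) A := by omega
  have hortA : S.B.orthogonal A = A :=
    Submodule.eq_of_le_of_finrank_eq hort (by have := S.finrank_orth A; omega)
  have hortY : S.B.orthogonal (S.meet g) = S.meet g :=
    Submodule.eq_of_le_of_finrank_eq hort' (by have := S.finrank_orth (S.meet g); omega)
  obtain ⟨T, hT, ⟨y1, hy1, hy1ne, hTy⟩, hTc, a, ha, hane, hTT⟩ := S.tex A (S.meet g) (fun y => g * S.e y * g⁻¹)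
    (fun z => by rw [← S.mem_orth, hortA]) hYA (fun a b => by change g * S.e (a + b) * g⁻¹ = _; rw [S.e_add]; group) (fun y hy => hy)
    (fun y hy hyne z => by
      have h := hker y hy hyne
      rw [← S.mem_ker_del ⟨_, hy⟩ z, h])
  obtain ⟨T', hT'def⟩ : ∃ T', T' = g⁻¹ * T * g := ⟨_, rfl⟩
  have hT' : T' ∈ S.N := by
    refine S.ctr y1 hy1ne _ ?_
    calc T' * S.e y1 = g⁻¹ * (T * (g * S.e y1 * g⁻¹)) * g := by rw [hT'def]; group
      _ = S.e y1 * T' := by rw [hTy, hT'def]; group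
  have hfixY : ∀ y ∈ S.meet g, y ∈ LinearMap.ker (S.del ⟨T', hT'⟩) := by
    intro y hy
    obtain ⟨z, hz⟩ := hTc y hy
    have hval : g * S.e (S.del ⟨T', hT'⟩ y) * g⁻¹ = S.e z := by
      rw [S.e_del, ← hz]
      subst hT'def
      calc g * (g⁻¹ * T * g * S.e y * (g⁻¹ * T * g)⁻¹ * S.e y) * g⁻¹
          = T * (g * S.e y * g⁻¹) * T⁻¹ * (g * (S.e y) * g⁻¹) := by group
        _ = _ := by rw [show (g * S.e y * g⁻¹)⁻¹ = g * (S.e y)⁻¹ * g⁻¹ by group, S.e_inv]
    exact LinearMap.mem_ker.2 (S.zero_of_ti hg hval)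
  have hrangeT : ∀ v, S.del ⟨T', hT'⟩ v ∈ S.meet g := by
    intro v
    rw [← hortY, S.mem_orth]
    exact fun y hy => S.B_del_of_fix _ (hfixY y hy) v
  have hT2 : ∀ v, T' * T' * S.e v = S.e v * (T' * T') := by
    intro v
    obtain ⟨τ, hτ⟩ : ∃ τ : S.N, τ = ⟨T', hT'⟩ := ⟨_, rfl⟩
    have h0 : S.del τ (S.del τ v) = 0 := hτ ▸ LinearMap.mem_ker.1 (hfixY _ (hrangeT v))
    rw [show ∀ w, S.del τ w = S.act τ w + w from fun w => rfl] at h0
    rw [show S.act τ (S.del τ v) = S.act τ (S.act τ v) + S.act τ v from map_add _ _ _,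
      show S.del τ v = S.act τ v + v from rfl] at h0
    have h1 : S.act (τ * τ) v = v := by
      rw [act_mul]
      calc S.act τ (S.act τ v) = S.act τ (S.act τ v) + (S.act τ v + S.act τ v) + (v + v) := by
            rw [add_self, add_self, add_zero, add_zero]
        _ = (S.act τ (S.act τ v) + S.act τ v + (S.act τ v + v)) + v := by abel
        _ = v := by rw [h0, zero_add]
    have h2 := S.e_act (τ * τ) v
    rw [h1, hτ] at h2
    exact mul_inv_eq_iff_eq_mul.1 h2.symm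
  obtain ⟨z, hz⟩ := S.centr (T' * T') (S.N.mul_mem hT' hT') hT2
  refine S.ti hg' hane z ?_
  rw [← hz, ← hTT, hT'def]
  group

/-- A power of a product of two involutions. -/
theorem pow_conj {X Y : G} (hX : X * X = 1) (hY : Y * Y = 1) (j : ℕ) :
    (X * Y) ^ j * X * ((X * Y) ^ j)⁻¹ = (X * Y) ^ (2 * j) * X := by
  have h1 : X * (X * Y) * X⁻¹ = (X * Y)⁻¹ := by
    rw [_root_.mul_inv_rev, inv_eq_of_mul_eq_one_left hY, inv_eq_of_mul_eq_one_left hX, ← mul_assoc X X, hX, one_mul]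
  have h2 : X * (X * Y) ^ j * X⁻¹ = ((X * Y) ^ j)⁻¹ := by rw [← conj_pow, h1, inv_pow]
  have h3 : X * ((X * Y) ^ j)⁻¹ = (X * Y) ^ j * X := by
    calc X * ((X * Y) ^ j)⁻¹ = (X * (X * Y) ^ j * X⁻¹)⁻¹ * X := by group
      _ = _ := by rw [h2, inv_inv]
  rw [mul_assoc, h3, ← mul_assoc, ← pow_add, two_mul]

omit [Finite E] in
theorem conj_comm {g : G} {a b : G} (h : a * b = b * a) : g * a * g⁻¹ * (g * b * g⁻¹) = g * b * g⁻¹ * (g * a * g⁻¹) := by
  rw [show g * a * g⁻¹ * (g * b * g⁻¹) = g * (a * b) * g⁻¹ by group, h]; group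

/-- A conjugate of a non-trivial element that lies in the normaliser and, as well, in another conjugate normaliser. -/
theorem meet_false {g : G} (hg : g ∉ S.N) {x : E} (hx : x ≠ 0) : g⁻¹ * S.e x * g ∉ S.N := by
  have := S.sc (g := g⁻¹) (fun h => hg (by simpa using S.N.inv_mem h)) hx
  rwa [inv_inv] at this

/-- An element with a conjugate of a member inside the normaliser, conjugates it into the subgroup. -/
theorem conj_mem {g : G} {x : E} (hx : x ≠ 0) (h : g * S.e x * g⁻¹ ∈ S.N) : ∃ y, g * S.e x * g⁻¹ = S.e y := by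
  have hg : g ∈ S.N := by
    by_contra hg
    exact S.sc hg hx h
  obtain ⟨φ, hφ, -⟩ := S.conj g hg
  exact ⟨φ x, hφ x⟩

omit [Finite E] in
/-- The even case for the product of two involutions. -/
theorem central_involution [Finite G] {X Y : G} (hX : X * X = 1) (hY : Y * Y = 1) {m : ℕ}
    (hm : orderOf (X * Y) = 2 * m) :
    ∃ w : G, w = (X * Y) ^ m ∧ w ≠ 1 ∧ w * w = 1 ∧ w * X = X * w ∧ w * Y = Y * w := by
  have hpos : 0 < m := by have := orderOf_pos (X * Y); omega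
  obtain ⟨w, hw⟩ : ∃ w, w = (X * Y) ^ m := ⟨_, rfl⟩
  have h1 : w * w = 1 := by rw [hw, ← pow_add, ← two_mul, ← hm, pow_orderOf_eq_one]
  have hinv : w⁻¹ = w := inv_eq_of_mul_eq_one_left h1
  have h2 : X * w * X⁻¹ = w⁻¹ := by
    rw [hw, ← conj_pow, ← inv_pow]
    congr 1
    rw [_root_.mul_inv_rev, inv_eq_of_mul_eq_one_left hY, inv_eq_of_mul_eq_one_left hX, ← mul_assoc X X, hX, one_mul]
  rw [hinv, mul_inv_eq_iff_eq_mul] at h2
  have hc : w * (X * Y) = X * Y * w := by rw [hw]; exact ((Commute.refl (X * Y)).pow_left m).eq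
  refine ⟨w, hw, ?_, h1, h2.symm, ?_⟩
  · rw [hw]
    exact pow_ne_one_of_lt_orderOf hpos.ne' (by omega)
  · rw [← mul_assoc, ← h2, mul_assoc, mul_assoc] at hc
    exact mul_left_cancel hc

/-- Involutions of two different conjugates of the subgroup are conjugate by an element of the group they generate. -/
theorem link [Finite G] {g : G} (hg : g ∉ S.N) {x y : E} (hx : x ≠ 0) (hy : y ≠ 0) :
    ∃ c : G, c * S.e x * c⁻¹ = g * S.e y * g⁻¹ ∧
      ∀ z, z * S.e x = S.e x * z → z * (g * S.e y * g⁻¹) = g * S.e y * g⁻¹ * z → z * c = c * z := by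
  obtain ⟨X, hXd⟩ : ∃ X, X = S.e x := ⟨_, rfl⟩
  obtain ⟨Y, hYd⟩ : ∃ Y, Y = g * S.e y * g⁻¹ := ⟨_, rfl⟩
  rw [← hXd, ← hYd]
  have hX : X * X = 1 := by rw [hXd, S.e_sq]
  have hY : Y * Y = 1 := by
    rw [hYd, show g * S.e y * g⁻¹ * (g * S.e y * g⁻¹) = g * (S.e y * S.e y) * g⁻¹ by group, S.e_sq]; simp
  rcases Nat.even_or_odd (orderOf (X * Y)) with ⟨m, hm⟩ | ⟨m, hm⟩
  · exfalso
    obtain ⟨w, hw, hw1, hww, hwX, hwY⟩ := central_involution hX hY (m := m) (by omega)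
    have hwN : w ∈ S.N := S.ctr x hx w (hXd ▸ hwX)
    have hwN' : g⁻¹ * w * g ∈ S.N := by
      refine S.ctr y hy _ ?_
      calc g⁻¹ * w * g * S.e y = g⁻¹ * (w * Y) * g := by rw [hYd]; group
        _ = S.e y * (g⁻¹ * w * g) := by rw [hwY, hYd]; group
    rcases Nat.even_or_odd m with ⟨j, hj⟩ | ⟨j, hj⟩
    · have hc : (X * Y) ^ j * X * ((X * Y) ^ j)⁻¹ = w * X := by
        rw [pow_conj hX hY, hw, show 2 * j = m by omega]
      obtain ⟨v, hv⟩ := S.conj_mem hx (g := (X * Y) ^ j) (by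
        rw [← hXd, hc]; exact S.N.mul_mem hwN (hXd ▸ S.e_mem x))
      rw [← hXd, hc] at hv
      have hwe : w = S.e (v + x) := by rw [S.e_add, ← hv, ← hXd, mul_assoc, hX, mul_one]
      exact S.meet_false hg (fun h => hw1 (by rw [hwe, h, S.e_zero])) (hwe ▸ hwN')
    · have hc : (X * Y) ^ j * X * ((X * Y) ^ j)⁻¹ = w * Y := by
        rw [pow_conj hX hY, hw, hj, pow_succ, mul_assoc, mul_assoc X Y Y, hY, mul_one]
      obtain ⟨v, hv⟩ := S.conj_mem hx (g := g⁻¹ * (X * Y) ^ j) (by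
        rw [show g⁻¹ * (X * Y) ^ j * S.e x * (g⁻¹ * (X * Y) ^ j)⁻¹ =
          g⁻¹ * ((X * Y) ^ j * S.e x * ((X * Y) ^ j)⁻¹) * g by group, ← hXd, hc, hYd,
          show g⁻¹ * (w * (g * S.e y * g⁻¹)) * g = g⁻¹ * w * g * S.e y by group]
        exact S.N.mul_mem hwN' (S.e_mem y))
      rw [show g⁻¹ * (X * Y) ^ j * S.e x * (g⁻¹ * (X * Y) ^ j)⁻¹ =
          g⁻¹ * ((X * Y) ^ j * S.e x * ((X * Y) ^ j)⁻¹) * g by group, ← hXd, hc, hYd,
          show g⁻¹ * (w * (g * S.e y * g⁻¹)) * g = g⁻¹ * w * g * S.e y by group] at hv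
      have hwe : g⁻¹ * w * g = S.e (v + y) := by rw [S.e_add, ← hv, mul_assoc (g⁻¹ * w * g), S.e_sq, mul_one]
      refine S.sc hg (x := v + y) (fun h => hw1 ?_) ?_
      · rw [h, S.e_zero] at hwe
        calc w = g * (g⁻¹ * w * g) * g⁻¹ := by group
          _ = 1 := by rw [hwe]; simp
      · rw [← hwe, show g * (g⁻¹ * w * g) * g⁻¹ = w by group]; exact hwN
  · refine ⟨(X * Y) ^ m, ?_, fun z hzX hzY => ?_⟩
    · have h1 : (X * Y) ^ (2 * m) * (X * Y) = 1 := by rw [← pow_succ, ← hm, pow_orderOf_eq_one]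
      rw [pow_conj hX hY, eq_inv_of_mul_eq_one_left h1, _root_.mul_inv_rev, mul_assoc, inv_mul_cancel, mul_one,
        inv_eq_of_mul_eq_one_left hY]
    · exact (Commute.pow_right (Commute.mul_right hzX hzY) m).eq

/-- An involution of the normaliser with more fixed points than commutators lies in no other normaliser. -/
theorem unique_normaliser [Finite G] {z : G} (hz : z ∈ S.N) (hzz : z * z = 1) (hzE : ∀ x, z ≠ S.e x)
    (hbig : ∃ x, z * S.e x = S.e x * z ∧ ∀ w, S.e x ≠ z * S.e w * z⁻¹ * S.e w) {g : G} (hg : g ∉ S.N) :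
    g⁻¹ * z * g ∉ S.N := by
  intro hz'
  have hz'2 : g⁻¹ * z * g * (g⁻¹ * z * g) = 1 := by
    rw [show g⁻¹ * z * g * (g⁻¹ * z * g) = g⁻¹ * (z * z) * g by group, hzz]; group
  obtain ⟨x2, hx2, hx2'⟩ := hbig
  have hx2ne : x2 ≠ 0 := fun h => hx2' 0 (by simp [h, S.e_zero])
  have hne : LinearMap.ker (S.del ⟨_, hz'⟩) ≠ ⊥ := by
    intro h
    have h1 := S.half_le_fix (n := ⟨_, hz'⟩) hz'2
    rw [h, finrank_bot, mul_zero, Nat.le_zero] at h1
    haveI : Subsingleton E := Module.finrank_zero_iff.1 h1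
    exact hx2ne (Subsingleton.elim _ _)
  obtain ⟨y, hy, hyne⟩ := (Submodule.ne_bot_iff _).1 hne
  have hzY : z * (g * S.e y * g⁻¹) = g * S.e y * g⁻¹ * z := by
    have h := (S.mem_ker_del ⟨_, hz'⟩ y).1 hy
    change g⁻¹ * z * g * S.e y = S.e y * (g⁻¹ * z * g) at h
    calc z * (g * S.e y * g⁻¹) = g * (g⁻¹ * z * g * S.e y) * g⁻¹ := by group
      _ = _ := by rw [h]; group
  obtain ⟨w, hw⟩ : ∃ w, S.del ⟨z, hz⟩ w ≠ 0 := by
    by_contra hcon
    push Not at hcon
    obtain ⟨t, ht⟩ := S.centr z hz fun x => (S.mem_ker_del ⟨z, hz⟩ x).1 (LinearMap.mem_ker.2 (hcon x))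
    exact hzE t ht
  obtain ⟨x1, hx1d⟩ : ∃ x1, x1 = S.del ⟨z, hz⟩ w := ⟨_, rfl⟩
  rw [← hx1d] at hw
  have hx1 : z * S.e x1 = S.e x1 * z :=
    (S.mem_ker_del ⟨z, hz⟩ x1).1 (LinearMap.mem_ker.2 (by rw [hx1d]; exact S.del_del hzz w))
  obtain ⟨c1, hc1, hc1z⟩ := S.link hg hw hyne
  obtain ⟨c2, hc2, hc2z⟩ := S.link hg hx2ne hyne
  have hhz : z * (c2⁻¹ * c1) = c2⁻¹ * c1 * z :=
    ((Commute.inv_right (show Commute z c2 from hc2z z hx2 hzY)).mul_right
      (show Commute z c1 from hc1z z hx1 hzY)).eq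
  obtain ⟨h, hh⟩ : ∃ h, h = c2⁻¹ * c1 := ⟨_, rfl⟩
  rw [← hh] at hhz
  have hconj : h * S.e x1 * h⁻¹ = S.e x2 := by
    rw [hh, show c2⁻¹ * c1 * S.e x1 * (c2⁻¹ * c1)⁻¹ = c2⁻¹ * (c1 * S.e x1 * c1⁻¹) * c2 by group, hc1, ← hc2]
    group
  have hN : h ∈ S.N := by
    by_contra hN
    exact S.ti hN hw x2 hconj
  refine hx2' (S.act ⟨h, hN⟩ w) ?_
  have he : S.e x1 = z * S.e w * z⁻¹ * S.e w := by rw [hx1d, S.e_del]
  rw [← hconj, he, S.e_act]
  have h1 : h * z = z * h := hhz.symm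
  calc h * (z * S.e w * z⁻¹ * S.e w) * h⁻¹
      = (h * z) * S.e w * (h * z)⁻¹ * (h * S.e w * h⁻¹) := by group
    _ = _ := by rw [h1]; group

/-- The fusion theorem. -/
theorem eq_top [Finite G] : S.N = ⊤ := by
  rw [eq_top_iff]
  intro g _
  by_contra hg
  obtain ⟨u, hu, huu, huE, x, hux, hxim⟩ := S.inv
  have hxne : x ≠ 0 := fun h => hxim 0 (by simp [h, S.e_zero])
  obtain ⟨X, hXd⟩ : ∃ X, X = S.e x := ⟨_, rfl⟩
  obtain ⟨Y, hYd⟩ : ∃ Y, Y = g * u * g⁻¹ := ⟨_, rfl⟩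
  have hX : X * X = 1 := by rw [hXd, S.e_sq]
  have hY : Y * Y = 1 := by rw [hYd, show g * u * g⁻¹ * (g * u * g⁻¹) = g * (u * u) * g⁻¹ by group, huu]; simp
  have hclaim : ∀ j : ℕ, (g⁻¹ * (X * Y) ^ j) * S.e x * (g⁻¹ * (X * Y) ^ j)⁻¹ =
      g⁻¹ * ((X * Y) ^ j * X * ((X * Y) ^ j)⁻¹) * g := fun j => by rw [hXd]; group
  rcases Nat.even_or_odd (orderOf (X * Y)) with ⟨m, hm⟩ | ⟨m, hm⟩
  · obtain ⟨w, hw, hw1, hww, hwX, hwY⟩ := central_involution hX hY (m := m) (by omega)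
    have hwN : w ∈ S.N := S.ctr x hxne w (hXd ▸ hwX)
    have hwu : g⁻¹ * w * g * u = u * (g⁻¹ * w * g) := by
      calc g⁻¹ * w * g * u = g⁻¹ * (w * Y) * g := by rw [hYd]; group
        _ = u * (g⁻¹ * w * g) := by rw [hwY, hYd]; group
    have hwN' : g⁻¹ * w * g ∈ S.N := by
      by_contra hcon
      refine S.unique_normaliser hu huu huE ⟨x, hux, hxim⟩ hcon ?_
      rw [mul_assoc, ← hwu, inv_mul_cancel_left]
      exact hu
    rcases Nat.even_or_odd m with ⟨j, hj⟩ | ⟨j, hj⟩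
    · have hc : (X * Y) ^ j * X * ((X * Y) ^ j)⁻¹ = w * X := by
        rw [pow_conj hX hY, hw, show 2 * j = m by omega]
      obtain ⟨v, hv⟩ := S.conj_mem hxne (g := (X * Y) ^ j) (by
        rw [← hXd, hc]; exact S.N.mul_mem hwN (hXd ▸ S.e_mem x))
      rw [← hXd, hc] at hv
      have hwe : w = S.e (v + x) := by rw [S.e_add, ← hv, ← hXd, mul_assoc, hX, mul_one]
      exact S.meet_false hg (fun h => hw1 (by rw [hwe, h, S.e_zero])) (hwe ▸ hwN')
    · have hc : (X * Y) ^ j * X * ((X * Y) ^ j)⁻¹ = w * Y := by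
        rw [pow_conj hX hY, hw, hj, pow_succ, mul_assoc, mul_assoc X Y Y, hY, mul_one]
      have hval : g⁻¹ * (w * Y) * g = g⁻¹ * w * g * u := by rw [hYd]; group
      obtain ⟨v, hv⟩ := S.conj_mem hxne (g := g⁻¹ * (X * Y) ^ j) (by
        rw [hclaim, hc, hval]; exact S.N.mul_mem hwN' hu)
      rw [hclaim, hc, hval] at hv
      -- the conjugate of the involution has the action of `u`
      have hwe : g⁻¹ * w * g = S.e v * u := by rw [← hv, mul_assoc (g⁻¹ * w * g), huu, mul_one]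
      have hg' : g⁻¹ ∉ S.N := fun h => hg (by simpa using S.N.inv_mem h)
      refine S.unique_normaliser (z := g⁻¹ * w * g) hwN' ?_ ?_ ?_ hg' ?_
      · rw [show g⁻¹ * w * g * (g⁻¹ * w * g) = g⁻¹ * (w * w) * g by group, hww]; group
      · intro t ht
        refine huE (v + t) ?_
        rw [S.e_add, ← ht, hwe, ← mul_assoc, S.e_sq, one_mul]
      · refine ⟨x, ?_, fun t ht => hxim t ?_⟩
        · rw [hwe, mul_assoc, hux, ← mul_assoc, S.e_comm, mul_assoc]
        · rw [ht, hwe]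
          obtain ⟨φ, hφ, -⟩ := S.conj u hu
          calc S.e v * u * S.e t * (S.e v * u)⁻¹ * S.e t
              = S.e v * (u * S.e t * u⁻¹) * (S.e v)⁻¹ * S.e t := by group
            _ = _ := by rw [hφ, S.e_comm v, mul_inv_cancel_right]
      · rw [inv_inv, show g * (g⁻¹ * w * g) * g⁻¹ = w by group]; exact hwN
  · have h1 : (X * Y) ^ (2 * m) * (X * Y) = 1 := by rw [← pow_succ, ← hm, pow_orderOf_eq_one]
    have hc : (X * Y) ^ m * X * ((X * Y) ^ m)⁻¹ = Y := by
      rw [pow_conj hX hY, eq_inv_of_mul_eq_one_left h1, _root_.mul_inv_rev, mul_assoc, inv_mul_cancel, mul_one,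
        inv_eq_of_mul_eq_one_left hY]
    have hval : g⁻¹ * Y * g = u := by rw [hYd]; group
    obtain ⟨v, hv⟩ := S.conj_mem hxne (g := g⁻¹ * (X * Y) ^ m) (by rw [hclaim, hc, hval]; exact hu)
    rw [hclaim, hc, hval] at hv
    exact huE v hv


end FusionData

end CfsgLib.Classical22.C6Two
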