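/-
Non-degenerate quadratic spaces over the field with two elements: products of two reflections and a group
they normalise in which no element moves the residue of a fixed singular vector.
-/
import Mathlib

set_option autoImplicit false

namespace CfsgLib.Classical22.C6Two

open Module Submodule

/-- A non-degenerate quadratic space of dimension `2k` over the field with two elements, all of whose totally singular
subspaces have dimension below `w`; `w = k` is the minus type. -/
structure QuadSpace (E : Type*) [AddCommGroup E] [Module (ZMod 2) E] where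
  k : ℕ
  q : E → ZMod 2
  B : LinearMap.BilinForm (ZMod 2) E
  polar : ∀ x y, q (x + y) = q x + q y + B x y
  nondeg : ∀ x, (∀ y, B x y = 0) → x = 0
  dim : finrank (ZMod 2) E = 2 * k
  two_le : 2 ≤ k
  w : ℕ
  room : w + 2 ≤ 2 * k
  bound : ∀ A : Submodule (ZMod 2) E, (∀ x ∈ A, q x = 0) → finrank (ZMod 2) A < w

theorem zmod_two_cases : ∀ t : ZMod 2, t = 0 ∨ t = 1 := by decide

theorem zmod_two_add_self : ∀ t : ZMod 2, t + t = 0 := by decide

theorem zmod_two_ne_zero : ∀ {t : ZMod 2}, t ≠ 0 ↔ t = 1 := by decide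

theorem zmod_two_ne_one : ∀ {t : ZMod 2}, t ≠ 1 ↔ t = 0 := by decide

theorem vec_add_self {E : Type*} [AddCommGroup E] [Module (ZMod 2) E] (x : E) : x + x = 0 := by
  have h : ((1 : ZMod 2) + 1) • x = 0 := by rw [zmod_two_add_self, zero_smul]
  rwa [add_smul, one_smul] at h

theorem vec_eq_of_add {E : Type*} [AddCommGroup E] [Module (ZMod 2) E] {x y : E} (h : x + y = 0) : x = y := by
  calc x = x + (y + y) := by rw [vec_add_self, add_zero]
    _ = x + y + y := by rw [add_assoc]
    _ = y := by rw [h, zero_add]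

namespace QuadSpace

variable {E : Type*} [AddCommGroup E] [Module (ZMod 2) E] (Q : QuadSpace E)

theorem q_zero : Q.q 0 = 0 := by
  have h := Q.polar 0 0
  simp only [add_zero, map_zero, zmod_two_add_self] at h
  exact h

theorem B_self (x : E) : Q.B x x = 0 := by
  have h := Q.polar x x
  rw [vec_add_self, q_zero, zmod_two_add_self, zero_add] at h
  exact h.symm

theorem B_symm (x y : E) : Q.B x y = Q.B y x := by
  have h1 := Q.polar x y
  rw [add_comm x y, Q.polar y x, add_comm (Q.q y) (Q.q x)] at h1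
  exact (add_left_cancel h1).symm

theorem isRefl : Q.B.IsRefl := fun x y h => by rw [Q.B_symm]; exact h

/-- The reflection at a vector. -/
noncomputable def refl (a : E) : E →ₗ[ZMod 2] E := LinearMap.id + (Q.B a).smulRight a

theorem refl_apply (a x : E) : Q.refl a x = x + Q.B a x • a := rfl

theorem refl_fix {a x : E} (h : Q.B a x = 0) : Q.refl a x = x := by rw [refl_apply, h, zero_smul, add_zero]

theorem refl_move {a x : E} (h : Q.B a x = 1) : Q.refl a x = x + a := by rw [refl_apply, h, one_smul]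

theorem refl_refl (a x : E) : Q.refl a (Q.refl a x) = x := by
  rw [refl_apply, refl_apply, map_add, map_smul, B_self, smul_eq_mul, mul_zero, add_zero, add_assoc, vec_add_self,
    add_zero]

theorem B_refl {a : E} (x y : E) : Q.B (Q.refl a x) (Q.refl a y) = Q.B x y := by
  simp only [refl_apply, map_add, LinearMap.add_apply, map_smul, LinearMap.smul_apply, smul_eq_mul, B_self]
  rw [Q.B_symm x a]
  generalize Q.B a x = s
  generalize Q.B a y = t
  generalize Q.B x y = u
  revert s t u
  decide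

theorem q_refl {a : E} (ha : Q.q a = 1) (x : E) : Q.q (Q.refl a x) = Q.q x := by
  rcases zmod_two_cases (Q.B a x) with h | h
  · rw [Q.refl_fix h]
  · rw [Q.refl_move h, Q.polar, ha, Q.B_symm x a, h, add_assoc, zmod_two_add_self, add_zero]

theorem mem_orth_span {s : Set E} {v : E} (h : ∀ x ∈ s, Q.B x v = 0) : v ∈ Q.B.orthogonal (span (ZMod 2) s) := by
  intro x hx
  induction hx using Submodule.span_induction with
  | mem x hx => exact h x hx
  | zero => rw [map_zero, LinearMap.zero_apply]
  | add x y _ _ hx hy =>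
    rw [map_add, LinearMap.add_apply]
    change Q.B x v = 0 at hx
    change Q.B y v = 0 at hy
    rw [hx, hy, add_zero]
  | smul c x _ hx =>
    rw [map_smul, LinearMap.smul_apply]
    change Q.B x v = 0 at hx
    rw [hx, smul_zero]

theorem orth_span_B {s : Set E} {v : E} (hv : v ∈ Q.B.orthogonal (span (ZMod 2) s)) {x : E} (hx : x ∈ s) :
    Q.B x v = 0 := hv x (subset_span hx)

variable [Finite E]

theorem finrank_orth (A : Submodule (ZMod 2) E) :
    finrank (ZMod 2) A + finrank (ZMod 2) (Q.B.orthogonal A) = 2 * Q.k := by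
  have hsl : LinearMap.SeparatingLeft Q.B := fun x hx => Q.nondeg x hx
  have h := LinearMap.BilinForm.finrank_orthogonal (B := Q.B)
    ((LinearMap.IsRefl.nondegenerate_iff_separatingLeft Q.isRefl).mpr hsl) A
  have := Submodule.finrank_le A
  rw [Q.dim] at *
  omega

theorem le_finrank_orth (s : Finset E) : 2 * Q.k ≤ finrank (ZMod 2) (Q.B.orthogonal (span (ZMod 2) (s : Set E))) + s.card := by
  have h1 := Q.finrank_orth (span (ZMod 2) (s : Set E))
  have h2 := finrank_span_finset_le_card (R := ZMod 2) s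
  rw [Set.finrank] at h2
  omega

/-- A vector outside a subspace is separated from it. -/
theorem exists_sep {U : Submodule (ZMod 2) E} {x : E} (hx : x ∉ U) : ∃ v ∈ Q.B.orthogonal U, Q.B v x = 1 := by
  by_contra hcon
  push Not at hcon
  refine hx ?_
  have h1 : U ≤ Q.B.orthogonal (Q.B.orthogonal U) := fun u hu v hv => by
    change Q.B v u = 0
    rw [Q.B_symm]; exact hv u hu
  rw [Submodule.eq_of_le_of_finrank_eq h1
    (by have := Q.finrank_orth U; have := Q.finrank_orth (Q.B.orthogonal U); omega)]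
  exact fun v hv => zmod_two_ne_one.1 (hcon v hv)

theorem exists_B_one {x : E} (hx : x ≠ 0) : ∃ v, Q.B v x = 1 := by
  obtain ⟨v, -, hv⟩ := Q.exists_sep (U := ⊥) (x := x) (by simpa using hx)
  exact ⟨v, hv⟩

omit [Finite E] in
theorem singular_span {s : Set E} (h : ∀ x ∈ s, Q.q x = 0) (ho : ∀ x ∈ s, ∀ y ∈ s, Q.B x y = 0) :
    ∀ x ∈ span (ZMod 2) s, Q.q x = 0 := by
  intro x hx
  suffices hh : Q.q x = 0 ∧ ∀ y ∈ s, Q.B y x = 0 from hh.1
  induction hx using Submodule.span_induction with
  | mem x hx => exact ⟨h x hx, fun y hy => ho y hy x hx⟩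
  | zero => exact ⟨Q.q_zero, fun y _ => map_zero _⟩
  | add a b ha hb iha ihb =>
    refine ⟨?_, fun y hy => by rw [map_add, iha.2 y hy, ihb.2 y hy, add_zero]⟩
    have hab : Q.B a b = 0 :=
      Q.mem_orth_span (fun y hy => ihb.2 y hy) a ha
    rw [Q.polar, iha.1, ihb.1, hab, add_zero, add_zero]
  | smul c a _ ih =>
    rcases zmod_two_cases c with rfl | rfl
    · simp [Q.q_zero]
    · simpa using ih

/-- A large enough subspace orthogonal to a singular one has a non-singular vector. -/
theorem exists_ns {T P : Submodule (ZMod 2) E} (hP : ∀ p ∈ P, Q.q p = 0) (hPT : ∀ p ∈ P, ∀ t ∈ T, Q.B p t = 0)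
    (hd : T ⊓ P = ⊥) (hdim : Q.w ≤ finrank (ZMod 2) T + finrank (ZMod 2) P) : ∃ t ∈ T, Q.q t = 1 := by
  by_contra hcon
  push Not at hcon
  have hs : ∀ v ∈ T ⊔ P, Q.q v = 0 := by
    intro v hv
    obtain ⟨t, ht, p, hp, rfl⟩ := Submodule.mem_sup.1 hv
    rw [Q.polar, zmod_two_ne_one.1 (hcon t ht), hP p hp, Q.B_symm, hPT p hp t ht, add_zero, add_zero]
  have h1 := Q.bound _ hs
  have h2 := Submodule.finrank_sup_add_finrank_inf_eq T P
  rw [hd, finrank_bot, add_zero] at h2
  omega

/-- The same on a coset. -/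
theorem exists_ns_coset {T : Submodule (ZMod 2) E} {v : E} (hv : v ∉ T) {P : Submodule (ZMod 2) E}
    (hP : ∀ p ∈ P, Q.q p = 0) (hPT : ∀ p ∈ P, ∀ t ∈ T, Q.B p t = 0) (hPv : ∀ p ∈ P, Q.B p v = 0)
    (hd : (T ⊔ span (ZMod 2) {v}) ⊓ P = ⊥) (hdim : Q.w ≤ finrank (ZMod 2) T + finrank (ZMod 2) P) :
    ∃ t ∈ T, Q.q (v + t) = 1 := by
  by_contra hcon
  push Not at hcon
  have hq : ∀ t ∈ T, Q.q t = Q.B v t := fun t ht => by
    have h := zmod_two_ne_one.1 (hcon t ht)
    have hv0 := zmod_two_ne_one.1 (hcon 0 T.zero_mem)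
    rw [add_zero] at hv0
    rw [Q.polar, hv0, zero_add] at h
    generalize Q.q t = a at h ⊢
    generalize Q.B v t = b at h ⊢
    revert a b
    decide
  have hv0 : Q.q v = 0 := by
    have h := zmod_two_ne_one.1 (hcon 0 T.zero_mem)
    rwa [add_zero] at h
  obtain ⟨S, hS⟩ : ∃ S, S = T ⊓ Q.B.orthogonal (span (ZMod 2) {v}) := ⟨_, rfl⟩
  have hSo : ∀ t ∈ S, Q.B v t = 0 := fun t ht => by
    rw [hS] at ht; exact Q.orth_span_B ht.2 rfl
  have hS1 : finrank (ZMod 2) T ≤ finrank (ZMod 2) S + 1 := by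
    have h1 := Submodule.finrank_sup_add_finrank_inf_eq T (Q.B.orthogonal (span (ZMod 2) {v}))
    rw [← hS] at h1
    have h2 := Submodule.finrank_le (T ⊔ Q.B.orthogonal (span (ZMod 2) {v}))
    have h3 := Q.finrank_orth (span (ZMod 2) {v})
    have h4 : finrank (ZMod 2) (span (ZMod 2) ({v} : Set E)) = 1 :=
      finrank_span_singleton fun h => hv (h ▸ T.zero_mem)
    rw [Q.dim] at h2
    omega
  have hPsup : ∀ p ∈ P ⊔ span (ZMod 2) {v}, Q.q p = 0 := by
    intro p hp
    obtain ⟨a, ha, b, hb, rfl⟩ := Submodule.mem_sup.1 hp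
    obtain ⟨c, rfl⟩ := Submodule.mem_span_singleton.1 hb
    rcases zmod_two_cases c with rfl | rfl
    · rw [zero_smul, add_zero]; exact hP a ha
    · rw [one_smul, Q.polar, hP a ha, hv0, hPv a ha, add_zero, add_zero]
  have hPS : ∀ p ∈ P ⊔ span (ZMod 2) {v}, ∀ t ∈ S, Q.B p t = 0 := by
    intro p hp t ht
    obtain ⟨a, ha, b, hb, rfl⟩ := Submodule.mem_sup.1 hp
    obtain ⟨c, rfl⟩ := Submodule.mem_span_singleton.1 hb
    rw [map_add, LinearMap.add_apply, map_smul, LinearMap.smul_apply, hSo t ht, smul_zero,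
      hPT a ha t (by rw [hS] at ht; exact ht.1), add_zero]
  have hdS : S ⊓ (P ⊔ span (ZMod 2) {v}) = ⊥ := by
    rw [Submodule.eq_bot_iff]
    rintro t ⟨ht1, ht2⟩
    obtain ⟨a, ha, b, hb, rfl⟩ := Submodule.mem_sup.1 ht2
    have htT : a + b ∈ T := by rw [hS] at ht1; exact ht1.1
    have haz : a = 0 := by
      have : a ∈ (T ⊔ span (ZMod 2) {v}) ⊓ P := ⟨by
        have h := Submodule.sub_mem _ (Submodule.mem_sup_left (T := span (ZMod 2) {v}) htT)
          (Submodule.mem_sup_right (S := T) hb)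
        rwa [add_sub_cancel_right] at h, ha⟩
      rwa [hd, Submodule.mem_bot] at this
    subst haz
    obtain ⟨c, rfl⟩ := Submodule.mem_span_singleton.1 hb
    rcases zmod_two_cases c with rfl | rfl
    · simp
    · rw [zero_add, one_smul] at htT; exact absurd htT hv
  have hsup : finrank (ZMod 2) (P ⊔ span (ZMod 2) {v} : Submodule (ZMod 2) E) = finrank (ZMod 2) P + 1 := by
    have h := Submodule.finrank_sup_add_finrank_inf_eq P (span (ZMod 2) {v})
    have h4 : finrank (ZMod 2) (span (ZMod 2) ({v} : Set E)) = 1 :=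
      finrank_span_singleton fun h => hv (h ▸ T.zero_mem)
    have h5 : P ⊓ span (ZMod 2) {v} = ⊥ := by
      rw [eq_bot_iff, ← hd]
      exact le_inf (inf_le_right.trans le_sup_right) inf_le_left
    rw [h5, finrank_bot, add_zero, h4] at h
    exact h
  obtain ⟨t, ht, ht1⟩ := Q.exists_ns hPsup hPS hdS (by rw [hsup]; omega)
  rw [hq t (by rw [hS] at ht; exact ht.1), hSo t ht] at ht1
  exact zero_ne_one ht1

end QuadSpace

end CfsgLib.Classical22.C6Two
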