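/-
A symplectic group of symplectic type as a quadratic space over the field with two elements.
-/
import Cfsg.Agent.Lib.Classical22.C6Two.Quad
import Cfsg.Agent.Lib.Transvec.Symplectic
import Cfsg.Prelude.Def_GeometricClasses

set_option autoImplicit false

namespace CfsgLib.Classical22.C6Two

open Matrix CfsgLib.Transvec
open scoped MatrixGroups

variable {ι : Type} [Fintype ι] [DecidableEq ι] {F : Type*} [Field F] [Fintype F]

/-- Equality up to sign. -/
def PM (x y : GL ι F) : Prop := x = y ∨ x = -y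

omit [Fintype F] in
theorem PM.rfl' (x : GL ι F) : PM x x := Or.inl rfl

omit [Fintype F] in
theorem PM.symm {x y : GL ι F} (h : PM x y) : PM y x := by
  rcases h with h | h <;> subst h
  · exact Or.inl rfl
  · exact Or.inr (neg_neg y).symm

omit [Fintype F] in
theorem PM.trans {x y z : GL ι F} (h : PM x y) (h' : PM y z) : PM x z := by
  rcases h with h | h <;> subst h <;> rcases h' with h' | h' <;> subst h'
  · exact Or.inl rfl
  · exact Or.inr rfl
  · exact Or.inr rfl
  · exact Or.inl (neg_neg z)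

omit [Fintype F] in
theorem PM.mul {a b c d : GL ι F} (h : PM a b) (h' : PM c d) : PM (a * c) (b * d) := by
  rcases h with h | h <;> rcases h' with h' | h' <;> rw [h, h']
  · exact Or.inl rfl
  · exact Or.inr (mul_neg b d)
  · exact Or.inr (neg_mul b d)
  · exact Or.inl (neg_mul_neg b d)

omit [Fintype F] in
theorem neg_conj (g x : GL ι F) : g * -x * g⁻¹ = -(g * x * g⁻¹) := by rw [mul_neg, neg_mul]

omit [Fintype F] in
theorem PM.conj {x y : GL ι F} (g : GL ι F) (h : PM x y) : PM (g * x * g⁻¹) (g * y * g⁻¹) := by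
  rcases h with h | h <;> subst h
  · exact Or.inl rfl
  · exact Or.inr (neg_conj g y)

omit [Fintype F] in
theorem neg_ne [Nonempty ι] (h2 : (2 : F) ≠ 0) (x : GL ι F) : -x ≠ x := fun h => by
  obtain ⟨i⟩ := ‹Nonempty ι›
  have h1 : (-1 : GL ι F) = 1 := mul_right_cancel (b := x) (by rw [neg_one_mul, one_mul]; exact h)
  have h3 := congrFun (congrFun (congrArg (fun g : GL ι F => (g : Matrix ι ι F)) h1) i) i
  simp at h3
  exact h2 (by linear_combination -h3)

/-- The data of the engine. -/
structure Data (k : ℕ) (f : (ι → F) → (ι → F) → F) (R : Subgroup (GL ι F)) : Prop where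
  bil : Cfsg.Geo.IsBilinearForm f
  nondeg : Cfsg.Geo.IsNondegenerateForm f
  iso : ∀ x ∈ R, Iso f x
  card_index : Fintype.card ι = 2 ^ k
  two_ne : (2 : F) ≠ 0
  two_le : 2 ≤ k
  neg : (-1 : GL ι F) ∈ R
  sq : ∀ a ∈ R, a * a = 1 ∨ a * a = -1
  comm : ∀ a ∈ R, ∀ b ∈ R, a * b = b * a ∨ a * b = -(b * a)
  irr : Cfsg.Geo.ActsAbsolutelyIrreducibly (Cfsg.Geo.matrixSet R)
  card : Nat.card R = 2 ^ (2 * k + 1)
  type : Cfsg.Geo.IsOfMinusType k R ∨ 3 ≤ k

variable {k : ℕ} {f : (ι → F) → (ι → F) → F} {R : Subgroup (GL ι F)}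

namespace Data

variable (hR : Data k f R)
include hR

theorem nonempty : Nonempty ι := Fintype.card_pos_iff.1 (by rw [hR.card_index]; exact pow_pos two_pos k)

theorem neg_mem {x : GL ι F} (hx : x ∈ R) : -x ∈ R := by
  rw [← neg_one_mul]
  exact R.mul_mem hR.neg hx

theorem mem_of_PM {x y : GL ι F} (hy : y ∈ R) (h : PM x y) : x ∈ R := by
  rcases h with h | h <;> subst h
  · exact hy
  · exact hR.neg_mem hy

theorem scalar_iso {g : GL ι F} {c : F} (hc : (g : Matrix ι ι F) = c • 1) (hg : Iso f g) : PM g 1 := by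
  haveI := hR.nonempty
  obtain ⟨i⟩ := hR.nonempty
  have hne : (Pi.single i 1 : ι → F) ≠ 0 := by
    intro h
    have := congrFun h i
    simp at this
  obtain ⟨⟨v, hv⟩, -⟩ := hR.nondeg _ hne
  have h := hg v (Pi.single i 1)
  rw [hc, smul_mulVec, smul_mulVec, one_mulVec, one_mulVec, hR.bil.smul_left,
    hR.bil.smul_right, ← mul_assoc] at h
  rcases mul_self_eq_one_iff.1 (mul_right_cancel₀ hv (h.trans (one_mul _).symm)) with hc1 | hc1
  · exact Or.inl (Units.ext (by rw [hc, hc1, one_smul, Units.val_one]))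
  · exact Or.inr (Units.ext (by rw [hc, hc1, neg_one_smul, Units.val_neg, Units.val_one]))

end Data

/-- A labelling of the group modulo signs by a quadratic space. -/
structure SignFrame (k : ℕ) (R : Subgroup (GL ι F)) where
  Q : QuadSpace (Fin (2 * k) → ZMod 2)
  L : (Fin (2 * k) → ZMod 2) → GL ι F
  k_eq : Q.k = k
  w_minus : Cfsg.Geo.IsOfMinusType k R → Q.w = k
  mem : ∀ e, L e ∈ R
  surj : ∀ x ∈ R, ∃ e, PM x (L e)
  uniq : ∀ e e', PM (L e) (L e') → e = e'
  map_add : ∀ e e', PM (L (e + e')) (L e * L e')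
  comm : ∀ e e', L e * L e' = L e' * L e ↔ Q.B e e' = 0
  sq : ∀ e, L e * L e = 1 ↔ Q.q e = 0

theorem exists_frame (hR : Data k f R) : Nonempty (SignFrame k R) := by
  classical
  haveI := hR.nonempty
  have h2 := hR.two_ne
  obtain ⟨Z, hZ⟩ : ∃ Z : Subgroup R, ∀ x : R, x ∈ Z ↔ PM (x : GL ι F) 1 := by
    refine ⟨{ carrier := {x : R | PM (x : GL ι F) 1}
              one_mem' := Or.inl rfl
              mul_mem' := fun {a b} ha hb => ?_
              inv_mem' := fun {a} ha => ?_ }, fun x => Iff.rfl⟩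
    · have h : PM ((a : GL ι F) * (b : GL ι F)) (1 * 1) := PM.mul ha hb
      rwa [one_mul] at h
    · change PM ((a : GL ι F)⁻¹) 1
      rcases ha with h | h <;> rw [h]
      · exact Or.inl inv_one
      · exact Or.inr (inv_eq_of_mul_eq_one_left (by simp))
  have hcomm : ∀ a b : R, PM ((a : GL ι F) * (b : GL ι F)) ((b : GL ι F) * (a : GL ι F)) := fun a b => hR.comm a a.2 b b.2
  haveI hn : Z.Normal := ⟨fun n hn g => by
    rw [hZ] at hn ⊢
    have h := PM.conj (g : GL ι F) hn
    rwa [mul_one, mul_inv_cancel] at h⟩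
  have hmk : ∀ a b : R, (a : R ⧸ Z) = b ↔ PM (a : GL ι F) b := by
    intro a b
    rw [QuotientGroup.eq, hZ]
    constructor
    · intro h
      have h' := (PM.rfl' (a : GL ι F)).mul h
      rw [Subgroup.coe_mul, Subgroup.coe_inv, mul_inv_cancel_left, mul_one] at h'
      exact h'.symm
    · intro h
      have h' := (PM.rfl' ((a : GL ι F)⁻¹)).mul h
      rw [inv_mul_cancel] at h'
      exact h'.symm
  have hcq : ∀ x y : R ⧸ Z, x * y = y * x := fun x y => by
    induction x using QuotientGroup.induction_on with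
    | _ a => induction y using QuotientGroup.induction_on with
      | _ b => exact (hmk (a * b) (b * a)).2 (hcomm a b)
  have hsq : ∀ x : R ⧸ Z, x * x = 1 := fun x => by
    induction x using QuotientGroup.induction_on with
    | _ a => exact (hmk (a * a) 1).2 (hR.sq a a.2)
  letI : AddCommGroup (Additive (R ⧸ Z)) :=
    { (inferInstance : AddGroup (Additive (R ⧸ Z))) with add_comm := fun x y => hcq _ _ }
  letI : Module (ZMod 2) (Additive (R ⧸ Z)) := AddCommGroup.zmodModule (n := 2) fun x => by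
    rw [two_nsmul]; exact hsq _
  have hZc : Nat.card Z = 2 := by
    rw [Nat.card_eq_two_iff' (⟨1, Z.one_mem⟩ : Z)]
    refine ⟨⟨⟨-1, hR.neg⟩, (hZ _).2 (Or.inr rfl)⟩,
      fun h => neg_ne h2 (1 : GL ι F) (congrArg (fun u : Z => ((u : R) : GL ι F)) h), fun u hu => ?_⟩
    rcases (hZ _).1 u.2 with h | h
    · exact absurd (Subtype.ext (Subtype.ext h)) hu
    · exact Subtype.ext (Subtype.ext h)
  have hA : Nat.card (Additive (R ⧸ Z)) = 2 ^ (2 * k) := by
    have h := Subgroup.card_eq_card_quotient_mul_card_subgroup Z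
    rw [hR.card, hZc, pow_succ] at h
    change Nat.card (R ⧸ Z) = _
    omega
  haveI : Module.Finite (ZMod 2) (Additive (R ⧸ Z)) := Module.Finite.of_finite
  have hfin : Module.finrank (ZMod 2) (Additive (R ⧸ Z)) = 2 * k := by
    have h := Module.natCard_eq_pow_finrank (K := ZMod 2) (V := Additive (R ⧸ Z))
    rw [hA, Nat.card_zmod] at h
    exact (Nat.pow_right_injective le_rfl h).symm
  obtain ⟨φ⟩ : Nonempty (Additive (R ⧸ Z) ≃ₗ[ZMod 2] (Fin (2 * k) → ZMod 2)) :=
    ⟨(Module.finBasisOfFinrankEq (ZMod 2) _ hfin).equivFun⟩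
  obtain ⟨L, hL⟩ : ∃ L : (Fin (2 * k) → ZMod 2) → R, ∀ e, ((L e : R) : R ⧸ Z) = Additive.toMul (φ.symm e) :=
    ⟨fun e => Quotient.out (Additive.toMul (φ.symm e)), fun e => QuotientGroup.out_eq' _⟩
  have hadd : ∀ e e', PM (L (e + e') : GL ι F) ((L e : GL ι F) * (L e' : GL ι F)) := fun e e' => by
    refine (hmk (L (e + e')) (L e * L e')).1 ?_
    rw [QuotientGroup.mk_mul, hL, hL, hL, map_add]
    rfl
  have huniq : ∀ e e', PM (L e : GL ι F) (L e') → e = e' := fun e e' h => by
    have h' := (hmk _ _).2 h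
    rw [hL, hL] at h'
    exact φ.symm.injective h'
  have hsurj : ∀ x ∈ R, ∃ e, PM x (L e : GL ι F) := fun x hx =>
    ⟨φ (Additive.ofMul ((⟨x, hx⟩ : R) : R ⧸ Z)), (hmk ⟨x, hx⟩ _).1 (by rw [hL, LinearEquiv.symm_apply_apply]; rfl)⟩
  obtain ⟨b, hb⟩ : ∃ b : (Fin (2 * k) → ZMod 2) → (Fin (2 * k) → ZMod 2) → ZMod 2, ∀ e e',
      b e e' = if (L e : GL ι F) * (L e' : GL ι F) = L e' * L e then 0 else 1 := ⟨_, fun e e' => rfl⟩
  have hbc : ∀ e e', b e e' = 0 ↔ (L e : GL ι F) * (L e' : GL ι F) = L e' * L e := fun e e' => by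
    rw [hb]; split_ifs with h <;> simp [h]
  have hba : ∀ e e', b e e' = 1 → (L e : GL ι F) * (L e' : GL ι F) = -(L e' * L e) := fun e e' h => by
    refine (hR.comm _ (L e).2 _ (L e').2).resolve_left fun h' => ?_
    rw [(hbc e e').2 h'] at h
    exact zero_ne_one h
  have hbs : ∀ e e', b e e' = b e' e := fun e e' => by
    rw [hb, hb]
    by_cases h : (L e : GL ι F) * (L e' : GL ι F) = L e' * L e
    · rw [if_pos h, if_pos h.symm]
    · rw [if_neg h, if_neg (fun h' => h h'.symm)]
  -- the sign of moving one element past another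
  obtain ⟨s, hs⟩ : ∃ s : ZMod 2 → GL ι F, s 0 = 1 ∧ s 1 = -1 := ⟨fun t => if t = 0 then 1 else -1, by simp, by simp⟩
  have hswap : ∀ e e', (L e : GL ι F) * (L e' : GL ι F) = s (b e e') * (L e' * L e) := fun e e' => by
    rcases zmod_two_cases (b e e') with h | h <;> rw [h]
    · rw [hs.1, one_mul]; exact (hbc e e').1 h
    · rw [hs.2, neg_one_mul]; exact hba e e' h
  have hsc : ∀ t x, s t * x = x * s t := fun t x => by
    rcases zmod_two_cases t with rfl | rfl
    · rw [hs.1, one_mul, mul_one]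
    · rw [hs.2, neg_one_mul, mul_neg_one]
  have hsa : ∀ t u, s (t + u) = s t * s u := fun t u => by
    rcases zmod_two_cases t with rfl | rfl <;> rcases zmod_two_cases u with rfl | rfl
    · rw [add_zero, hs.1, one_mul]
    · rw [zero_add, hs.1, one_mul]
    · rw [add_zero, hs.1, mul_one]
    · rw [zmod_two_add_self, hs.1, hs.2, neg_one_mul, neg_neg]
  have hsi : Function.Injective s := fun t u h => by
    rcases zmod_two_cases t with rfl | rfl <;> rcases zmod_two_cases u with rfl | rfl
    · rfl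
    · rw [hs.1, hs.2] at h; exact absurd h.symm (neg_ne h2 1)
    · rw [hs.1, hs.2] at h; exact absurd h (neg_ne h2 1)
    · rfl
  have hbadd : ∀ e a c, b e (a + c) = b e a + b e c := fun e a c => by
    refine hsi ?_
    have h1 : (L e : GL ι F) * (L a * L c) = s (b e a + b e c) * ((L a * L c) * L e) := by
      calc (L e : GL ι F) * (L a * L c) = s (b e a) * (L a * L e) * L c := by rw [← mul_assoc, hswap e a]
        _ = s (b e a) * (L a : GL ι F) * (L e * L c) := by simp only [mul_assoc]
        _ = s (b e a) * ((L a : GL ι F) * s (b e c)) * (L c * L e) := by rw [hswap e c]; simp only [mul_assoc]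
        _ = _ := by rw [← hsc (b e c), hsa]; simp only [mul_assoc]
    have h2' : (L e : GL ι F) * (L a * L c) = s (b e (a + c)) * ((L a * L c) * L e) := by
      rcases hadd a c with h | h
      · rw [← h]; exact hswap e (a + c)
      · rw [← neg_eq_iff_eq_neg.2 h, mul_neg, neg_mul, mul_neg, hswap e (a + c)]
    exact mul_right_cancel (h2'.symm.trans h1)
  let Bm : LinearMap.BilinForm (ZMod 2) (Fin (2 * k) → ZMod 2) :=
    AddMonoidHom.toZModLinearMap 2 (AddMonoidHom.mk' (fun e => AddMonoidHom.toZModLinearMap 2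
      (AddMonoidHom.mk' (b e) (hbadd e))) fun e e' => LinearMap.ext fun c => by
        change b (e + e') c = b e c + b e' c
        rw [hbs, hbadd, hbs c, hbs c])
  have hBm : ∀ e e', Bm e e' = b e e' := fun e e' => rfl
  obtain ⟨q, hq⟩ : ∃ q : (Fin (2 * k) → ZMod 2) → ZMod 2, ∀ e, s (q e) = (L e : GL ι F) * (L e : GL ι F) :=
    ⟨fun e => if (L e : GL ι F) * (L e : GL ι F) = 1 then 0 else 1, fun e => by
      dsimp only
      split_ifs with h
      · rw [hs.1, h]
      · rw [hs.2, (hR.sq _ (L e).2).resolve_left h]⟩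
  have hpolar : ∀ x y, q (x + y) = q x + q y + Bm x y := by
    intro x y
    refine hsi ?_
    rw [hq, hBm, hsa, hsa, hq, hq, hbs]
    have h : (L (x + y) : GL ι F) * L (x + y) = L x * L y * (L x * L y) := by
      rcases hadd x y with h | h <;> rw [h]
      rw [neg_mul_neg]
    rw [h]
    calc (L x : GL ι F) * (L y : GL ι F) * (L x * L y) = L x * (L y * L x) * L y := by simp only [mul_assoc]
      _ = (L x : GL ι F) * (s (b y x) * (L x * L y)) * L y := by rw [hswap y x]
      _ = _ := by
        rw [← mul_assoc (L x : GL ι F) (s (b y x)), ← hsc]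
        simp only [mul_assoc]
        rw [← mul_assoc (L x : GL ι F) (L x : GL ι F), hsc]
        simp only [mul_assoc]
  have hnd : ∀ x, (∀ y, Bm x y = 0) → x = 0 := by
    intro x hx
    have hc : ∀ a ∈ R, (L x : GL ι F) * a = a * L x := fun a ha => by
      obtain ⟨e, he⟩ := hsurj a ha
      have h := (hbc x e).1 (hx e)
      rcases he with he | he <;> rw [he]
      · exact h
      · rw [mul_neg, neg_mul, h]
    obtain ⟨c, hc'⟩ := hR.irr.2 _ (by
      rintro _ ⟨a, ha, rfl⟩
      exact congrArg Units.val (hc a ha))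
    have h0 : PM (L 0 : GL ι F) 1 := by
      refine (hmk (L 0) 1).1 ?_
      rw [hL, map_zero]; rfl
    exact huniq x 0 ((hR.scalar_iso hc' (hR.iso _ (L x).2)).trans h0.symm)
  obtain ⟨w, hw⟩ : ∃ w, w = if Cfsg.Geo.IsOfMinusType k R then k else k + 1 := ⟨_, rfl⟩
  refine ⟨⟨⟨k, q, Bm, hpolar, hnd, by rw [Module.finrank_fin_fun], hR.two_le, w, ?_, fun A hA => ?_⟩,
    fun e => L e, rfl, fun h => hw.trans (if_pos h), fun e => (L e).2, hsurj, huniq, hadd, fun e e' => (hbc e e').symm.trans (by rw [hBm]),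
    fun e => ?_⟩⟩
  · have := hR.two_le
    rw [hw]
    split_ifs with h
    · omega
    · have := hR.type.resolve_left h
      omega
  · by_cases hminus : Cfsg.Geo.IsOfMinusType k R
    swap
    · -- totally singular subspaces are totally isotropic
      rw [hw, if_neg hminus]
      have hsl : LinearMap.SeparatingLeft Bm := fun x hx => hnd x hx
      have hrefl : Bm.IsRefl := fun x y h => by rw [hBm] at h ⊢; rw [hbs]; exact h
      have h1 := LinearMap.BilinForm.finrank_orthogonal (B := Bm)
        ((LinearMap.IsRefl.nondegenerate_iff_separatingLeft hrefl).mpr hsl) A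
      have h2 : A ≤ Bm.orthogonal A := fun x hx y hy => by
        have h := hpolar y x
        rw [hA _ (A.add_mem hy hx), hA y hy, hA x hx, zero_add, zero_add] at h
        exact h.symm
      have h3 := Submodule.finrank_mono h2
      rw [Module.finrank_fin_fun] at h1
      omega
    -- no totally singular subspace of half dimension
    rw [hw, if_pos hminus]
    by_contra hle
    push Not at hle
    obtain ⟨S, hS⟩ : ∃ S : Subgroup R, ∀ x : R, x ∈ S ↔ ∃ e ∈ A, PM (x : GL ι F) (L e) := by
      refine ⟨{ carrier := {x : R | ∃ e ∈ A, PM (x : GL ι F) (L e)}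
                one_mem' := ⟨0, A.zero_mem, ?_⟩
                mul_mem' := ?_
                inv_mem' := ?_ }, fun x => Iff.rfl⟩
      · rintro x y ⟨e, he, hxe⟩ ⟨e', he', hye⟩
        exact ⟨e + e', A.add_mem he he', (hxe.mul hye).trans (hadd e e').symm⟩
      · refine ((hmk (L 0) 1).1 ?_).symm
        rw [hL, map_zero]; rfl
      · rintro x ⟨e, he, hxe⟩
        refine ⟨e, he, PM.trans ?_ hxe⟩
        change PM ((x : GL ι F)⁻¹) x
        rcases hR.sq _ x.2 with h | h
        · exact Or.inl (inv_eq_of_mul_eq_one_left h)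
        · exact Or.inr (inv_eq_of_mul_eq_one_left (by rw [neg_mul, h, neg_neg]))
    have hinv : ∀ x ∈ S, x * x = 1 := fun x hx => by
      obtain ⟨e, he, hxe⟩ := (hS x).1 hx
      have hqe : (L e : GL ι F) * (L e : GL ι F) = 1 := by rw [← hq, hA e he, hs.1]
      refine Subtype.ext ?_
      change (x : GL ι F) * x = 1
      rcases hxe with h | h <;> rw [h]
      · exact hqe
      · rw [neg_mul_neg, hqe]
    have hab : IsMulCommutative S := ⟨⟨fun x y => Subtype.ext (by
      change (x : R) * y = y * x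
      have h1 := hinv _ (S.mul_mem x.2 y.2)
      have hx := hinv _ x.2
      have hy := hinv _ y.2
      calc (x : R) * y = (x * y)⁻¹ := (inv_eq_of_mul_eq_one_left h1).symm
        _ = y * x := by rw [_root_.mul_inv_rev, Subgroup.coe_mul, Subgroup.coe_inv, Subgroup.coe_inv, inv_eq_of_mul_eq_one_left hx, inv_eq_of_mul_eq_one_left hy])⟩⟩
    have h := hminus S hab hinv
    have hcard : Nat.card A * 2 ≤ Nat.card S := by
      rw [show Nat.card A * 2 = Nat.card (A × Bool) by rw [Nat.card_prod, Nat.card_eq_fintype_card (α := Bool), Fintype.card_bool]]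
      refine Nat.card_le_card_of_injective (fun u : A × Bool =>
        (⟨cond u.2 ⟨-(L u.1 : GL ι F), hR.neg_mem (L u.1).2⟩ (L u.1), (hS _).2 ⟨u.1, u.1.2, by
          cases u.2
          · exact Or.inl rfl
          · exact Or.inr rfl⟩⟩ : S)) ?_
      rintro ⟨a, s1⟩ ⟨a', s2⟩ h
      have h' := congrArg (fun u : S => ((u : R) : GL ι F)) h
      cases s1 <;> cases s2 <;> simp only [cond_true, cond_false] at h'
      · exact Prod.ext (Subtype.ext (huniq _ _ (Or.inl h'))) rfl
      · have := huniq _ _ (Or.inr h')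
        rw [Subtype.ext this] at h'
        exact absurd h'.symm (neg_ne h2 _)
      · have := huniq _ _ (Or.inr (neg_eq_iff_eq_neg.1 h'))
        rw [Subtype.ext this] at h'
        exact absurd h' (neg_ne h2 _)
      · exact Prod.ext (Subtype.ext (huniq _ _ (Or.inl (neg_inj.1 h')))) rfl
    have hA2 := Module.natCard_eq_pow_finrank (K := ZMod 2) (V := A)
    rw [Nat.card_zmod] at hA2
    have := Nat.pow_le_pow_right (show 1 ≤ 2 by norm_num) hle
    rw [pow_succ] at h
    omega
  · constructor
    · intro h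
      exact hsi ((hq e).trans (h.trans hs.1.symm))
    · intro h
      have h' := hq e
      rw [show q e = 0 from h, hs.1] at h'
      exact h'.symm

end CfsgLib.Classical22.C6Two
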