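/-
Signs, conjugation actions and products of two half-twists in a group of symplectic type.
-/
import Cfsg.Agent.Lib.Classical22.C6Two.Data

set_option autoImplicit false

namespace CfsgLib.Classical22.C6Two

open Matrix CfsgLib.Transvec
open scoped MatrixGroups

variable {ι : Type} [Fintype ι] [DecidableEq ι] {F : Type*} [Field F] [Fintype F]
variable {k : ℕ} {f : (ι → F) → (ι → F) → F} {R : Subgroup (GL ι F)}

/-- Conjugation keeps the group inside itself. -/
def Normalises (g : GL ι F) (R : Subgroup (GL ι F)) : Prop := ∀ x ∈ R, g * x * g⁻¹ ∈ R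

theorem normalises_iff (g : GL ι F) : Normalises g R ↔ g ∈ Cfsg.Geo.subgroupNormalizer R := by
  constructor
  · intro h
    haveI : Finite R := inferInstance
    refine Subgroup.mem_normalizer_iff.2 fun x => ⟨fun hx => h x hx, fun hx => ?_⟩
    have hbij : Function.Bijective fun y : R => (⟨g * y * g⁻¹, h y y.2⟩ : R) :=
      Finite.injective_iff_bijective.1 fun a b hab => Subtype.ext (by simpa using congrArg Subtype.val hab)
    obtain ⟨y, hy⟩ := hbij.2 ⟨_, hx⟩
    have : (y : GL ι F) = x := by simpa using congrArg Subtype.val hy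
    exact this ▸ y.2
  · intro h x hx
    exact (Subgroup.mem_normalizer_iff.1 h x).1 hx

/-- `(1 + A)(1 + B)/2` for square roots of `-1`. -/
noncomputable def twist (A B : GL ι F) (hA : A * A = -1) (hB : B * B = -1) (h2 : (2 : F) ≠ 0) : GL ι F where
  val := (2 : F)⁻¹ • ((1 + (A : Matrix ι ι F)) * (1 + (B : Matrix ι ι F)))
  inv := (2 : F)⁻¹ • ((1 - (B : Matrix ι ι F)) * (1 - (A : Matrix ι ι F)))
  val_inv := by
    have ha : (A : Matrix ι ι F) * A = -1 := by rw [← Units.val_mul, hA, Units.val_neg, Units.val_one]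
    have hb : (B : Matrix ι ι F) * B = -1 := by rw [← Units.val_mul, hB, Units.val_neg, Units.val_one]
    have e : ∀ X : Matrix ι ι F, X * X = -1 → (1 + X) * (1 - X) = (2 : F) • (1 : Matrix ι ι F) := fun X h => by
      rw [add_mul, mul_sub, mul_sub, one_mul, one_mul, mul_one, h, two_smul]; abel
    rw [smul_mul_smul_comm, mul_assoc, ← mul_assoc (1 + (B : Matrix ι ι F)), e _ hb, smul_mul_assoc, one_mul,
      mul_smul_comm, e _ ha, smul_smul, smul_smul,
      show (2 : F)⁻¹ * (2 : F)⁻¹ * 2 * 2 = 1 by field_simp, one_smul]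
  inv_val := by
    have ha : (A : Matrix ι ι F) * A = -1 := by rw [← Units.val_mul, hA, Units.val_neg, Units.val_one]
    have hb : (B : Matrix ι ι F) * B = -1 := by rw [← Units.val_mul, hB, Units.val_neg, Units.val_one]
    have e : ∀ X : Matrix ι ι F, X * X = -1 → (1 - X) * (1 + X) = (2 : F) • (1 : Matrix ι ι F) := fun X h => by
      rw [sub_mul, mul_add, mul_add, one_mul, one_mul, mul_one, h, two_smul]; abel
    rw [smul_mul_smul_comm, mul_assoc, ← mul_assoc (1 - (A : Matrix ι ι F)), e _ ha, smul_mul_assoc, one_mul,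
      mul_smul_comm, e _ hb, smul_smul, smul_smul,
      show (2 : F)⁻¹ * (2 : F)⁻¹ * 2 * 2 = 1 by field_simp, one_smul]

section twist

omit [Fintype F]
variable {A B : GL ι F} (hA : A * A = -1) (hB : B * B = -1) (h2 : (2 : F) ≠ 0)

theorem twist_val : ((twist A B hA hB h2 : GL ι F) : Matrix ι ι F) =
    (2 : F)⁻¹ • ((1 + (A : Matrix ι ι F)) * (1 + (B : Matrix ι ι F))) := rfl

theorem twist_commute {g : GL ι F} (hgA : g * A = A * g) (hgB : g * B = B * g) :
    twist A B hA hB h2 * g = g * twist A B hA hB h2 := by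
  have e1 : (g : Matrix ι ι F) * A = A * g := by rw [← Units.val_mul, hgA, Units.val_mul]
  have e2 : (g : Matrix ι ι F) * B = B * g := by rw [← Units.val_mul, hgB, Units.val_mul]
  have c1 : Commute (g : Matrix ι ι F) (1 + (A : Matrix ι ι F)) := (Commute.one_right _).add_right e1
  have c2 : Commute (g : Matrix ι ι F) (1 + (B : Matrix ι ι F)) := (Commute.one_right _).add_right e2
  exact Units.ext (by rw [Units.val_mul, Units.val_mul, twist_val]; exact ((c1.mul_right c2).smul_right _).eq.symm)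

theorem twist_sq (hAB : A * B = B * A) : twist A B hA hB h2 * twist A B hA hB h2 = A * B := by
  have ha : (A : Matrix ι ι F) * A = -1 := by rw [← Units.val_mul, hA, Units.val_neg, Units.val_one]
  have hb : (B : Matrix ι ι F) * B = -1 := by rw [← Units.val_mul, hB, Units.val_neg, Units.val_one]
  have hab : Commute (1 + (B : Matrix ι ι F)) (1 + (A : Matrix ι ι F)) := by
    have h : Commute (B : Matrix ι ι F) A := by
      change (B : Matrix ι ι F) * A = A * B
      rw [← Units.val_mul, ← hAB, Units.val_mul]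
    exact ((Commute.one_left _).add_left ((Commute.one_right _).add_right h))
  have e : ∀ X : Matrix ι ι F, X * X = -1 → (1 + X) * (1 + X) = (2 : F) • X := fun X h => by
    rw [add_mul, mul_add, mul_add, one_mul, one_mul, mul_one, h, two_smul]; abel
  refine Units.ext ?_
  rw [Units.val_mul, Units.val_mul, twist_val, smul_mul_smul_comm, hab.mul_mul_mul_comm, e _ ha, e _ hb,
    smul_mul_smul_comm, smul_smul, show (2 : F)⁻¹ * (2 : F)⁻¹ * (2 * 2) = 1 by field_simp, one_smul]

end twist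

omit [Fintype F] in
/-- A half-twist scales the form by two. -/
theorem oneAdd_form (hf : Cfsg.Geo.IsBilinearForm f) {A : GL ι F} (hA : A * A = -1) (hiso : Iso f A) (u v : ι → F) :
    f ((1 + (A : Matrix ι ι F)) *ᵥ u) ((1 + (A : Matrix ι ι F)) *ᵥ v) = 2 * f u v := by
  have h1 : f ((A : Matrix ι ι F) *ᵥ u) v = - f u ((A : Matrix ι ι F) *ᵥ v) := by
    have h := hiso u ((A : Matrix ι ι F) *ᵥ v)
    rw [mulVec_mulVec, ← Units.val_mul, hA, Units.val_neg, Units.val_one, neg_mulVec, one_mulVec] at h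
    have hneg : f ((A : Matrix ι ι F) *ᵥ u) (-v) = - f ((A : Matrix ι ι F) *ᵥ u) v := by
      rw [← neg_one_smul F v, hf.smul_right, neg_one_mul]
    rw [hneg] at h
    linear_combination -h
  rw [add_mulVec, add_mulVec, one_mulVec, one_mulVec, hf.add_left, hf.add_right,
    hf.add_right, hiso, h1]
  ring

namespace SignFrame

variable (S : SignFrame k R) (hR : Data k f R)
include hR

omit [Fintype F] in
theorem L_zero : PM (S.L 0) 1 := by
  have h := S.map_add 0 0
  rw [add_zero] at h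
  rcases h with h | h
  · exact Or.inl (mul_eq_right.1 h.symm)
  · exact Or.inr (mul_eq_right.1 (show -S.L 0 * S.L 0 = S.L 0 by rw [neg_mul]; exact h.symm) ▸ (neg_neg _).symm)

theorem anti_of {e e' : Fin (2 * k) → ZMod 2} (h : S.Q.B e e' = 1) : S.L e * S.L e' = -(S.L e' * S.L e) :=
  (hR.comm _ (S.mem e) _ (S.mem e')).resolve_left fun h' => by
    rw [(S.comm e e').1 h'] at h
    exact zero_ne_one h

theorem sq_neg {e : Fin (2 * k) → ZMod 2} (h : S.Q.q e = 1) : S.L e * S.L e = -1 :=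
  (hR.sq _ (S.mem e)).resolve_left fun h' => by
    rw [(S.sq e).1 h'] at h
    exact zero_ne_one h

theorem inv_PM (e : Fin (2 * k) → ZMod 2) : PM (S.L e)⁻¹ (S.L e) := by
  rcases hR.sq _ (S.mem e) with h | h
  · exact Or.inl (inv_eq_of_mul_eq_one_left h)
  · exact Or.inr (inv_eq_of_mul_eq_one_left (by rw [neg_mul, h, neg_neg]))

theorem conj_eq (v e : Fin (2 * k) → ZMod 2) :
    S.L v * S.L e * (S.L v)⁻¹ = if S.Q.B v e = 0 then S.L e else -S.L e := by
  split_ifs with h
  · rw [(S.comm v e).2 h, mul_inv_cancel_right]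
  · rw [S.anti_of hR (zmod_two_ne_zero.1 h), neg_mul, mul_inv_cancel_right]

theorem conj_PM (v e : Fin (2 * k) → ZMod 2) : PM (S.L v * S.L e * (S.L v)⁻¹) (S.L e) := by
  rw [S.conj_eq hR]
  split_ifs
  · exact Or.inl rfl
  · exact Or.inr rfl

theorem ne_neg (e : Fin (2 * k) → ZMod 2) : S.L e ≠ -S.L e := by
  haveI := hR.nonempty
  exact (neg_ne hR.two_ne _).symm

omit [Fintype F] hR in
theorem exists_dual (φ : (Fin (2 * k) → ZMod 2) →ₗ[ZMod 2] ZMod 2) : ∃ v, ∀ e, S.Q.B v e = φ e := by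
  have hinj : Function.Injective (S.Q.B : (Fin (2 * k) → ZMod 2) →ₗ[ZMod 2] _) := by
    rw [← LinearMap.ker_eq_bot, Submodule.eq_bot_iff]
    intro x hx
    exact S.Q.nondeg x fun y => by rw [LinearMap.mem_ker.1 hx]; rfl
  obtain ⟨v, hv⟩ := (LinearMap.injective_iff_surjective_of_finrank_eq_finrank (by
    rw [Subspace.dual_finrank_eq])).1 hinj φ
  exact ⟨v, fun e => LinearMap.congr_fun hv e⟩

/-- An element fixing every member up to sign is a scalar times a member. -/
theorem matrix_of_fix {g : GL ι F} (hg : ∀ e, PM (g * S.L e * g⁻¹) (S.L e)) :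
    ∃ (v : Fin (2 * k) → ZMod 2) (c : F), (g : Matrix ι ι F) = c • (S.L v : Matrix ι ι F) := by
  haveI := hR.nonempty
  classical
  obtain ⟨χ, hχ⟩ : ∃ χ : (Fin (2 * k) → ZMod 2) → ZMod 2, ∀ e,
      g * S.L e * g⁻¹ = if χ e = 0 then S.L e else -S.L e := by
    refine ⟨fun e => if g * S.L e * g⁻¹ = S.L e then 0 else 1, fun e => ?_⟩
    rcases hg e with h | h
    · simp [h]
    · simp [h, (S.ne_neg hR e).symm]
  have hadd : ∀ e e', χ (e + e') = χ e + χ e' := by
    intro e e'
    have h1 : g * (S.L e * S.L e') * g⁻¹ = if χ e + χ e' = 0 then S.L e * S.L e' else -(S.L e * S.L e') := by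
      rw [show g * (S.L e * S.L e') * g⁻¹ = (g * S.L e * g⁻¹) * (g * S.L e' * g⁻¹) by group, hχ, hχ]
      rcases zmod_two_cases (χ e) with h | h <;> rcases zmod_two_cases (χ e') with h' | h' <;>
        simp [h, h', zmod_two_add_self]
    have h2 := hχ (e + e')
    have hne : ∀ y : GL ι F, y ≠ -y := fun y => (neg_ne hR.two_ne y).symm
    rcases zmod_two_cases (χ (e + e')) with h | h <;> rcases zmod_two_cases (χ e + χ e') with h' | h' <;>
      rw [h, h'] <;> simp only [h, h', if_true, one_ne_zero, if_false] at h1 h2 <;>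
      rcases S.map_add e e' with hm | hm <;> rw [hm] at h2
    · exact absurd (h2.symm.trans h1) (hne _)
    · rw [neg_conj, h1, neg_neg] at h2; exact absurd h2.symm (hne _).symm
    · exact absurd (h1.symm.trans h2) (hne _)
    · rw [neg_conj, h1, neg_neg] at h2; exact absurd h2.symm (hne _)
  obtain ⟨v, hv⟩ := S.exists_dual (AddMonoidHom.toZModLinearMap 2 (AddMonoidHom.mk' χ hadd))
  have hc : ∀ e, ((S.L v)⁻¹ * g) * S.L e = S.L e * ((S.L v)⁻¹ * g) := by
    intro e
    have h : g * S.L e * g⁻¹ = S.L v * S.L e * (S.L v)⁻¹ := by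
      rw [hχ, S.conj_eq hR, show S.Q.B v e = χ e from hv e]
    calc (S.L v)⁻¹ * g * S.L e = (S.L v)⁻¹ * (g * S.L e * g⁻¹) * g := by group
      _ = _ := by rw [h]; group
  obtain ⟨c, hc'⟩ := hR.irr.2 (((S.L v)⁻¹ * g : GL ι F) : Matrix ι ι F) (by
    rintro _ ⟨x, hx, rfl⟩
    obtain ⟨e, he⟩ := S.surj x hx
    refine congrArg Units.val (?_ : (S.L v)⁻¹ * g * x = x * ((S.L v)⁻¹ * g))
    rcases he with rfl | rfl
    · exact hc e
    · rw [mul_neg, neg_mul, hc])
  refine ⟨v, c, ?_⟩
  rw [show g = S.L v * ((S.L v)⁻¹ * g) by group, Units.val_mul, hc', mul_smul_comm, mul_one]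

/-- An isometry fixing every member up to sign belongs to the group. -/
theorem fix_mem {g : GL ι F} (hiso : Iso f g) (hg : ∀ e, PM (g * S.L e * g⁻¹) (S.L e)) :
    ∃ v, PM g (S.L v) := by
  obtain ⟨v, c, hc⟩ := S.matrix_of_fix hR hg
  have h : (((S.L v)⁻¹ * g : GL ι F) : Matrix ι ι F) = c • 1 := by
    rw [Units.val_mul, hc, mul_smul_comm, Units.inv_mul]
  have h' := (PM.rfl' (S.L v)).mul (hR.scalar_iso h ((hR.iso _ (S.mem v)).inv.mul hiso))
  rw [mul_inv_cancel_left, mul_one] at h'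
  exact ⟨v, h'⟩

/-- The action of a normalising element. -/
theorem exists_act {g : GL ι F} (hg : Normalises g R) :
    ∃ φ : (Fin (2 * k) → ZMod 2) ≃ₗ[ZMod 2] (Fin (2 * k) → ZMod 2),
      (∀ e, PM (g * S.L e * g⁻¹) (S.L (φ e))) ∧ ∀ e, S.Q.q (φ e) = S.Q.q e := by
  have hex : ∀ e, ∃ e', PM (g * S.L e * g⁻¹) (S.L e') := fun e => S.surj _ (hg _ (S.mem e))
  choose φ hφ using hex
  have hadd : ∀ e e', φ (e + e') = φ e + φ e' := fun e e' => S.uniq _ _ <| by
    have h1 : PM (g * (S.L e * S.L e') * g⁻¹) (S.L (φ e) * S.L (φ e')) := by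
      rw [show g * (S.L e * S.L e') * g⁻¹ = (g * S.L e * g⁻¹) * (g * S.L e' * g⁻¹) by group]
      exact (hφ e).mul (hφ e')
    exact (hφ (e + e')).symm.trans (((S.map_add e e').conj g).trans (h1.trans (S.map_add _ _).symm))
  have hinj : Function.Injective φ := fun e e' h => S.uniq _ _ <| by
    have h1 := ((hφ e).trans (h ▸ (hφ e').symm)).conj g⁻¹
    rwa [show g⁻¹ * (g * S.L e * g⁻¹) * g⁻¹⁻¹ = S.L e by group,
      show g⁻¹ * (g * S.L e' * g⁻¹) * g⁻¹⁻¹ = S.L e' by group] at h1
  refine ⟨LinearEquiv.ofBijective (AddMonoidHom.toZModLinearMap 2 (AddMonoidHom.mk' φ hadd))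
    (Finite.injective_iff_bijective.1 hinj), hφ, fun e => ?_⟩
  have hsq : S.L (φ e) * S.L (φ e) = g * (S.L e * S.L e) * g⁻¹ := by
    rw [show g * (S.L e * S.L e) * g⁻¹ = (g * S.L e * g⁻¹) * (g * S.L e * g⁻¹) by group]
    rcases hφ e with h | h <;> rw [h]
    rw [neg_mul_neg]
  change S.Q.q (φ e) = S.Q.q e
  rcases zmod_two_cases (S.Q.q e) with h | h
  · rw [h]
    refine (S.sq _).1 ?_
    rw [hsq, (S.sq e).2 h, mul_one, mul_inv_cancel]
  · rw [h]
    refine zmod_two_ne_zero.1 fun h' => ?_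
    rw [(S.sq _).2 h', S.sq_neg hR h, neg_conj, mul_one, mul_inv_cancel] at hsq
    haveI := hR.nonempty
    exact neg_ne hR.two_ne _ hsq.symm

/-- Conjugation by one half-twist. -/
theorem oneAdd_conj {a e : Fin (2 * k) → ZMod 2} (ha : S.Q.q a = 1) {x : GL ι F} (hx : PM x (S.L e)) :
    ∃ y : GL ι F, PM y (S.L (S.Q.refl a e)) ∧
      (1 + (S.L a : Matrix ι ι F)) * (x : Matrix ι ι F) * (1 - (S.L a : Matrix ι ι F)) = (2 : F) • (y : Matrix ι ι F) := by
  have hA : (S.L a : Matrix ι ι F) * S.L a = -1 := by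
    rw [← Units.val_mul, S.sq_neg hR ha, Units.val_neg, Units.val_one]
  rcases zmod_two_cases (S.Q.B a e) with h | h
  · refine ⟨x, by rw [S.Q.refl_fix h]; exact hx, ?_⟩
    have hc : (S.L a : Matrix ι ι F) * x = x * S.L a := by
      rw [← Units.val_mul, ← Units.val_mul]
      congr 1
      rcases hx with hx | hx <;> rw [hx]
      · exact (S.comm a e).2 h
      · rw [mul_neg, neg_mul, (S.comm a e).2 h]
    calc (1 + (S.L a : Matrix ι ι F)) * x * (1 - (S.L a : Matrix ι ι F))
        = x * ((1 + (S.L a : Matrix ι ι F)) * (1 - (S.L a : Matrix ι ι F))) := by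
          rw [← mul_assoc, add_mul, hc, one_mul, mul_add, mul_one]
      _ = _ := by
          rw [show (1 + (S.L a : Matrix ι ι F)) * (1 - (S.L a : Matrix ι ι F)) = (2 : F) • (1 : Matrix ι ι F) by
            rw [add_mul, mul_sub, mul_sub, one_mul, one_mul, mul_one, hA, two_smul]; abel, mul_smul_comm, mul_one]
  · refine ⟨S.L a * x, ?_, ?_⟩
    · rw [S.Q.refl_move h]
      have h1 : PM (S.L a * x) (S.L a * S.L e) := (PM.rfl' _).mul hx
      exact h1.trans (by rw [add_comm]; exact (S.map_add a e).symm)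
    have hc : (x : Matrix ι ι F) * S.L a = -((S.L a : Matrix ι ι F) * x) := by
      rw [← Units.val_mul, ← Units.val_mul, ← Units.val_neg]
      congr 1
      rw [eq_comm, neg_eq_iff_eq_neg]
      rcases hx with hx | hx <;> rw [hx]
      · exact S.anti_of hR h
      · rw [mul_neg, neg_mul, S.anti_of hR h, neg_neg]
    rw [Units.val_mul, mul_sub, mul_one, add_mul, one_mul, add_mul, hc, mul_assoc (S.L a : Matrix ι ι F), hc, mul_neg,
      ← mul_assoc, hA, neg_one_mul, neg_neg, two_smul]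
    abel

omit [Fintype F] in
theorem twist_iso {A B : GL ι F} (hA : A * A = -1) (hB : B * B = -1) (hAi : Iso f A) (hBi : Iso f B) :
    Iso f (twist A B hA hB hR.two_ne) := by
  intro u v
  rw [twist_val, smul_mulVec, smul_mulVec, ← mulVec_mulVec, ← mulVec_mulVec, hR.bil.smul_left,
    hR.bil.smul_right, oneAdd_form hR.bil hA hAi, oneAdd_form hR.bil hB hBi]
  have := hR.two_ne
  field_simp

/-- The twist at two non-singular vectors. -/
noncomputable def tw (a b : Fin (2 * k) → ZMod 2) (ha : S.Q.q a = 1) (hb : S.Q.q b = 1) : GL ι F :=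
  twist (S.L a) (S.L b) (S.sq_neg hR ha) (S.sq_neg hR hb) hR.two_ne

variable {a b : Fin (2 * k) → ZMod 2} (ha : S.Q.q a = 1) (hb : S.Q.q b = 1)

theorem tw_iso : Iso f (S.tw hR a b ha hb) :=
  SignFrame.twist_iso hR _ _ (hR.iso _ (S.mem a)) (hR.iso _ (S.mem b))

/-- The twist acts as two reflections. -/
theorem tw_act (e : Fin (2 * k) → ZMod 2) :
    PM (S.tw hR a b ha hb * S.L e * (S.tw hR a b ha hb)⁻¹) (S.L (S.Q.refl a (S.Q.refl b e))) := by
  obtain ⟨y, hy, hy'⟩ := S.oneAdd_conj hR hb (PM.rfl' (S.L e))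
  obtain ⟨z, hz, hz'⟩ := S.oneAdd_conj hR ha hy
  have h : S.tw hR a b ha hb * S.L e * (S.tw hR a b ha hb)⁻¹ = z := by
    refine Units.ext ?_
    rw [Units.val_mul, Units.val_mul]
    change (2 : F)⁻¹ • ((1 + (S.L a : Matrix ι ι F)) * (1 + (S.L b : Matrix ι ι F))) * (S.L e : Matrix ι ι F) *
      ((2 : F)⁻¹ • ((1 - (S.L b : Matrix ι ι F)) * (1 - (S.L a : Matrix ι ι F)))) = _
    rw [smul_mul_assoc, smul_mul_smul_comm,
      show (1 + (S.L a : Matrix ι ι F)) * (1 + (S.L b : Matrix ι ι F)) * (S.L e : Matrix ι ι F) *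
        ((1 - (S.L b : Matrix ι ι F)) * (1 - (S.L a : Matrix ι ι F))) = (1 + (S.L a : Matrix ι ι F)) *
        ((1 + (S.L b : Matrix ι ι F)) * (S.L e : Matrix ι ι F) * (1 - (S.L b : Matrix ι ι F))) *
        (1 - (S.L a : Matrix ι ι F)) by simp only [mul_assoc],
      hy', mul_smul_comm, smul_mul_assoc, hz', smul_smul, smul_smul]
    have := hR.two_ne
    rw [show (2 : F)⁻¹ * (2 : F)⁻¹ * 2 * 2 = 1 by field_simp, one_smul]
  rw [h]
  exact hz

theorem tw_normalises : Normalises (S.tw hR a b ha hb) R := by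
  intro x hx
  obtain ⟨e, he⟩ := S.surj x hx
  exact hR.mem_of_PM (S.mem _) ((he.conj _).trans (S.tw_act hR ha hb e))

end SignFrame

end CfsgLib.Classical22.C6Two
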