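/-
Transitivity of products of two reflections on singular and on non-singular vectors.
-/
import Cfsg.Agent.Lib.Classical22.C6Two.Quad

set_option autoImplicit false

namespace CfsgLib.Classical22.C6Two

open Module Submodule

namespace QuadSpace

variable {E : Type*} [AddCommGroup E] [Module (ZMod 2) E] (Q : QuadSpace E)

omit Q in
theorem mem_span_pair_two {x y v : E} (h : v ∈ span (ZMod 2) ({x, y} : Set E)) :
    v = 0 ∨ v = x ∨ v = y ∨ v = x + y := by
  obtain ⟨a, b, rfl⟩ := Submodule.mem_span_pair.1 h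
  rcases zmod_two_cases a with rfl | rfl <;> rcases zmod_two_cases b with rfl | rfl <;> simp

omit Q in
theorem mem_span_single_two {x v : E} (h : v ∈ span (ZMod 2) ({x} : Set E)) : v = 0 ∨ v = x := by
  obtain ⟨a, rfl⟩ := Submodule.mem_span_singleton.1 h
  rcases zmod_two_cases a with rfl | rfl <;> simp

omit Q in
theorem finrank_pair {x y : E} (hx : x ≠ 0) (hy : y ≠ 0) (hxy : x ≠ y) :
    finrank (ZMod 2) (span (ZMod 2) ({x, y} : Set E)) = 2 := by
  have hdis : span (ZMod 2) ({x} : Set E) ⊓ span (ZMod 2) {y} = ⊥ := by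
    rw [Submodule.eq_bot_iff]
    rintro v ⟨h1, h2⟩
    rcases mem_span_single_two h1 with h | h
    · exact h
    · rcases mem_span_single_two h2 with h' | h'
      · exact h'
      · exact absurd (h.symm.trans h') hxy
  haveI : Module.Finite (ZMod 2) (span (ZMod 2) ({x} : Set E)) := Module.Finite.span_of_finite _ (Set.finite_singleton x)
  haveI : Module.Finite (ZMod 2) (span (ZMod 2) ({y} : Set E)) := Module.Finite.span_of_finite _ (Set.finite_singleton y)
  have h := Submodule.finrank_sup_add_finrank_inf_eq (span (ZMod 2) ({x} : Set E)) (span (ZMod 2) {y})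
  rw [hdis, finrank_bot, add_zero, finrank_span_singleton hx, finrank_span_singleton hy] at h
  rw [Submodule.span_insert]
  exact h

variable [Finite E]

/-- A non-singular vector orthogonal to a hyperbolic pair, with a prescribed value on a given orthogonal vector. -/
theorem exists_ns_one {x y w : E} (hx : Q.q x = 0) (hy : Q.q y = 0) (hxy : Q.B x y = 1) (hwx : Q.B x w = 0)
    (hwy : Q.B y w = 0) (hw : w ≠ 0) : ∃ a, Q.B x a = 0 ∧ Q.B y a = 0 ∧ Q.B w a = 1 ∧ Q.q a = 1 := by
  classical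
  have hwU : w ∉ span (ZMod 2) ({x, y} : Set E) := by
    intro h
    rcases mem_span_pair_two h with h | h | h | h
    · exact hw h
    · subst h; rw [Q.B_symm, hxy] at hwy; exact one_ne_zero hwy
    · subst h; rw [hxy] at hwx; exact one_ne_zero hwx
    · subst h; rw [map_add, Q.B_self, hxy, zero_add] at hwx; exact one_ne_zero hwx
  obtain ⟨v, hv, hvw⟩ := Q.exists_sep hwU
  have hxU : x ∉ span (ZMod 2) ({w} : Set E) := by
    intro h
    rcases mem_span_single_two h with h | h
    · rw [h, map_zero, LinearMap.zero_apply] at hxy; exact zero_ne_one hxy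
    · exact hwU (h ▸ subset_span (Set.mem_insert x _))
  obtain ⟨T, hT⟩ : ∃ T, T = Q.B.orthogonal (span (ZMod 2) (({x, y, w} : Finset E) : Set E)) := ⟨_, rfl⟩
  have hTB : ∀ t ∈ T, Q.B x t = 0 ∧ Q.B y t = 0 ∧ Q.B w t = 0 := fun t ht => by
    rw [hT] at ht
    exact ⟨Q.orth_span_B ht (by simp), Q.orth_span_B ht (by simp), Q.orth_span_B ht (by simp)⟩
  have hvT : v ∉ T := fun h => by
    have h' := (hTB v h).2.2
    rw [Q.B_symm, hvw] at h'
    exact one_ne_zero h'
  have hvx : Q.B x v = 0 := Q.orth_span_B hv (by simp)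
  have hvy : Q.B y v = 0 := Q.orth_span_B hv (by simp)
  obtain ⟨t, ht, hq⟩ := Q.exists_ns_coset hvT (P := span (ZMod 2) {x})
    (Q.singular_span (by simpa using hx) (by simp [Q.B_self]))
    (fun p hp t ht => by
      rcases mem_span_single_two hp with rfl | rfl
      · simp
      · exact (hTB t ht).1)
    (fun p hp => by
      rcases mem_span_single_two hp with rfl | rfl
      · simp
      · exact hvx)
    (by
      rw [Submodule.eq_bot_iff]
      rintro p ⟨hp1, hp2⟩
      rcases mem_span_single_two hp2 with h | h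
      · exact h
      · exfalso
        obtain ⟨t, ht, b, hb, htb⟩ := Submodule.mem_sup.1 hp1
        have h1 : Q.B y p = 0 := by
          rw [← htb, map_add, (hTB t ht).2.1]
          rcases mem_span_single_two hb with rfl | rfl <;> simp [hvy]
        rw [h, Q.B_symm, hxy] at h1
        exact one_ne_zero h1)
    (by
      have h1 := Q.le_finrank_orth {x, y, w}
      rw [← hT] at h1
      have h2 : ({x, y, w} : Finset E).card ≤ 3 := Finset.card_le_three
      have := Q.two_le; have := Q.room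
      have hx0 : x ≠ 0 := fun h => hxU (by rw [h]; exact Submodule.zero_mem _)
      rw [finrank_span_singleton hx0]
      omega)
  obtain ⟨t1, t2, t3⟩ := hTB t ht
  refine ⟨v + t, ?_, ?_, ?_, hq⟩
  · rw [map_add, hvx, t1, add_zero]
  · rw [map_add, hvy, t2, add_zero]
  · rw [map_add, Q.B_symm w v, hvw, t3, add_zero]

/-- A non-singular vector orthogonal to a hyperbolic pair and to a given orthogonal vector. -/
theorem exists_ns_zero {x y w : E} (hx : Q.q x = 0) (hy : Q.q y = 0) (hxy : Q.B x y = 1) (hwx : Q.B x w = 0)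
    (hwy : Q.B y w = 0) : ∃ a, Q.B x a = 0 ∧ Q.B y a = 0 ∧ Q.B w a = 0 ∧ Q.q a = 1 := by
  classical
  rcases zmod_two_cases (Q.q w) with hw | hw
  swap
  · exact ⟨w, hwx, hwy, Q.B_self w, hw⟩
  obtain ⟨T, hT⟩ : ∃ T, T = Q.B.orthogonal (span (ZMod 2) (({x, y, w} : Finset E) : Set E)) := ⟨_, rfl⟩
  have hTB : ∀ t ∈ T, Q.B x t = 0 ∧ Q.B y t = 0 ∧ Q.B w t = 0 := fun t ht => by
    rw [hT] at ht
    exact ⟨Q.orth_span_B ht (by simp), Q.orth_span_B ht (by simp), Q.orth_span_B ht (by simp)⟩
  obtain ⟨a, ha, hq⟩ := Q.exists_ns (T := T) (P := span (ZMod 2) {x})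
    (Q.singular_span (by simpa using hx) (by simp [Q.B_self]))
    (fun p hp t ht => by
      rcases mem_span_single_two hp with rfl | rfl
      · simp
      · exact (hTB t ht).1)
    (by
      rw [Submodule.eq_bot_iff]
      rintro p ⟨hp1, hp2⟩
      rcases mem_span_single_two hp2 with h | h
      · exact h
      · exfalso
        have h1 := (hTB p hp1).2.1
        rw [h, Q.B_symm, hxy] at h1
        exact one_ne_zero h1)
    (by
      have h1 := Q.le_finrank_orth {x, y, w}
      rw [← hT] at h1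
      have h2 : ({x, y, w} : Finset E).card ≤ 3 := Finset.card_le_three
      have := Q.two_le; have := Q.room
      have hx0 : x ≠ 0 := fun h => by
        rw [h, map_zero, LinearMap.zero_apply] at hxy; exact zero_ne_one hxy
      rw [finrank_span_singleton hx0]
      omega)
  exact ⟨a, (hTB a ha).1, (hTB a ha).2.1, (hTB a ha).2.2, hq⟩

omit [Finite E] in
/-- The reflection in the sum of a hyperbolic pair interchanges it. -/
theorem refl_swap {x y : E} (hxy : Q.B x y = 1) :
    Q.refl (x + y) x = y ∧ Q.refl (x + y) y = x := by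
  have h1 : Q.B (x + y) x = 1 := by rw [map_add, LinearMap.add_apply, Q.B_self, zero_add, Q.B_symm, hxy]
  have h2 : Q.B (x + y) y = 1 := by rw [map_add, LinearMap.add_apply, hxy, Q.B_self, add_zero]
  exact ⟨by rw [Q.refl_move h1, ← add_assoc, vec_add_self, zero_add],
    by rw [Q.refl_move h2, add_comm x y, ← add_assoc, vec_add_self, zero_add]⟩

/-- A property preserved by products of two reflections is constant on non-zero singular vectors. -/
theorem singular_transport {P : E → Prop}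
    (hP : ∀ a b x, Q.q a = 1 → Q.q b = 1 → P x → P (Q.refl a (Q.refl b x)))
    {x y : E} (hx0 : x ≠ 0) (hy0 : y ≠ 0) (hx : Q.q x = 0) (hy : Q.q y = 0) (h : P x) : P y := by
  have hone : ∀ u v : E, Q.q u = 0 → Q.q v = 0 → Q.B u v = 1 → P u → P v := by
    intro u v hu hv huv hPu
    obtain ⟨c, hc1, -, -, hc⟩ := Q.exists_ns_zero hu hv huv (w := 0) (map_zero _) (map_zero _)
    have := hP (u + v) c u (by rw [Q.polar, hu, hv, huv, zero_add, zero_add]) hc hPu
    rwa [Q.refl_fix (a := c) (x := u) (by rw [Q.B_symm]; exact hc1), (Q.refl_swap huv).1] at this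
  by_cases hxy : x = y
  · rwa [← hxy]
  rcases zmod_two_cases (Q.B x y) with hB | hB
  swap
  · exact hone x y hx hy hB h
  have hx' : x ∉ span (ZMod 2) ({y} : Set E) := fun h' =>
    (mem_span_single_two h').elim hx0 hxy
  have hy' : y ∉ span (ZMod 2) ({x} : Set E) := fun h' =>
    (mem_span_single_two h').elim hy0 (Ne.symm hxy)
  obtain ⟨v1, hv1, hv1x⟩ := Q.exists_sep hx'
  obtain ⟨v2, hv2, hv2y⟩ := Q.exists_sep hy'
  have hv1y : Q.B y v1 = 0 := Q.orth_span_B hv1 rfl
  have hv2x : Q.B x v2 = 0 := Q.orth_span_B hv2 rfl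
  rw [Q.B_symm] at hv1x hv2y
  obtain ⟨z, hz, hzx, hzy⟩ : ∃ z, Q.q z = 0 ∧ Q.B x z = 1 ∧ Q.B y z = 1 := by
    rcases zmod_two_cases (Q.q (v1 + v2)) with hq | hq
    · exact ⟨v1 + v2, hq, by rw [map_add, hv1x, hv2x, add_zero], by rw [map_add, hv1y, hv2y, zero_add]⟩
    · refine ⟨v1 + v2 + x, ?_, ?_, ?_⟩
      · rw [Q.polar, hq, hx, Q.B_symm, map_add, hv1x, hv2x]; decide
      · rw [map_add, map_add, hv1x, hv2x, Q.B_self]; decide
      · rw [map_add, map_add, hv1y, hv2y, Q.B_symm y x, hB]; decide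
  exact hone z y hz hy (by rw [Q.B_symm]; exact hzy) (hone x z hx hz hzx h)

/-- The same inside the orthogonal of a non-singular vector. -/
theorem singular_transport_orth {a0 : E} (ha0 : Q.q a0 = 1) {P : E → Prop}
    (hP : ∀ a b x, Q.q a = 1 → Q.q b = 1 → Q.B a0 a = 0 → Q.B a0 b = 0 → P x → P (Q.refl a (Q.refl b x)))
    {x y : E} (hx0 : x ≠ 0) (hy0 : y ≠ 0) (hx : Q.q x = 0) (hy : Q.q y = 0) (hxa : Q.B a0 x = 0) (hya : Q.B a0 y = 0)
    (h : P x) : P y := by
  have hone : ∀ u v : E, Q.q u = 0 → Q.q v = 0 → Q.B u v = 1 → Q.B a0 u = 0 → Q.B a0 v = 0 → P u → P v := by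
    intro u v hu hv huv hua hva hPu
    have := hP (u + v) a0 u (by rw [Q.polar, hu, hv, huv, zero_add, zero_add]) ha0
      (by rw [map_add, hua, hva, add_zero]) (Q.B_self a0) hPu
    rwa [Q.refl_fix hua, (Q.refl_swap huv).1] at this
  by_cases hxy : x = y
  · rwa [← hxy]
  rcases zmod_two_cases (Q.B x y) with hB | hB
  swap
  · exact hone x y hx hy hB hxa hya h
  have key : ∀ {u v : E}, u ≠ 0 → u ≠ v → Q.q u = 0 → Q.q v = 0 → Q.B u v = 0 → u ∉ span (ZMod 2) ({v, a0} : Set E) := by
    intro u v hu0 huv hu hv huvB h'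
    rcases mem_span_pair_two h' with h' | h' | h' | h'
    · exact hu0 h'
    · exact huv h'
    · rw [h', ha0] at hu; exact one_ne_zero hu
    · have e : a0 = u + v := by rw [h', add_comm v a0, add_assoc, vec_add_self, add_zero]
      rw [e, Q.polar, hu, hv, huvB, add_zero, add_zero] at ha0
      exact zero_ne_one ha0
  obtain ⟨v1, hv1, hv1x⟩ := Q.exists_sep (key hx0 hxy hx hy hB)
  obtain ⟨v2, hv2, hv2y⟩ := Q.exists_sep (key hy0 (Ne.symm hxy) hy hx (by rw [Q.B_symm]; exact hB))
  have hv1y : Q.B y v1 = 0 := Q.orth_span_B hv1 (by simp)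
  have hv1a : Q.B a0 v1 = 0 := Q.orth_span_B hv1 (by simp)
  have hv2x : Q.B x v2 = 0 := Q.orth_span_B hv2 (by simp)
  have hv2a : Q.B a0 v2 = 0 := Q.orth_span_B hv2 (by simp)
  rw [Q.B_symm] at hv1x hv2y
  obtain ⟨z, hz, hzx, hzy, hza⟩ : ∃ z, Q.q z = 0 ∧ Q.B x z = 1 ∧ Q.B y z = 1 ∧ Q.B a0 z = 0 := by
    rcases zmod_two_cases (Q.q (v1 + v2)) with hq | hq
    · exact ⟨v1 + v2, hq, by rw [map_add, hv1x, hv2x, add_zero], by rw [map_add, hv1y, hv2y, zero_add],
        by rw [map_add, hv1a, hv2a, add_zero]⟩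
    · refine ⟨v1 + v2 + x, ?_, ?_, ?_, ?_⟩
      · rw [Q.polar, hq, hx, Q.B_symm, map_add, hv1x, hv2x]; decide
      · rw [map_add, map_add, hv1x, hv2x, Q.B_self]; decide
      · rw [map_add, map_add, hv1y, hv2y, Q.B_symm y x, hB]; decide
      · rw [map_add, map_add, hv1a, hv2a, hxa]; decide
  exact hone z y hz hy (by rw [Q.B_symm]; exact hzy) hza hya (hone x z hx hz hzx hxa hza h)

/-- A property preserved by products of two reflections is constant on non-singular vectors. -/
theorem nonsingular_transport {P : E → Prop}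
    (hP : ∀ a b x, Q.q a = 1 → Q.q b = 1 → P x → P (Q.refl a (Q.refl b x)))
    {x y : E} (hx : Q.q x = 1) (hy : Q.q y = 1) (h : P x) : P y := by
  classical
  have hne : ∀ {u : E}, Q.q u = 1 → u ≠ 0 := fun {u} hu h => by rw [h, Q.q_zero] at hu; exact zero_ne_one hu
  have hone : ∀ u v : E, Q.q u = 1 → Q.q v = 1 → Q.B u v = 1 → P u → P v := by
    intro u v hu hv huv hPu
    obtain ⟨c, hc, hq⟩ := Q.exists_ns (T := Q.B.orthogonal (span (ZMod 2) (({u, v} : Finset E) : Set E))) (P := ⊥)
      (fun p hp => by rw [(Submodule.mem_bot _).1 hp, Q.q_zero])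
      (fun p hp t _ => by rw [(Submodule.mem_bot _).1 hp, map_zero, LinearMap.zero_apply]) (inf_bot_eq _)
      (by
        have h1 := Q.le_finrank_orth {u, v}
        have h2 : ({u, v} : Finset E).card ≤ 2 := Finset.card_le_two
        have := Q.two_le; have := Q.room
        rw [finrank_bot]
        omega)
    have h1 : Q.B u c = 0 := Q.orth_span_B hc (by simp)
    have := hP (u + v) c u (by rw [Q.polar, hu, hv, huv]; decide) hq hPu
    rwa [Q.refl_fix (a := c) (x := u) (by rw [Q.B_symm]; exact h1), (Q.refl_swap huv).1] at this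
  by_cases hxy : x = y
  · rwa [← hxy]
  rcases zmod_two_cases (Q.B x y) with hB | hB
  swap
  · exact hone x y hx hy hB h
  have hx' : x ∉ span (ZMod 2) ({y} : Set E) := fun h' =>
    (mem_span_single_two h').elim (hne hx) hxy
  have hy' : y ∉ span (ZMod 2) ({x} : Set E) := fun h' =>
    (mem_span_single_two h').elim (hne hy) (Ne.symm hxy)
  obtain ⟨v1, hv1, hv1x⟩ := Q.exists_sep hx'
  obtain ⟨v2, hv2, hv2y⟩ := Q.exists_sep hy'
  have hv1y : Q.B y v1 = 0 := Q.orth_span_B hv1 rfl
  have hv2x : Q.B x v2 = 0 := Q.orth_span_B hv2 rfl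
  rw [Q.B_symm] at hv1x hv2y
  obtain ⟨s, hs⟩ : ∃ s, s = x + y := ⟨_, rfl⟩
  have hsq : Q.q s = 0 := by rw [hs, Q.polar, hx, hy, hB]; decide
  have hs0 : s ≠ 0 := fun h' => hxy (vec_eq_of_add (hs ▸ h'))
  obtain ⟨T, hT⟩ : ∃ T, T = Q.B.orthogonal (span (ZMod 2) (({x, y} : Finset E) : Set E)) := ⟨_, rfl⟩
  have hTB : ∀ t ∈ T, Q.B x t = 0 ∧ Q.B y t = 0 := fun t ht => by
    rw [hT] at ht
    exact ⟨Q.orth_span_B ht (by simp), Q.orth_span_B ht (by simp)⟩
  have hvT : v1 + v2 ∉ T := fun h' => by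
    have h'' := (hTB _ h').1
    rw [map_add, hv1x, hv2x, add_zero] at h''
    exact one_ne_zero h''
  obtain ⟨t, ht, hq⟩ := Q.exists_ns_coset hvT (P := ⊥)
    (fun p hp => by rw [(Submodule.mem_bot _).1 hp, Q.q_zero])
    (fun p hp t _ => by rw [(Submodule.mem_bot _).1 hp, map_zero, LinearMap.zero_apply])
    (fun p hp => by rw [(Submodule.mem_bot _).1 hp, map_zero, LinearMap.zero_apply]) (inf_bot_eq _)
    (by
      have h1 := Q.le_finrank_orth {x, y}
      rw [← hT] at h1
      have h2 : ({x, y} : Finset E).card ≤ 2 := Finset.card_le_two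
      have := Q.two_le; have := Q.room
      rw [finrank_bot]
      omega)
  have hzx : Q.B x (v1 + v2 + t) = 1 := by rw [map_add, map_add, hv1x, hv2x, (hTB t ht).1]; decide
  have hzy : Q.B y (v1 + v2 + t) = 1 := by rw [map_add, map_add, hv1y, hv2y, (hTB t ht).2]; decide
  exact hone _ y hq hy (by rw [Q.B_symm]; exact hzy) (hone x _ hx hq hzx h)

end QuadSpace

end CfsgLib.Classical22.C6Two
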