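/-
The action of normalising elements on the labels of a group of symplectic type.
-/
import Cfsg.Agent.Lib.Classical22.C6Two.Frame
import Cfsg.Agent.Lib.Classical22.C6Two.Orbits

set_option autoImplicit false

namespace CfsgLib.Classical22.C6Two

open Matrix CfsgLib.Transvec
open scoped MatrixGroups

variable {ι : Type} [Fintype ι] [DecidableEq ι] {F : Type*} [Field F] [Fintype F]
variable {k : ℕ} {f : (ι → F) → (ι → F) → F} {R : Subgroup (GL ι F)}

theorem Normalises.mul {g h : GL ι F} (hg : Normalises g R) (hh : Normalises h R) : Normalises (g * h) R := by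
  rw [normalises_iff] at *; exact mul_mem hg hh

theorem Normalises.inv {g : GL ι F} (hg : Normalises g R) : Normalises g⁻¹ R := by
  rw [normalises_iff] at *; exact inv_mem hg

omit [Fintype F] in
theorem normalises_of_mem {g : GL ι F} (hg : g ∈ R) : Normalises g R := fun _ hx =>
  R.mul_mem (R.mul_mem hg hx) (R.inv_mem hg)

/-- The elements of `H` that normalise the group. -/
def normIn (H R : Subgroup (GL ι F)) : Subgroup H :=
  (Cfsg.Geo.subgroupNormalizer R).comap H.subtype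

theorem mem_normIn {H : Subgroup (GL ι F)} (g : H) : g ∈ normIn H R ↔ Normalises (g : GL ι F) R :=
  (normalises_iff (g : GL ι F)).symm

namespace SignFrame

variable (S : SignFrame k R)

/-- `g` moves the labels by `φ`. -/
def Act (g : GL ι F) (φ : (Fin (2 * k) → ZMod 2) → (Fin (2 * k) → ZMod 2)) : Prop :=
  ∀ e, PM (g * S.L e * g⁻¹) (S.L (φ e))

omit [Fintype F] in
theorem Act.comp {g h : GL ι F} {φ ψ : (Fin (2 * k) → ZMod 2) → (Fin (2 * k) → ZMod 2)} (hg : S.Act g φ)
    (hh : S.Act h ψ) : S.Act (g * h) (fun e => φ (ψ e)) := fun e => by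
  have h1 := ((hh e).conj g).trans (hg (ψ e))
  rwa [show g * (h * S.L e * h⁻¹) * g⁻¹ = g * h * S.L e * (g * h)⁻¹ by group] at h1

variable (hR : Data k f R)
include hR

omit hR [Fintype F] in
theorem Act.eq {g : GL ι F} {φ : (Fin (2 * k) → ZMod 2) → (Fin (2 * k) → ZMod 2)} (hg : S.Act g φ) {e e' : Fin (2 * k) → ZMod 2}
    (h : PM (g * S.L e * g⁻¹) (S.L e')) : φ e = e' := S.uniq _ _ ((hg e).symm.trans h)

theorem act_mem (v : Fin (2 * k) → ZMod 2) : S.Act (S.L v) id := fun e => S.conj_PM hR v e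

theorem Act.q_eq {g : GL ι F} {φ : (Fin (2 * k) → ZMod 2) → (Fin (2 * k) → ZMod 2)} (hgn : Normalises g R)
    (hg : S.Act g φ) (e : Fin (2 * k) → ZMod 2) : S.Q.q (φ e) = S.Q.q e := by
  obtain ⟨ψ, hψ, hq⟩ := S.exists_act hR hgn
  rw [hg.eq S (hψ e), hq]

theorem Act.B_eq {g : GL ι F} {φ : (Fin (2 * k) → ZMod 2) → (Fin (2 * k) → ZMod 2)} (hgn : Normalises g R)
    (hg : S.Act g φ) (e e' : Fin (2 * k) → ZMod 2) : S.Q.B (φ e) (φ e') = S.Q.B e e' := by
  obtain ⟨ψ, hψ, hq⟩ := S.exists_act hR hgn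
  rw [hg.eq S (hψ e), hg.eq S (hψ e')]
  have h := hq (e + e')
  rw [_root_.map_add, S.Q.polar, S.Q.polar, hq, hq] at h
  exact add_left_cancel h

/-- Squares go with the quadratic form under every conjugation. -/
theorem q_of_conj {g : GL ι F} {x y : Fin (2 * k) → ZMod 2} (h : PM (g * S.L x * g⁻¹) (S.L y)) :
    S.Q.q x = S.Q.q y := by
  haveI := hR.nonempty
  have hsq : S.L y * S.L y = g * (S.L x * S.L x) * g⁻¹ := by
    rw [show g * (S.L x * S.L x) * g⁻¹ = (g * S.L x * g⁻¹) * (g * S.L x * g⁻¹) by group]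
    rcases h with h | h <;> rw [h]
    rw [neg_mul_neg]
  rcases zmod_two_cases (S.Q.q x) with hx | hx <;> rcases zmod_two_cases (S.Q.q y) with hy | hy <;> rw [hx, hy]
  · rw [(S.sq x).2 hx, S.sq_neg hR hy, mul_one, mul_inv_cancel] at hsq
    exact absurd hsq (neg_ne hR.two_ne 1)
  · rw [(S.sq y).2 hy, S.sq_neg hR hx, neg_conj, mul_one, mul_inv_cancel] at hsq
    exact absurd hsq.symm (neg_ne hR.two_ne 1)

/-- A twist at vectors anticommuting with `L v` is inverted by it. -/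
theorem tw_anti {a b v : Fin (2 * k) → ZMod 2} (ha : S.Q.q a = 1) (hb : S.Q.q b = 1) (hab : S.Q.B a b = 0)
    (hva : S.Q.B v a = 1) (hvb : S.Q.B v b = 1) :
    S.L v * S.tw hR a b ha hb * (S.L v)⁻¹ = (S.tw hR a b ha hb)⁻¹ := by
  obtain ⟨V, hV⟩ : ∃ V : Matrix ι ι F, V = (S.L v : Matrix ι ι F) := ⟨_, rfl⟩
  have h1 : V * (S.L a : Matrix ι ι F) = -((S.L a : Matrix ι ι F) * V) := by
    rw [hV, ← Units.val_mul, S.anti_of hR hva, Units.val_neg, Units.val_mul]
  have h2 : V * (S.L b : Matrix ι ι F) = -((S.L b : Matrix ι ι F) * V) := by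
    rw [hV, ← Units.val_mul, S.anti_of hR hvb, Units.val_neg, Units.val_mul]
  have h3 : (S.L a : Matrix ι ι F) * S.L b = S.L b * S.L a := by
    rw [← Units.val_mul, (S.comm a b).2 hab, Units.val_mul]
  rw [mul_inv_eq_iff_eq_mul]
  refine Units.ext ?_
  rw [Units.val_mul, Units.val_mul, ← hV]
  change V * ((2 : F)⁻¹ • ((1 + (S.L a : Matrix ι ι F)) * (1 + (S.L b : Matrix ι ι F)))) =
    (2 : F)⁻¹ • ((1 - (S.L b : Matrix ι ι F)) * (1 - (S.L a : Matrix ι ι F))) * V
  rw [mul_smul_comm, smul_mul_assoc]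
  congr 1
  have hc : (1 - (S.L b : Matrix ι ι F)) * (1 - (S.L a : Matrix ι ι F)) =
      (1 - (S.L a : Matrix ι ι F)) * (1 - (S.L b : Matrix ι ι F)) := by
    rw [sub_mul, mul_sub, mul_sub, one_mul, one_mul, mul_one, sub_mul, mul_sub, mul_sub, one_mul, one_mul, mul_one, h3]
    abel
  rw [hc, ← mul_assoc, show V * (1 + (S.L a : Matrix ι ι F)) = (1 - (S.L a : Matrix ι ι F)) * V by
      rw [mul_add, mul_one, h1, sub_mul, one_mul, sub_eq_add_neg],
    mul_assoc (1 - (S.L a : Matrix ι ι F)), mul_assoc (1 - (S.L a : Matrix ι ι F))]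
  congr 1
  rw [mul_add, mul_one, h2, sub_mul, one_mul, sub_eq_add_neg]

/-- Twists at orthogonal vectors square to the product. -/
theorem tw_sq {a b : Fin (2 * k) → ZMod 2} (ha : S.Q.q a = 1) (hb : S.Q.q b = 1) (hab : S.Q.B a b = 0) :
    PM (S.tw hR a b ha hb * S.tw hR a b ha hb) (S.L (a + b)) := by
  rw [tw, twist_sq _ _ _ ((S.comm a b).2 hab)]
  exact (S.map_add a b).symm

/-- A twist commutes with what commutes with its two members. -/
theorem tw_comm {a b : Fin (2 * k) → ZMod 2} (ha : S.Q.q a = 1) (hb : S.Q.q b = 1) {g : GL ι F}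
    (hga : g * S.L a = S.L a * g) (hgb : g * S.L b = S.L b * g) :
    S.tw hR a b ha hb * g = g * S.tw hR a b ha hb := twist_commute _ _ _ hga hgb

end SignFrame

end CfsgLib.Classical22.C6Two
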