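/-
A group of isometries whose centralisers of members normalise the group of symplectic type normalises it altogether.
-/
import Cfsg.Agent.Lib.Classical22.C6Two.Act
import Cfsg.Agent.Lib.Classical22.C6Two.Abs

set_option autoImplicit false

namespace CfsgLib.Classical22.C6Two

open Matrix CfsgLib.Transvec Module Submodule
open scoped MatrixGroups

variable {ι : Type} [Fintype ι] [DecidableEq ι] {F : Type*} [Field F] [Fintype F]
variable {k : ℕ} {f : (ι → F) → (ι → F) → F} {R : Subgroup (GL ι F)}

/-- The signs inside a subgroup. -/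
def signsIn (hR : Data k f R) (H : Subgroup (GL ι F)) : Subgroup H where
  carrier := {x : H | PM (x : GL ι F) 1}
  one_mem' := Or.inl rfl
  mul_mem' {a b} ha hb := by
    have h : PM ((a : GL ι F) * (b : GL ι F)) (1 * 1) := PM.mul ha hb
    rwa [one_mul] at h
  inv_mem' {a} ha := by
    change PM ((a : GL ι F)⁻¹) 1
    haveI := hR.nonempty
    rcases ha with h | h <;> rw [h]
    · exact Or.inl inv_one
    · exact Or.inr (inv_eq_of_mul_eq_one_left (by simp))

instance signsIn_normal (hR : Data k f R) (H : Subgroup (GL ι F)) : (signsIn hR H).Normal := ⟨fun n hn g => by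
  have h := PM.conj (g : GL ι F) (show PM (n : GL ι F) 1 from hn)
  rwa [mul_one, mul_inv_cancel] at h⟩

theorem quot_signs_eq {hR : Data k f R} {H : Subgroup (GL ι F)} (a b : H) :
    (a : H ⧸ signsIn hR H) = b ↔ PM (a : GL ι F) b := by
  rw [QuotientGroup.eq]
  constructor
  · intro h
    have h' := (PM.rfl' (a : GL ι F)).mul (show PM ((a : GL ι F)⁻¹ * (b : GL ι F)) 1 from h)
    rw [mul_inv_cancel_left, mul_one] at h'
    exact h'.symm
  · intro h
    have h' := (PM.rfl' ((a : GL ι F)⁻¹)).mul h
    rw [inv_mul_cancel] at h'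
    exact h'.symm

theorem exists_collision {A : Type*} [Finite A] {B : Type*} [Finite B] (g : A → B) (h : Nat.card B < Nat.card A) :
    ∃ a a', a ≠ a' ∧ g a = g a' := by
  by_contra hcon
  push Not at hcon
  exact absurd (Nat.card_le_card_of_injective g fun a a' he => by
    by_contra hne
    exact hcon a a' hne he) (not_le.2 h)

namespace SignFrame

variable (S : SignFrame k R) (hR : Data k f R)
include hR

/-- All of `H` normalises the group as soon as the centralisers of the members do. -/
theorem normalises_of_centralisers (hk : 3 ≤ k) {H : Subgroup (GL ι F)} (hH : ∀ g ∈ H, Iso f g)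
    (hN : ∀ g, Iso f g → Normalises g R → g ∈ H)
    (hc : ∀ e, e ≠ 0 → ∀ g ∈ H, g * S.L e = S.L e * g → Normalises g R) :
    ∀ g ∈ H, Normalises g R := by
  classical
  haveI := hR.nonempty
  have hRH : ∀ {x}, x ∈ R → x ∈ H := fun {x} hx => hN x (hR.iso x hx) (normalises_of_mem hx)
  obtain ⟨el, hel⟩ : ∃ el : (Fin (2 * k) → ZMod 2) → H, ∀ e, (el e : GL ι F) = S.L e :=
    ⟨fun e => ⟨S.L e, hRH (S.mem e)⟩, fun e => rfl⟩
  obtain ⟨NQ, hNQ⟩ : ∃ NQ, NQ = (normIn H R).map (QuotientGroup.mk' (signsIn hR H)) := ⟨_, rfl⟩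
  have hmemN : ∀ a : H, ((a : H ⧸ signsIn hR H) ∈ NQ) ↔ Normalises (a : GL ι F) R := by
    intro a
    rw [hNQ]
    constructor
    · rintro ⟨b, hb, hba⟩
      rw [QuotientGroup.mk'_apply, quot_signs_eq] at hba
      have hb' := (mem_normIn b).1 hb
      rcases hba with h | h
      · exact h ▸ hb'
      · rw [← neg_eq_iff_eq_neg.2 h, ← neg_one_mul]
        exact (normalises_of_mem hR.neg).mul hb'
    · exact fun h => ⟨a, (mem_normIn a).2 h, rfl⟩
  have hadd : ∀ x y, ((el (x + y) : H) : H ⧸ signsIn hR H) = (el x : H ⧸ signsIn hR H) * el y := fun x y => by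
    rw [← QuotientGroup.mk_mul, quot_signs_eq, Subgroup.coe_mul, hel, hel, hel]
    exact S.map_add x y
  have hconj : ∀ (a : H) (x y : Fin (2 * k) → ZMod 2),
      (a : H ⧸ signsIn hR H) * el x * (a : H ⧸ signsIn hR H)⁻¹ = el y ↔
        PM ((a : GL ι F) * S.L x * (a : GL ι F)⁻¹) (S.L y) := fun a x y => by
    rw [← QuotientGroup.mk_inv, ← QuotientGroup.mk_mul, ← QuotientGroup.mk_mul, quot_signs_eq]
    simp only [Subgroup.coe_mul, Subgroup.coe_inv, hel]
  have hcomm : ∀ (a : H) (x : Fin (2 * k) → ZMod 2),
      (a : H ⧸ signsIn hR H) * el x = el x * (a : H ⧸ signsIn hR H) ↔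
        PM ((a : GL ι F) * S.L x * (a : GL ι F)⁻¹) (S.L x) := fun a x => by
    rw [← hconj, mul_inv_eq_iff_eq_mul]
  let D : FusionData (H ⧸ signsIn hR H) (Fin (2 * k) → ZMod 2) :=
    { N := NQ
      e := fun x => el x
      B := S.Q.B
      e_add := hadd
      e_inj := fun x y h => S.uniq x y (by rw [← hel, ← hel]; exact (quot_signs_eq _ _).1 h)
      e_mem := fun x => (hmemN _).2 (by rw [hel]; exact normalises_of_mem (S.mem x))
      refl := S.Q.B_symm
      nondeg := S.Q.nondeg
      conj := fun n hn => by
        induction n using QuotientGroup.induction_on with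
        | _ a =>
          obtain ⟨φ, hφ, -⟩ := S.exists_act hR ((hmemN a).1 hn)
          exact ⟨φ, fun x => (hconj a x (φ x)).2 (hφ x), Act.B_eq S hR ((hmemN a).1 hn) hφ⟩
      centr := fun n hn h => by
        induction n using QuotientGroup.induction_on with
        | _ a =>
          obtain ⟨v, hv⟩ := S.fix_mem hR (hH _ a.2) fun e => (hcomm a e).1 (h e)
          exact ⟨v, (quot_signs_eq _ _).2 (by rw [hel]; exact hv)⟩
      ctr := fun x hx g h => by
        induction g using QuotientGroup.induction_on with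
        | _ a =>
          rw [hmemN]
          rcases (hcomm a x).1 h with h1 | h1
          · exact hc x hx a a.2 (mul_inv_eq_iff_eq_mul.1 h1)
          · obtain ⟨v, hv⟩ := S.Q.exists_B_one hx
            have h2 : (a : GL ι F) * S.L v * S.L x * ((a : GL ι F) * S.L v)⁻¹ = S.L x := by
              rw [show (a : GL ι F) * S.L v * S.L x * ((a : GL ι F) * S.L v)⁻¹ =
                (a : GL ι F) * (S.L v * S.L x * (S.L v)⁻¹) * (a : GL ι F)⁻¹ by group, S.conj_eq hR, hv,
                if_neg one_ne_zero, neg_conj, h1, neg_neg]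
            have h3 := hc x hx ((a : GL ι F) * S.L v) (mul_mem a.2 (hRH (S.mem v))) (mul_inv_eq_iff_eq_mul.1 h2)
            have h4 := h3.mul (normalises_of_mem (S.mem v)).inv
            rwa [mul_inv_cancel_right] at h4
      fus := fun x y g hx h => by
        induction g using QuotientGroup.induction_on with
        | _ a =>
          have hpm := (hconj a x y).1 h
          have hq := S.q_of_conj hR hpm
          have hy : y ≠ 0 := by
            intro h0
            subst h0
            refine hx (S.uniq _ _ ?_)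
            have h1 := (((hpm.trans (S.L_zero hR)).conj (a : GL ι F)⁻¹))
            rw [show (a : GL ι F)⁻¹ * ((a : GL ι F) * S.L x * (a : GL ι F)⁻¹) * (a : GL ι F)⁻¹⁻¹ = S.L x by group,
              mul_one, mul_inv_cancel] at h1
            exact h1.trans (S.L_zero hR).symm
          suffices h' : ∃ n : GL ι F, (Iso f n ∧ Normalises n R) ∧ PM (n * S.L x * n⁻¹) (S.L y) by
            obtain ⟨n, ⟨hn1, hn2⟩, hn3⟩ := h'
            exact ⟨_, (hmemN ⟨n, hN n hn1 hn2⟩).2 hn2, (hconj ⟨n, hN n hn1 hn2⟩ x y).2 hn3⟩
          obtain ⟨P, hP⟩ : ∃ P : (Fin (2 * k) → ZMod 2) → Prop,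
              ∀ z, P z ↔ ∃ n : GL ι F, (Iso f n ∧ Normalises n R) ∧ PM (n * S.L x * n⁻¹) (S.L z) :=
            ⟨_, fun z => Iff.rfl⟩
          have hstep : ∀ a' b z, S.Q.q a' = 1 → S.Q.q b = 1 → P z → P (S.Q.refl a' (S.Q.refl b z)) := by
            intro a' b z ha hb hz
            obtain ⟨n, ⟨hn1, hn2⟩, hn3⟩ := (hP z).1 hz
            refine (hP _).2 ⟨S.tw hR a' b ha hb * n, ⟨(S.tw_iso hR ha hb).mul hn1, (S.tw_normalises hR ha hb).mul hn2⟩, ?_⟩
            have h1 := (hn3.conj (S.tw hR a' b ha hb)).trans (S.tw_act hR ha hb z)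
            rwa [show S.tw hR a' b ha hb * (n * S.L x * n⁻¹) * (S.tw hR a' b ha hb)⁻¹ =
              S.tw hR a' b ha hb * n * S.L x * (S.tw hR a' b ha hb * n)⁻¹ by group] at h1
          have hPx : P x := (hP x).2 ⟨1, ⟨iso_one f, normalises_of_mem R.one_mem⟩, by simp [PM]⟩
          refine (hP y).1 ?_
          rcases zmod_two_cases (S.Q.q x) with h0 | h0
          · exact S.Q.singular_transport hstep hx hy h0 (hq ▸ h0) hPx
          · exact S.Q.nonsingular_transport hstep h0 (hq ▸ h0) hPx
      tex := fun A Y β hA hYA hβ hY hfix => by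
        have hdimA : finrank (ZMod 2) A = k := by
          have h := S.Q.finrank_orth A
          rw [show S.Q.B.orthogonal A = A from Submodule.ext fun z => (hA z).symm] at h
          have := S.k_eq
          omega
        have hBA : ∀ u ∈ A, ∀ v ∈ A, S.Q.B u v = 0 := fun u hu v hv => (hA v).1 hv u hu
        obtain ⟨a, ha, hqa⟩ : ∃ a ∈ A, S.Q.q a = 1 := by
          by_contra hcon
          push Not at hcon
          -- the non-singular alternating maps from the quotient to `A` form too small a space
          obtain ⟨u, hu⟩ : ∃ u, u ∉ A := by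
            by_contra h
            push Not at h
            have h1 := congrArg (fun W : Submodule (ZMod 2) (Fin (2 * k) → ZMod 2) => finrank (ZMod 2) W)
              (show A = ⊤ from eq_top_iff.2 fun z _ => h z)
            simp only [finrank_top, hdimA, S.Q.dim, S.k_eq] at h1
            omega
          obtain ⟨U, hU⟩ : ∃ U, U = A ⊓ S.Q.B.orthogonal (span (ZMod 2) {u}) := ⟨_, rfl⟩
          have hd : ∀ y : Y, ∃ d : U, (β y) * el u * (β y)⁻¹ = el (u + d) := by
            intro y
            obtain ⟨c, hc'⟩ := QuotientGroup.mk_surjective (β y)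
            have hcn := (hmemN c).1 (hc' ▸ hY y y.2)
            obtain ⟨φ, hφ, hqφ⟩ := S.exists_act hR hcn
            have hfa : ∀ z ∈ A, φ z = z := fun z hz => by
              by_cases hy : (y : Fin (2 * k) → ZMod 2) = 0
              · refine Act.eq S hφ ((hcomm c z).1 ?_)
                have h1 : β 0 = 1 := by
                  have h := hβ 0 0
                  rw [add_zero] at h
                  simpa using h.symm
                rw [hc', hy, h1, one_mul, mul_one]
              · exact Act.eq S hφ ((hcomm c z).1 (hc' ▸ (hfix y y.2 hy z).2 hz))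
            have hdA : φ u + u ∈ A := (hA _).2 fun z hz => by
              have h := Act.B_eq S hR hcn hφ z u
              rw [hfa z hz] at h
              rw [_root_.map_add, h, zmod_two_add_self]
            have hdu : S.Q.B u (φ u + u) = 0 := by
              have h := S.Q.polar u (φ u + u)
              rw [show u + (φ u + u) = φ u + (u + u) by abel, vec_add_self, add_zero, hqφ,
                zmod_two_ne_one.1 (hcon _ hdA), add_zero] at h
              exact left_eq_add.1 h
            refine ⟨⟨φ u + u, hU ▸ ⟨hdA, S.Q.mem_orth_span fun z hz => by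
              rw [Set.mem_singleton_iff] at hz; rw [hz]; exact hdu⟩⟩, ?_⟩
            rw [← hc', hconj, show u + (φ u + u) = φ u + (u + u) by abel, vec_add_self, add_zero]
            exact hφ u
          choose d hd using hd
          have hlt : Nat.card U < Nat.card Y := by
            rw [Module.natCard_eq_pow_finrank (K := ZMod 2) (V := U),
              Module.natCard_eq_pow_finrank (K := ZMod 2) (V := Y), hYA, hdimA, Nat.card_zmod]
            refine Nat.pow_lt_pow_right (by norm_num) ?_
            refine lt_of_lt_of_eq (Submodule.finrank_lt_finrank_of_lt (lt_of_le_of_ne (hU ▸ inf_le_left) fun h => ?_)) hdimA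
            refine hu ((hA u).2 fun z hz => ?_)
            have hz' : z ∈ U := by rw [h]; exact hz
            rw [hU] at hz'
            rw [S.Q.B_symm]
            exact S.Q.orth_span_B hz'.2 rfl
          obtain ⟨y, y', hne', hyy⟩ := exists_collision d hlt
          have hyne : ((y : Fin (2 * k) → ZMod 2) + y') ≠ 0 := fun h => hne' (Subtype.ext (vec_eq_of_add h))
          refine hu ((hfix _ (Y.add_mem y.2 y'.2) hyne u).1 ?_)
          rw [← mul_inv_eq_iff_eq_mul, hβ]
          have h1 : β y * β y = 1 := by
            rw [← hβ, vec_add_self]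
            have h := hβ 0 0
            rw [add_zero] at h
            simpa using h.symm
          calc β y * β y' * el u * (β y * β y')⁻¹ = β y * (β y' * el u * (β y')⁻¹) * (β y)⁻¹ := by group
            _ = β y * (β y * el u * (β y)⁻¹) * (β y)⁻¹ := by rw [hd y', hd y, hyy]
            _ = (β y * β y) * el u * (β y * β y)⁻¹ := by group
            _ = el u := by rw [h1]; group
        have ha0 : a ≠ 0 := fun h => by rw [h, S.Q.q_zero] at hqa; exact zero_ne_one hqa
        obtain ⟨t, ht, hta⟩ : ∃ t ∈ A, t ∉ span (ZMod 2) ({a} : Set (Fin (2 * k) → ZMod 2)) := by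
          by_contra hcon
          push Not at hcon
          have h := Submodule.finrank_mono (show A ≤ span (ZMod 2) {a} from hcon)
          rw [hdimA, finrank_span_singleton ha0] at h
          omega
        obtain ⟨a', ha', hqa', hne⟩ : ∃ a' ∈ A, S.Q.q a' = 1 ∧ a + a' ≠ 0 := by
          rcases zmod_two_cases (S.Q.q t) with hqt | hqt
          · refine ⟨a + t, A.add_mem ha ht, by rw [S.Q.polar, hqa, hqt, hBA a ha t ht]; decide, fun h => hta ?_⟩
            rw [← add_assoc, vec_add_self, zero_add] at h
            rw [h]; exact zero_mem _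
          · exact ⟨t, ht, hqt, fun h => hta (by rw [← vec_eq_of_add h]; exact mem_span_singleton_self a)⟩
        have haa' : S.Q.B a a' = 0 := hBA a ha a' ha'
        -- lifts
        have hlift : ∀ y : Y, ∃ b : H, (b : H ⧸ signsIn hR H) = β y ∧ Normalises (b : GL ι F) R := fun y => by
          obtain ⟨b, hb⟩ := QuotientGroup.mk_surjective (β y)
          exact ⟨b, hb, (hmemN b).1 (hb ▸ hY y y.2)⟩
        choose b hb hbn using hlift
        have hbA : ∀ (y : Y), ∀ z ∈ A, PM ((b y : GL ι F) * S.L z * (b y : GL ι F)⁻¹) (S.L z) := by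
          intro y z hz
          by_cases hy : (y : Fin (2 * k) → ZMod 2) = 0
          · refine (hcomm (b y) z).1 ?_
            have h1 : β 0 = 1 := by
              have h := hβ 0 0
              rw [add_zero] at h
              simpa using h.symm
            rw [hb, hy, h1, one_mul, mul_one]
          · refine (hcomm (b y) z).1 ?_
            rw [hb]
            exact (hfix y y.2 hy z).2 hz
        have hgood : ∀ y : Y, ∀ g : GL ι F, PM g (b y : GL ι F) → ∀ z, g * z * g⁻¹ = (b y : GL ι F) * z * (b y : GL ι F)⁻¹ := by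
          intro y g hg z
          rcases hg with h | h <;> rw [h]
          rw [neg_mul, inv_neg, mul_neg, neg_mul, neg_neg]
        obtain ⟨y1, hy1, hy1a, hy1a'⟩ : ∃ y : Y, y ≠ 0 ∧ (b y : GL ι F) * S.L a * (b y : GL ι F)⁻¹ = S.L a ∧
            (b y : GL ι F) * S.L a' * (b y : GL ι F)⁻¹ = S.L a' := by
          obtain ⟨y, y', hne', hsig⟩ := exists_collision (fun y : Y =>
              (decide ((b y : GL ι F) * S.L a * (b y : GL ι F)⁻¹ = S.L a),
               decide ((b y : GL ι F) * S.L a' * (b y : GL ι F)⁻¹ = S.L a'))) (by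
            rw [Nat.card_prod, Nat.card_eq_fintype_card (α := Bool), Fintype.card_bool,
              Module.natCard_eq_pow_finrank (K := ZMod 2) (V := Y), hYA, hdimA, Nat.card_zmod]
            calc 2 * 2 < 2 ^ 3 := by norm_num
              _ ≤ 2 ^ k := Nat.pow_le_pow_right (by norm_num) hk)
          simp only [Prod.mk.injEq, decide_eq_decide] at hsig
          have hprod : PM (b (y + y') : GL ι F) ((b y : GL ι F) * (b y' : GL ι F)) := by
            rw [← Subgroup.coe_mul]
            refine (quot_signs_eq (hR := hR) _ _).1 ?_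
            rw [QuotientGroup.mk_mul, hb, hb, hb, Submodule.coe_add, hβ]
          have key : ∀ z, z ∈ A → ((b y : GL ι F) * S.L z * (b y : GL ι F)⁻¹ = S.L z ↔
              (b y' : GL ι F) * S.L z * (b y' : GL ι F)⁻¹ = S.L z) →
              (b (y + y') : GL ι F) * S.L z * (b (y + y') : GL ι F)⁻¹ = S.L z := by
            intro z hz hiff
            rw [← hgood (y + y') _ hprod.symm, show (b y : GL ι F) * (b y' : GL ι F) * S.L z *
              ((b y : GL ι F) * (b y' : GL ι F))⁻¹ = (b y : GL ι F) * ((b y' : GL ι F) * S.L z * (b y' : GL ι F)⁻¹) *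
              (b y : GL ι F)⁻¹ by group]
            rcases hbA y' z hz with h | h
            · rw [h, hiff.2 h]
            · have h' : (b y : GL ι F) * S.L z * (b y : GL ι F)⁻¹ = -S.L z :=
                (hbA y z hz).resolve_left fun h0 => (S.ne_neg hR z) ((hiff.1 h0).symm.trans h)
              rw [h, neg_conj, h', neg_neg]
          exact ⟨y + y', fun h => hne' (vec_eq_of_add h), key a ha hsig.1, key a' ha' hsig.2⟩
        obtain ⟨T, hTd⟩ : ∃ T : H, (T : GL ι F) = S.tw hR a a' hqa hqa' :=
          ⟨⟨_, hN _ (S.tw_iso hR hqa hqa') (S.tw_normalises hR hqa hqa')⟩, rfl⟩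
        refine ⟨(T : H ⧸ signsIn hR H), (hmemN T).2 (hTd ▸ S.tw_normalises hR hqa hqa'), ⟨y1, y1.2,
          fun h => hy1 (Subtype.ext h), ?_⟩, fun y hy => ?_, a + a', A.add_mem ha ha', hne, ?_⟩
        · rw [← hb, ← QuotientGroup.mk_mul, ← QuotientGroup.mk_mul]
          congr 1
          refine Subtype.ext ?_
          rw [Subgroup.coe_mul, Subgroup.coe_mul, hTd]
          exact S.tw_comm hR hqa hqa' (mul_inv_eq_iff_eq_mul.1 hy1a) (mul_inv_eq_iff_eq_mul.1 hy1a')
        · obtain ⟨c, hcd⟩ : ∃ c : H, c = b ⟨y, hy⟩ := ⟨_, rfl⟩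
          obtain ⟨φ, hφ, -⟩ := S.exists_act hR (hbn ⟨y, hy⟩)
          rw [← hcd] at hφ
          have hfa : ∀ z ∈ A, φ z = z := fun z hz => Act.eq S hφ (hcd ▸ hbA ⟨y, hy⟩ z hz)
          have hB := Act.B_eq S hR (hcd ▸ hbn ⟨y, hy⟩) hφ
          have hT : S.Act (T : GL ι F) fun e => S.Q.refl a (S.Q.refl a' e) := fun e => by
            rw [hTd]; exact S.tw_act hR hqa hqa' e
          have hswap : ∀ e, φ (S.Q.refl a (S.Q.refl a' e)) = S.Q.refl a (S.Q.refl a' (φ e)) := by
            intro e
            simp only [QuadSpace.refl_apply, _root_.map_add, map_smul, hfa a ha, hfa a' ha']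
            have h1 : S.Q.B a (φ e) = S.Q.B a e := by conv_lhs => rw [← hfa a ha]; exact hB a e
            have h2 : S.Q.B a' (φ e) = S.Q.B a' e := by conv_lhs => rw [← hfa a' ha']; exact hB a' e
            rw [h1, h2]
          obtain ⟨v, hv⟩ := S.fix_mem hR
            (hH _ (mul_mem (mul_mem (mul_mem T.2 c.2) (inv_mem T.2)) (inv_mem c.2))) (fun e => by
            have h1 : S.Act ((c : GL ι F) * (T : GL ι F)) fun e => φ (S.Q.refl a (S.Q.refl a' e)) := Act.comp S (φ := φ) (ψ := fun e => S.Q.refl a (S.Q.refl a' e)) hφ hT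
            have h2 : S.Act ((T : GL ι F) * (c : GL ι F)) fun e => S.Q.refl a (S.Q.refl a' (φ e)) := Act.comp S (φ := fun e => S.Q.refl a (S.Q.refl a' e)) (ψ := φ) hT hφ
            -- both products act alike
            obtain ⟨w, hw⟩ : ∃ w, PM ((((c : GL ι F) * (T : GL ι F))⁻¹) * S.L e * ((c : GL ι F) * (T : GL ι F))) (S.L w) := by
              have hn : Normalises ((c : GL ι F) * (T : GL ι F)) R :=
                (hcd ▸ hbn ⟨y, hy⟩).mul (hTd ▸ S.tw_normalises hR hqa hqa')
              have := hn.inv _ (S.mem e)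
              rw [inv_inv] at this
              exact S.surj _ this
            have h4 := h1 w
            have h5 := h2 w
            dsimp only at h4 h5
            rw [← hswap] at h5
            have h6 := (hw.conj ((c : GL ι F) * (T : GL ι F))).trans (h4.trans h5.symm)
            rw [show (c : GL ι F) * (T : GL ι F) * (((c : GL ι F) * (T : GL ι F))⁻¹ * S.L e *
              ((c : GL ι F) * (T : GL ι F))) * ((c : GL ι F) * (T : GL ι F))⁻¹ = S.L e by group] at h6
            have h7 := ((hw.conj ((T : GL ι F) * (c : GL ι F))).trans h6.symm)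
            rwa [show (T : GL ι F) * (c : GL ι F) * (((c : GL ι F) * (T : GL ι F))⁻¹ * S.L e *
              ((c : GL ι F) * (T : GL ι F))) * ((T : GL ι F) * (c : GL ι F))⁻¹ =
              ((T : GL ι F) * (c : GL ι F) * (T : GL ι F)⁻¹ * (c : GL ι F)⁻¹) * S.L e *
              ((T : GL ι F) * (c : GL ι F) * (T : GL ι F)⁻¹ * (c : GL ι F)⁻¹)⁻¹ by group] at h7)
          refine ⟨v, ?_⟩
          rw [show β y = β (⟨y, hy⟩ : Y) from rfl, ← hb, ← hcd, ← QuotientGroup.mk_mul, ← QuotientGroup.mk_inv,
            ← QuotientGroup.mk_mul, ← QuotientGroup.mk_inv, ← QuotientGroup.mk_mul]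
          refine (quot_signs_eq _ _).2 ?_
          rw [hel]
          exact hv
        · rw [← QuotientGroup.mk_mul]
          refine (quot_signs_eq _ _).2 ?_
          rw [Subgroup.coe_mul, hTd, hel]
          exact S.tw_sq hR hqa hqa' haa'
      inv := by
        obtain ⟨a, -, -, -, hqa⟩ : ∃ a, S.Q.B 0 a = 0 ∧ S.Q.B 0 a = 0 ∧ S.Q.B 0 a = 0 ∧ S.Q.q a = 1 := by
          obtain ⟨a, ha, hqa⟩ := S.Q.exists_ns (T := ⊤) (P := ⊥)
            (fun p hp => by rw [(Submodule.mem_bot _).1 hp, S.Q.q_zero])
            (fun p hp t _ => by rw [(Submodule.mem_bot _).1 hp, map_zero, LinearMap.zero_apply]) (inf_bot_eq _)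
            (by rw [finrank_top, S.Q.dim, finrank_bot]; have := S.Q.room; omega)
          exact ⟨a, by simp, by simp, by simp, hqa⟩
        have ha0 : a ≠ 0 := fun h => by rw [h, S.Q.q_zero] at hqa; exact zero_ne_one hqa
        obtain ⟨b, hb, hqb, hne⟩ : ∃ b, S.Q.B a b = 0 ∧ S.Q.q b = 1 ∧ b ≠ a := by
          obtain ⟨T, hT⟩ : ∃ T, T = S.Q.B.orthogonal (span (ZMod 2) (({a} : Finset (Fin (2 * k) → ZMod 2)) : Set (Fin (2 * k) → ZMod 2))) := ⟨_, rfl⟩
          have h1 := S.Q.le_finrank_orth {a}
          rw [← hT, Finset.card_singleton, S.k_eq] at h1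
          obtain ⟨u, hu, hua⟩ : ∃ u ∈ T, u ∉ span (ZMod 2) ({a} : Set (Fin (2 * k) → ZMod 2)) := by
            by_contra hcon
            push Not at hcon
            have h := Submodule.finrank_mono (show T ≤ span (ZMod 2) {a} from hcon)
            rw [finrank_span_singleton ha0] at h
            omega
          have hBu : S.Q.B a u = 0 :=
            S.Q.orth_span_B (s := (({a} : Finset (Fin (2 * k) → ZMod 2)) : Set _)) (hT ▸ hu) (by simp)
          rcases zmod_two_cases (S.Q.q u) with hq | hq
          · refine ⟨a + u, by rw [_root_.map_add, S.Q.B_self, hBu, add_zero],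
              by rw [S.Q.polar, hqa, hq, hBu]; decide, fun h => hua ?_⟩
            rw [add_eq_left] at h
            rw [h]; exact zero_mem _
          · exact ⟨u, hBu, hq, fun h => hua (by rw [h]; exact mem_span_singleton_self a)⟩
        have hb0 : b ≠ 0 := fun h => by rw [h, S.Q.q_zero] at hqb; exact zero_ne_one hqb
        obtain ⟨v, hva, hvb⟩ : ∃ v, S.Q.B v a = 1 ∧ S.Q.B v b = 1 := by
          obtain ⟨v1, h1, h1a⟩ := S.Q.exists_sep (U := span (ZMod 2) {b}) (x := a) fun h =>
            (QuadSpace.mem_span_single_two h).elim ha0 (Ne.symm hne)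
          obtain ⟨v2, h2, h2b⟩ := S.Q.exists_sep (U := span (ZMod 2) {a}) (x := b) fun h =>
            (QuadSpace.mem_span_single_two h).elim hb0 hne
          have h1b : S.Q.B v1 b = 0 := by rw [S.Q.B_symm]; exact S.Q.orth_span_B h1 rfl
          have h2a : S.Q.B v2 a = 0 := by rw [S.Q.B_symm]; exact S.Q.orth_span_B h2 rfl
          exact ⟨v1 + v2, by rw [_root_.map_add, LinearMap.add_apply, h1a, h2a, add_zero],
            by rw [_root_.map_add, LinearMap.add_apply, h1b, h2b, zero_add]⟩
        obtain ⟨u, hud⟩ : ∃ u : H, (u : GL ι F) = S.tw hR a b hqa hqb * S.L v :=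
          ⟨⟨_, mul_mem (hN _ (S.tw_iso hR hqa hqb) (S.tw_normalises hR hqa hqb)) (hRH (S.mem v))⟩, rfl⟩
        have hact : S.Act (u : GL ι F) fun e => S.Q.refl a (S.Q.refl b e) := by
          rw [hud]; exact Act.comp S (φ := fun e => S.Q.refl a (S.Q.refl b e)) (ψ := id) (fun e => S.tw_act hR hqa hqb e) (S.act_mem hR v)
        refine ⟨(u : H ⧸ signsIn hR H),
          (hmemN u).2 (hud ▸ (S.tw_normalises hR hqa hqb).mul (normalises_of_mem (S.mem v))), ?_, ?_, ?_⟩
        · rw [← QuotientGroup.mk_mul, ← QuotientGroup.mk_one, quot_signs_eq, Subgroup.coe_mul, hud,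
            show S.tw hR a b hqa hqb * S.L v * (S.tw hR a b hqa hqb * S.L v) =
              S.tw hR a b hqa hqb * (S.L v * S.tw hR a b hqa hqb * (S.L v)⁻¹) * (S.L v * S.L v) by group,
            S.tw_anti hR hqa hqb hb hva hvb, mul_inv_cancel, one_mul]
          exact hR.sq _ (S.mem v)
        · intro x h
          rw [quot_signs_eq, hel] at h
          have h2 : S.Q.refl a (S.Q.refl b v) = v := Act.eq S hact
            (((h.mul (PM.rfl' (S.L v))).mul (by
              rcases h with h | h <;> rw [h]
              · exact Or.inl rfl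
              · exact Or.inr (inv_neg))).trans (S.conj_PM hR x v))
          rw [S.Q.refl_move (a := b) (x := v) (by rw [S.Q.B_symm]; exact hvb), _root_.map_add,
            S.Q.refl_move (a := a) (x := v) (by rw [S.Q.B_symm]; exact hva), S.Q.refl_fix hb, add_assoc, add_eq_left] at h2
          exact hne (vec_eq_of_add h2).symm
        · obtain ⟨T, hT⟩ : ∃ T, T = S.Q.B.orthogonal (span (ZMod 2) (({a, b} : Finset (Fin (2 * k) → ZMod 2)) : Set (Fin (2 * k) → ZMod 2))) := ⟨_, rfl⟩
          obtain ⟨x, hx, hxab⟩ : ∃ x ∈ T, x ∉ span (ZMod 2) ({a, b} : Set (Fin (2 * k) → ZMod 2)) := by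
            by_contra hcon
            push Not at hcon
            have h := Submodule.finrank_mono (show T ≤ span (ZMod 2) {a, b} from hcon)
            rw [QuadSpace.finrank_pair ha0 hb0 (Ne.symm hne)] at h
            have h1 := S.Q.le_finrank_orth {a, b}
            rw [← hT, S.k_eq] at h1
            have h2 : ({a, b} : Finset (Fin (2 * k) → ZMod 2)).card ≤ 2 := Finset.card_le_two
            omega
          have hxa : S.Q.B a x = 0 :=
            S.Q.orth_span_B (s := (({a, b} : Finset (Fin (2 * k) → ZMod 2)) : Set _)) (hT ▸ hx) (by simp)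
          have hxb : S.Q.B b x = 0 :=
            S.Q.orth_span_B (s := (({a, b} : Finset (Fin (2 * k) → ZMod 2)) : Set _)) (hT ▸ hx) (by simp)
          refine ⟨x, ?_, fun z h => hxab ?_⟩
          · rw [hcomm]
            have h := hact x
            dsimp only at h
            rwa [S.Q.refl_fix (a := b) hxb, S.Q.refl_fix (a := a) hxa] at h
          · rw [(hconj u z _).2 (hact z), ← hadd] at h
            have h' := (quot_signs_eq _ _).1 h
            rw [hel, hel] at h'
            rw [S.uniq _ _ h']
            simp only [QuadSpace.refl_apply, _root_.map_add, map_smul, hb, smul_eq_mul, mul_zero, add_zero, zero_smul]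
            rw [show z + S.Q.B a z • a + S.Q.B b z • b + z = S.Q.B a z • a + S.Q.B b z • b + (z + z) by abel,
              vec_add_self, add_zero]
            exact add_mem (Submodule.smul_mem _ _ (subset_span (by simp))) (Submodule.smul_mem _ _ (subset_span (by simp))) }
  intro g hg
  have h : ((⟨g, hg⟩ : H) : H ⧸ signsIn hR H) ∈ D.N := by rw [D.eq_top]; exact Subgroup.mem_top _
  exact (hmemN ⟨g, hg⟩).1 h

end SignFrame

end CfsgLib.Classical22.C6Two
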