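/-
The centraliser of a square root of `-1` in the group normalises it as soon as the centralisers of the singular members
do.
-/
import Cfsg.Agent.Lib.Classical22.C6Two.Top

set_option autoImplicit false
set_option maxHeartbeats 1600000

namespace CfsgLib.Classical22.C6Two

open Matrix CfsgLib.Transvec Module Submodule
open scoped MatrixGroups

variable {ι : Type} [Fintype ι] [DecidableEq ι] {F : Type*} [Field F] [Fintype F]
variable {k : ℕ} {f : (ι → F) → (ι → F) → F} {R : Subgroup (GL ι F)}

omit [Fintype ι] [Fintype F] in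
/-- The elements of the plane of `A` multiply inside it. -/
theorem plane_mul [Fintype ι] {A : Matrix ι ι F} (hA : A * A = -1) (p q r t : F) :
    (p • (1 : Matrix ι ι F) + q • A) * (r • (1 : Matrix ι ι F) + t • A) =
      (p * r - q * t) • (1 : Matrix ι ι F) + (p * t + q * r) • A := by
  rw [add_mul, mul_add, mul_add, smul_mul_smul_comm, smul_mul_smul_comm, smul_mul_smul_comm, smul_mul_smul_comm,
    one_mul, one_mul, mul_one, hA, smul_neg, sub_smul, add_smul]
  abel

/-- The elements of a subgroup that lie in the plane of `A`. -/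
def planeIn (C : Subgroup (GL ι F)) (A : GL ι F) (hA : A * A = -1) : Subgroup C :=
  let P : Submonoid C :=
    { carrier := {x : C | ∃ p q : F, ((x : GL ι F) : Matrix ι ι F) = p • (1 : Matrix ι ι F) + q • (A : Matrix ι ι F)}
      one_mem' := ⟨1, 0, by simp⟩
      mul_mem' := fun {a b} ⟨p, q, ha⟩ ⟨r, t, hb⟩ => ⟨p * r - q * t, p * t + q * r, by
        rw [Subgroup.coe_mul, Units.val_mul, ha, hb, plane_mul (by
          rw [← Units.val_mul, hA, Units.val_neg, Units.val_one])]⟩ }
  { P with
    inv_mem' := fun {x} hx => by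
      have h : x⁻¹ = x ^ (orderOf x - 1) := inv_eq_of_mul_eq_one_left (by
        rw [← pow_succ, Nat.sub_add_cancel (orderOf_pos x), pow_orderOf_eq_one])
      rw [h]
      exact P.pow_mem hx _ }

theorem mem_planeIn {C : Subgroup (GL ι F)} {A : GL ι F} {hA : A * A = -1} (x : C) :
    x ∈ planeIn C A hA ↔
      ∃ p q : F, ((x : GL ι F) : Matrix ι ι F) = p • (1 : Matrix ι ι F) + q • (A : Matrix ι ι F) := Iff.rfl

theorem plane_comm {C : Subgroup (GL ι F)} {A : GL ι F} {hA : A * A = -1} {x : C} (hx : x ∈ planeIn C A hA)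
    {g : GL ι F} (hg : g * A = A * g) : g * (x : GL ι F) = (x : GL ι F) * g := by
  obtain ⟨p, q, h⟩ := (mem_planeIn x).1 hx
  have hgA : (g : Matrix ι ι F) * A = A * g := by rw [← Units.val_mul, hg, Units.val_mul]
  refine Units.ext ?_
  rw [Units.val_mul, Units.val_mul, h, mul_add, add_mul, mul_smul_comm, mul_smul_comm, smul_mul_assoc,
    smul_mul_assoc, mul_one, one_mul, hgA]

theorem planeIn_normal {C : Subgroup (GL ι F)} {A : GL ι F} (hA : A * A = -1)
    (hC : ∀ x : C, (x : GL ι F) * A = A * x) : (planeIn C A hA).Normal := ⟨fun n hn g => by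
  have : g * n * g⁻¹ = n := Subtype.ext (by
    rw [Subgroup.coe_mul, Subgroup.coe_mul, plane_comm hn (hC g), Subgroup.coe_inv, mul_inv_cancel_right])
  rwa [this]⟩

namespace SignFrame

variable (S : SignFrame k R) (hR : Data k f R)
include hR

/-- The centralisers of all members normalise the group if those of the singular members do. -/
theorem centralisers_of_singular (hk : 3 ≤ k) {H : Subgroup (GL ι F)} (hH : ∀ g ∈ H, Iso f g)
    (hN : ∀ g, Iso f g → Normalises g R → g ∈ H)
    (hs : ∀ e, e ≠ 0 → S.Q.q e = 0 → ∀ g ∈ H, g * S.L e = S.L e * g → Normalises g R) :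
    ∀ e, e ≠ 0 → ∀ g ∈ H, g * S.L e = S.L e * g → Normalises g R := by
  classical
  intro a0 ha00 g0 hg0 hg0c
  rcases zmod_two_cases (S.Q.q a0) with hq0 | ha0
  · exact hs a0 ha00 hq0 g0 hg0 hg0c
  haveI := hR.nonempty
  have hk' := S.k_eq
  have h2 := hR.two_ne
  obtain ⟨A, hAd⟩ : ∃ A, A = S.L a0 := ⟨_, rfl⟩
  have hA : A * A = -1 := by rw [hAd]; exact S.sq_neg hR ha0
  have hRH : ∀ {x}, x ∈ R → x ∈ H := fun {x} hx => hN x (hR.iso x hx) (normalises_of_mem hx)
  obtain ⟨C, hC⟩ : ∃ C : Subgroup (GL ι F), ∀ x, x ∈ C ↔ x ∈ H ∧ x * A = A * x :=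
    ⟨H ⊓ Subgroup.centralizer {A}, fun x => by rw [Subgroup.mem_inf, Subgroup.mem_centralizer_singleton_iff]⟩
  -- membership
  have hCmem : ∀ {x}, x ∈ H → x * A = A * x → x ∈ C := fun {x} h1 h2' => (hC x).2 ⟨h1, h2'⟩
  have hCH : ∀ x : C, (x : GL ι F) ∈ H := fun x => ((hC _).1 x.2).1
  have hCc : ∀ x : C, (x : GL ι F) * A = A * x := fun x => ((hC _).1 x.2).2
  haveI := planeIn_normal hA hCc
  have hCL : ∀ e, S.Q.B a0 e = 0 → S.L e ∈ C := fun e he =>
    hCmem (hRH (S.mem e)) (by rw [hAd]; exact ((S.comm a0 e).2 he).symm)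
  have hperp : ∀ (v : Fin (2 * k) → ZMod 2) (x : GL ι F), x * A = A * x → PM x (S.L v) → S.Q.B a0 v = 0 := by
    intro v x hx hv
    refine (S.comm a0 v).1 ?_
    rw [← hAd]
    rcases hv with h | h <;> rw [h] at hx
    · exact hx.symm
    · rw [neg_mul, mul_neg, neg_inj] at hx
      exact hx.symm
  obtain ⟨v0, hv0⟩ := S.Q.exists_B_one ha00
  obtain ⟨W, hW⟩ : ∃ W, W = S.Q.B.orthogonal (span (ZMod 2) (({a0, v0} : Finset (Fin (2 * k) → ZMod 2)) : Set (Fin (2 * k) → ZMod 2))) := ⟨_, rfl⟩
  have hWm : ∀ w, w ∈ W ↔ S.Q.B a0 w = 0 ∧ S.Q.B v0 w = 0 := fun w => by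
    rw [hW]
    refine ⟨fun h => ⟨S.Q.orth_span_B h (by simp), S.Q.orth_span_B h (by simp)⟩, fun h => S.Q.mem_orth_span ?_⟩
    intro x hx
    simp only [Finset.coe_insert, Finset.coe_singleton, Set.mem_insert_iff, Set.mem_singleton_iff] at hx
    rcases hx with rfl | rfl
    · exact h.1
    · exact h.2
  have hWdim : 2 * k ≤ finrank (ZMod 2) W + 2 := by
    have h1 := S.Q.le_finrank_orth {a0, v0}
    rw [← hW] at h1
    have h2' : ({a0, v0} : Finset (Fin (2 * k) → ZMod 2)).card ≤ 2 := Finset.card_le_two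
    omega
  -- the plane meets the members in the span of `a0`
  have hZL : ∀ (z : C) (e : Fin (2 * k) → ZMod 2),
      z ∈ planeIn _ A hA → PM (z : GL ι F) (S.L e) → e = 0 ∨ e = a0 := by
    intro z e hz he
    by_contra hcon
    obtain ⟨v, hv, hve⟩ := S.Q.exists_sep (U := span (ZMod 2) {a0}) (x := e) fun h =>
      hcon (QuadSpace.mem_span_single_two h)
    have hva : S.Q.B a0 v = 0 := S.Q.orth_span_B hv rfl
    have h1 : S.L v * (z : GL ι F) = (z : GL ι F) * S.L v :=
      plane_comm hz (by rw [hAd]; exact ((S.comm a0 v).2 hva).symm)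
    have h3 : S.Q.B v e = 0 := by
      refine (S.comm v e).1 ?_
      rcases he with h | h <;> rw [h] at h1
      · exact h1
      · rw [mul_neg, neg_mul, neg_inj] at h1
        exact h1
    rw [h3] at hve
    exact zero_ne_one hve
  have hsign : ∀ z : C, PM (z : GL ι F) 1 → z ∈ planeIn _ A hA := by
    intro z hz
    rw [mem_planeIn]
    rcases hz with h | h <;> rw [h]
    · exact ⟨1, 0, by simp⟩
    · exact ⟨-1, 0, by simp⟩
  obtain ⟨lf, hlf⟩ : ∃ lf : (Fin (2 * k) → ZMod 2) → C,
      ∀ e, S.Q.B a0 e = 0 → (lf e : GL ι F) = S.L e :=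
    ⟨fun e => if h : S.Q.B a0 e = 0 then ⟨S.L e, hCL e h⟩ else 1, fun e he => by simp [dif_pos he]⟩
  obtain ⟨mk, hmk⟩ : ∃ mk : C →*
      C ⧸ planeIn _ A hA,
      mk = QuotientGroup.mk' _ := ⟨_, rfl⟩
  have hmkeq : ∀ a b, mk a = mk b ↔ a⁻¹ * b ∈ planeIn _ A hA := fun a b => by
    rw [hmk, QuotientGroup.mk'_apply, QuotientGroup.mk'_apply, QuotientGroup.eq]
  have hmkPM : ∀ a b : C, PM (a : GL ι F) b → mk a = mk b := by
    intro a b h
    rw [hmkeq]
    refine hsign _ ?_
    have h' := (PM.rfl' ((a : GL ι F)⁻¹)).mul h.symm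
    rw [inv_mul_cancel] at h'
    exact h'
  have hadd : ∀ e e', S.Q.B a0 e = 0 → S.Q.B a0 e' = 0 → mk (lf (e + e')) = mk (lf e) * mk (lf e') := by
    intro e e' he he'
    rw [← map_mul]
    refine hmkPM _ _ ?_
    rw [Subgroup.coe_mul, hlf e he, hlf e' he', hlf (e + e') (by rw [_root_.map_add, he, he', add_zero])]
    exact S.map_add e e'
  have hzero : mk (lf 0) = 1 := by
    have h := hadd 0 0 (map_zero _) (map_zero _)
    rw [add_zero] at h
    simpa using h.symm
  have hA0 : mk (lf a0) = 1 := by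
    rw [← map_one mk, hmkeq, mul_one]
    refine (planeIn _ A hA).inv_mem ?_
    rw [mem_planeIn]
    exact ⟨0, 1, by rw [hlf a0 (S.Q.B_self a0), hAd]; simp⟩
  have hlfeq : ∀ e e', S.Q.B a0 e = 0 → S.Q.B a0 e' = 0 → (mk (lf e) = mk (lf e') ↔ e + e' = 0 ∨ e + e' = a0) := by
    intro e e' he he'
    constructor
    · intro h
      rw [hmkeq] at h
      refine hZL _ (e + e') h ?_
      rw [Subgroup.coe_mul, Subgroup.coe_inv, hlf e he, hlf e' he']
      exact ((S.inv_PM hR e).mul (PM.rfl' _)).trans (S.map_add e e').symm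
    · intro h
      have hs' : mk (lf (e + e')) = 1 := by
        rcases h with h | h <;> rw [h]
        · exact hzero
        · exact hA0
      rw [hadd e e' he he'] at hs'
      have hee : mk (lf e') * mk (lf e') = 1 := by rw [← hadd e' e' he' he', vec_add_self, hzero]
      calc mk (lf e) = mk (lf e) * (mk (lf e') * mk (lf e')) := by rw [hee, mul_one]
        _ = mk (lf e') := by rw [← mul_assoc, hs', one_mul]
  -- the projection to `W`
  obtain ⟨pr, hpr⟩ : ∃ pr : (Fin (2 * k) → ZMod 2) → (Fin (2 * k) → ZMod 2), ∀ e, pr e = e + S.Q.B v0 e • a0 :=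
    ⟨_, fun e => rfl⟩
  have hprW : ∀ e, S.Q.B a0 e = 0 → pr e ∈ W := fun e he => by
    rw [hWm, hpr, _root_.map_add, _root_.map_add, map_smul, map_smul, S.Q.B_self, he, smul_zero, add_zero, hv0,
      smul_eq_mul, mul_one, zmod_two_add_self]
    exact ⟨rfl, rfl⟩
  have hprA : ∀ e, S.Q.B a0 e = 0 → S.Q.B a0 (pr e) = 0 := fun e he => ((hWm _).1 (hprW e he)).1
  have hprmk : ∀ e, S.Q.B a0 e = 0 → mk (lf (pr e)) = mk (lf e) := fun e he => by
    rw [hlfeq _ _ (hprA e he) he, hpr, add_comm e, add_assoc, vec_add_self, add_zero]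
    rcases zmod_two_cases (S.Q.B v0 e) with h | h <;> rw [h]
    · exact Or.inl (zero_smul _ _)
    · exact Or.inr (one_smul _ _)
  have hWa : ∀ w : W, S.Q.B a0 (w : Fin (2 * k) → ZMod 2) = 0 := fun w => ((hWm _).1 w.2).1
  have ha0W : a0 ∉ W := fun h => by
    have h' := ((hWm _).1 h).2
    rw [hv0] at h'
    exact one_ne_zero h'
  have hWne : ∀ w : W, w ≠ 0 → (w : Fin (2 * k) → ZMod 2) ≠ 0 ∧ (w : Fin (2 * k) → ZMod 2) + a0 ≠ 0 := fun w hw =>
    ⟨fun h => hw (Subtype.ext h), fun h => ha0W (vec_eq_of_add h ▸ w.2)⟩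
  have hrep : ∀ (w : W) (t : ZMod 2), w ≠ 0 → ∃ e, S.Q.B a0 e = 0 ∧ S.Q.q e = t ∧ e ≠ 0 ∧
      mk (lf e) = mk (lf w) ∧ (e = (w : Fin (2 * k) → ZMod 2) ∨ e = (w : Fin (2 * k) → ZMod 2) + a0) := by
    intro w t hw
    by_cases h : S.Q.q (w : Fin (2 * k) → ZMod 2) = t
    · exact ⟨w, hWa w, h, (hWne w hw).1, rfl, Or.inl rfl⟩
    · have hh : S.Q.B a0 ((w : Fin (2 * k) → ZMod 2) + a0) = 0 := by rw [_root_.map_add, hWa, S.Q.B_self, add_zero]
      refine ⟨w + a0, hh, ?_, (hWne w hw).2, ?_, Or.inr rfl⟩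
      · rw [S.Q.polar, ha0, S.Q.B_symm, hWa, add_zero]
        revert h
        generalize S.Q.q (w : Fin (2 * k) → ZMod 2) = u
        revert u t
        decide
      · rw [hlfeq _ _ hh (hWa w), show (w : Fin (2 * k) → ZMod 2) + a0 + w = a0 + ((w : Fin (2 * k) → ZMod 2) + w) by abel,
          vec_add_self, add_zero]
        exact Or.inr rfl
  -- the normalisers
  obtain ⟨NQ, hNQ⟩ : ∃ NQ, NQ = (normIn C R).map mk := ⟨_, rfl⟩
  have hplane_norm : ∀ z, z ∈ planeIn C A hA → Normalises (z : GL ι F) R := by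
    intro z hz
    obtain ⟨w, hw⟩ : ∃ w : W, w ≠ 0 := by
      by_contra hcon
      push Not at hcon
      haveI : Subsingleton W := ⟨fun a b => (hcon a).trans (hcon b).symm⟩
      rw [Module.finrank_zero_of_subsingleton] at hWdim
      omega
    obtain ⟨r, hr, hqr, hr0, -, -⟩ := hrep w 0 hw
    exact hs r hr0 hqr _ (hCH z) (plane_comm hz (by rw [hAd]; exact ((S.comm a0 r).2 hr).symm)).symm
  have hmemN : ∀ a, mk a ∈ NQ ↔ Normalises (a : GL ι F) R := by
    intro a
    rw [hNQ]
    constructor
    · rintro ⟨b, hb, hba⟩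
      rw [hmkeq] at hba
      have h := ((mem_normIn b).1 hb).mul (hplane_norm _ hba)
      rwa [Subgroup.coe_mul, Subgroup.coe_inv, mul_inv_cancel_left] at h
    · exact fun h => ⟨a, (mem_normIn a).2 h, rfl⟩
  have hsurj : ∀ x, ∃ a, mk a = x := fun x => by rw [hmk]; exact QuotientGroup.mk'_surjective _ x
  -- the action of a normalising element
  have hact : ∀ c : C, Normalises (c : GL ι F) R →
      ∃ φ : (Fin (2 * k) → ZMod 2) ≃ₗ[ZMod 2] (Fin (2 * k) → ZMod 2), S.Act (c : GL ι F) φ ∧ φ a0 = a0 ∧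
        (∀ e, S.Q.q (φ e) = S.Q.q e) ∧ (∀ e e', S.Q.B (φ e) (φ e') = S.Q.B e e') ∧
        (∀ e, S.Q.B a0 e = 0 → S.Q.B a0 (φ e) = 0) ∧
        ∀ e, S.Q.B a0 e = 0 → mk c * mk (lf e) * (mk c)⁻¹ = mk (lf (φ e)) := by
    intro c hc
    obtain ⟨φ, hφ, hq⟩ := S.exists_act hR hc
    have hfa : φ a0 = a0 := Act.eq S hφ (Or.inl (by rw [← hAd, hCc c, mul_inv_cancel_right]))
    have hB := Act.B_eq S hR hc hφ
    have hP : ∀ e, S.Q.B a0 e = 0 → S.Q.B a0 (φ e) = 0 := fun e he => by
      conv_lhs => rw [← hfa]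
      rw [hB, he]
    refine ⟨φ, hφ, hfa, hq, hB, hP, fun e he => ?_⟩
    rw [← map_inv, ← map_mul, ← map_mul]
    refine hmkPM _ _ ?_
    rw [Subgroup.coe_mul, Subgroup.coe_mul, Subgroup.coe_inv, hlf e he, hlf (φ e) (hP e he)]
    exact hφ e
  have hfixed : ∀ (c : C) (φ : (Fin (2 * k) → ZMod 2) → (Fin (2 * k) → ZMod 2)),
      (∀ e, S.Q.q (φ e) = S.Q.q e) → (∀ e, S.Q.B a0 e = 0 → S.Q.B a0 (φ e) = 0) →
      (∀ e, S.Q.B a0 e = 0 → mk c * mk (lf e) * (mk c)⁻¹ = mk (lf (φ e))) →
      ∀ e, S.Q.B a0 e = 0 → mk c * mk (lf e) = mk (lf e) * mk c → φ e = e := by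
    intro c φ hq hP hc e he hcomm
    have h1 : mk (lf (φ e)) = mk (lf e) := by rw [← hc e he, hcomm, mul_inv_cancel_right]
    rcases (hlfeq _ _ (hP e he) he).1 h1 with h | h
    · exact vec_eq_of_add h
    · exfalso
      have h3 : φ e = e + a0 := by
        rw [← h]
        calc φ e = φ e + (e + e) := by rw [vec_add_self, add_zero]
          _ = _ := by abel
      have h4 := hq e
      rw [h3, S.Q.polar, ha0, S.Q.B_symm, he, add_zero] at h4
      simp at h4
  let D : FusionData (C ⧸ planeIn _ A hA) W :=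
    { N := NQ
      e := fun w => mk (lf w)
      B := S.Q.B.restrict W
      e_add := fun x y => hadd _ _ (hWa x) (hWa y)
      e_inj := fun x y h => Subtype.ext (((hlfeq _ _ (hWa x) (hWa y)).1 h).elim vec_eq_of_add fun h' =>
        absurd (h' ▸ W.add_mem x.2 y.2) ha0W)
      e_mem := fun x => (hmemN _).2 (by rw [hlf _ (hWa x)]; exact normalises_of_mem (S.mem _))
      refl := fun x y => S.Q.B_symm x.1 y.1
      nondeg := fun x hx => by
        refine Subtype.ext (S.Q.nondeg x.1 fun e => ?_)
        obtain ⟨e1, he1⟩ : ∃ e1, e1 = e + S.Q.B a0 e • v0 := ⟨_, rfl⟩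
        have he1a : S.Q.B a0 e1 = 0 := by
          rw [he1, _root_.map_add, map_smul, S.Q.B_symm a0 v0, hv0, smul_eq_mul, mul_one, zmod_two_add_self]
        have h := hx ⟨pr e1, hprW e1 he1a⟩
        change S.Q.B (x : Fin (2 * k) → ZMod 2) (pr e1) = 0 at h
        rwa [hpr, he1, _root_.map_add, _root_.map_add, map_smul, map_smul, S.Q.B_symm x.1 a0, hWa x, S.Q.B_symm x.1 v0,
          ((hWm _).1 x.2).2, smul_zero, smul_zero, add_zero, add_zero] at h
      conj := fun n hn => by
        obtain ⟨c, rfl⟩ := hsurj n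
        obtain ⟨φ, hφ, hfa, hq, hB, hP, hc⟩ := hact c ((hmemN c).1 hn)
        refine ⟨fun w => ⟨pr (φ w), hprW _ (hP _ (hWa w))⟩, fun w => ?_, fun x y => ?_⟩
        · rw [hc _ (hWa w), hprmk _ (hP _ (hWa w))]
        · change S.Q.B (pr (φ x)) (pr (φ y)) = S.Q.B (x : Fin (2 * k) → ZMod 2) y
          rw [hpr (φ x), _root_.map_add, LinearMap.add_apply, map_smul, LinearMap.smul_apply,
            hprA _ (hP _ (hWa y)), smul_zero, add_zero, hpr, _root_.map_add, map_smul, S.Q.B_symm _ a0,
            hP _ (hWa x), smul_zero, add_zero, hB]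
      centr := fun n hn h => by
        obtain ⟨c, rfl⟩ := hsurj n
        have hcn := (hmemN c).1 hn
        obtain ⟨φ, hφ, hfa, hq, hB, hP, hc⟩ := hact c hcn
        have hfW : ∀ e, S.Q.B a0 e = 0 → φ e = e := by
          intro e he
          have h1 : φ (pr e) = pr e := hfixed c φ hq hP hc _ (hprA e he) (h ⟨pr e, hprW e he⟩)
          rw [hpr, _root_.map_add, map_smul, hfa] at h1
          exact add_right_cancel h1
        have hd : φ v0 + v0 = 0 ∨ φ v0 + v0 = a0 := by
          by_contra hcon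
          obtain ⟨v, hv, hv1⟩ := S.Q.exists_sep (U := span (ZMod 2) {a0}) (x := φ v0 + v0) fun h' =>
            hcon (QuadSpace.mem_span_single_two h')
          have hva : S.Q.B a0 v = 0 := S.Q.orth_span_B hv rfl
          have h1 : S.Q.B v (φ v0) = S.Q.B v v0 := by
            conv_lhs => rw [← hfW v hva]
            exact hB v v0
          rw [_root_.map_add, h1, zmod_two_add_self] at hv1
          exact zero_ne_one hv1
        have hdec : ∀ e, φ e = e + S.Q.B a0 e • (φ v0 + v0) := by
          intro e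
          have he : S.Q.B a0 (e + S.Q.B a0 e • v0) = 0 := by
            rw [_root_.map_add, map_smul, S.Q.B_symm a0 v0, hv0, smul_eq_mul, mul_one, zmod_two_add_self]
          have h1 := hfW _ he
          rw [_root_.map_add, map_smul] at h1
          calc φ e = φ e + (S.Q.B a0 e • φ v0 + S.Q.B a0 e • φ v0) := by rw [vec_add_self, add_zero]
            _ = e + S.Q.B a0 e • v0 + S.Q.B a0 e • φ v0 := by rw [← add_assoc, h1]
            _ = _ := by rw [smul_add]; abel
        suffices hmain : ∃ u, S.Q.B a0 u = 0 ∧ mk c = mk (lf u) by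
          obtain ⟨u, hu, hcu⟩ := hmain
          exact ⟨⟨pr u, hprW u hu⟩, hcu.trans (hprmk u hu).symm⟩
        rcases hd with hd | hd
        · obtain ⟨u, hu⟩ := S.fix_mem hR (hH _ (hCH c)) fun e => by
            have h1 := hφ e
            rwa [hdec, hd, smul_zero, add_zero] at h1
          have hua := hperp u _ (hCc c) hu
          exact ⟨u, hua, hmkPM _ _ (by rw [hlf u hua]; exact hu)⟩
        · -- the element induces the reflection at `a0`
          have hAM : (A : Matrix ι ι F) * A = -1 := by rw [← Units.val_mul, hA, Units.val_neg, Units.val_one]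
          obtain ⟨M, hM⟩ : ∃ M : GL ι F, (M : Matrix ι ι F) = 1 + (A : Matrix ι ι F) ∧
              ((M⁻¹ : GL ι F) : Matrix ι ι F) = (2 : F)⁻¹ • (1 - (A : Matrix ι ι F)) := by
            refine ⟨⟨1 + (A : Matrix ι ι F), (2 : F)⁻¹ • (1 - (A : Matrix ι ι F)), ?_, ?_⟩, rfl, rfl⟩
            · rw [mul_smul_comm, add_mul, mul_sub, mul_sub, one_mul, one_mul, mul_one, hAM,
                show (1 : Matrix ι ι F) - (A : Matrix ι ι F) + ((A : Matrix ι ι F) - -1) = (2 : F) • (1 : Matrix ι ι F) by
                  rw [two_smul]; abel, inv_smul_smul₀ h2]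
            · rw [smul_mul_assoc, sub_mul, mul_add, mul_add, one_mul, one_mul, mul_one, hAM,
                show (1 : Matrix ι ι F) + (A : Matrix ι ι F) - ((A : Matrix ι ι F) + -1) = (2 : F) • (1 : Matrix ι ι F) by
                  rw [two_smul]; abel, inv_smul_smul₀ h2]
          have hMact : S.Act M (S.Q.refl a0) := by
            intro e
            obtain ⟨y, hy, hy'⟩ := S.oneAdd_conj hR ha0 (PM.rfl' (S.L e))
            have h1 : M * S.L e * M⁻¹ = y := Units.ext (by
              rw [Units.val_mul, Units.val_mul, hM.1, hM.2, mul_smul_comm, hAd, hy', smul_smul,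
                inv_mul_cancel₀ h2, one_smul])
            rw [h1]; exact hy
          obtain ⟨u, s, hs'⟩ := S.matrix_of_fix hR (g := M * c) fun e => by
            have h1 := (Act.comp S (φ := S.Q.refl a0) (ψ := φ) hMact hφ) e
            have h3 : S.Q.refl a0 (φ e) = e := by
              rw [hdec, hd, _root_.map_add, map_smul, S.Q.refl_fix (S.Q.B_self a0), QuadSpace.refl_apply, add_assoc,
                ← add_smul, zmod_two_add_self, zero_smul, add_zero]
            dsimp only at h1
            rwa [h3] at h1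
          have hMA : (M : Matrix ι ι F) * A = A * M := by rw [hM.1, add_mul, mul_add, one_mul, mul_one]
          have hua : S.Q.B a0 u = 0 := by
            have h3 : ((M * c : GL ι F) : Matrix ι ι F) * A = A * ((M * c : GL ι F) : Matrix ι ι F) := by
              rw [Units.val_mul, mul_assoc, ← Units.val_mul (c : GL ι F) A, hCc c, Units.val_mul, ← mul_assoc, hMA,
                mul_assoc]
            have hs0 : s ≠ 0 := fun h0 => (M * c).isUnit.ne_zero (by rw [hs', h0, zero_smul])
            rw [hs', smul_mul_assoc, mul_smul_comm] at h3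
            refine (S.comm a0 u).1 (Units.ext ?_)
            rw [Units.val_mul, Units.val_mul, ← hAd]
            exact (smul_right_injective _ hs0 h3).symm
          refine ⟨u, hua, ((hmkeq _ _).2 ?_).symm⟩
          rw [mem_planeIn, Subgroup.coe_mul, Subgroup.coe_inv, hlf u hua, Units.val_mul]
          refine ⟨s * (2 : F)⁻¹, -(s * (2 : F)⁻¹), ?_⟩
          have hc' : ((c : GL ι F) : Matrix ι ι F) = ((M⁻¹ : GL ι F) : Matrix ι ι F) * (s • (S.L u : Matrix ι ι F)) := by
            rw [← hs', ← Units.val_mul, inv_mul_cancel_left]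
          have huA : ((S.L u)⁻¹ : GL ι F).val * (A : Matrix ι ι F) = A * ((S.L u)⁻¹ : GL ι F).val := by
            rw [← Units.val_mul, ← Units.val_mul]
            congr 1
            rw [hAd]
            exact (Commute.inv_left ((S.comm a0 u).2 hua).symm).eq
          rw [hc', hM.2, smul_mul_smul_comm, mul_smul_comm, ← mul_assoc, mul_sub, mul_one, huA, sub_mul, Units.inv_mul,
            mul_assoc, Units.inv_mul, mul_one, smul_sub, mul_comm, sub_eq_add_neg, neg_smul]
      ctr := fun x hx g h => by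
        obtain ⟨c, rfl⟩ := hsurj g
        rw [hmemN]
        obtain ⟨r, hr, hqr, hr0, hre, -⟩ := hrep x 0 hx
        rw [← hre] at h
        obtain ⟨z, hzd⟩ : ∃ z, z = (lf r)⁻¹ * (c * lf r * c⁻¹) := ⟨_, rfl⟩
        have hz : z ∈ planeIn _ A hA := by
          rw [hzd, ← hmkeq, map_mul, map_mul, map_inv, h, mul_inv_cancel_right]
        obtain ⟨p, q, hpq⟩ := (mem_planeIn z).1 hz
        obtain ⟨U, hU⟩ : ∃ U, U = S.L r := ⟨_, rfl⟩
        have hUU : U * U = 1 := by rw [hU]; exact (S.sq r).2 hqr
        have hzU : U * (z : GL ι F) = (z : GL ι F) * U :=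
          plane_comm hz (by rw [hU, hAd]; exact ((S.comm a0 r).2 hr).symm)
        have hzv : (c : GL ι F) * U * (c : GL ι F)⁻¹ = U * (z : GL ι F) := by
          rw [hzd, Subgroup.coe_mul, Subgroup.coe_inv, Subgroup.coe_mul, Subgroup.coe_mul, Subgroup.coe_inv, hlf r hr,
            ← hU]
          group
        have hzz : (z : GL ι F) * (z : GL ι F) = 1 := by
          have h1 : (c : GL ι F) * U * (c : GL ι F)⁻¹ * ((c : GL ι F) * U * (c : GL ι F)⁻¹) = 1 := by
            rw [show (c : GL ι F) * U * (c : GL ι F)⁻¹ * ((c : GL ι F) * U * (c : GL ι F)⁻¹) =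
              (c : GL ι F) * (U * U) * (c : GL ι F)⁻¹ by group, hUU, mul_one, mul_inv_cancel]
          rw [hzv] at h1
          calc (z : GL ι F) * (z : GL ι F) = (U * U) * ((z : GL ι F) * (z : GL ι F)) := by rw [hUU, one_mul]
            _ = U * (U * (z : GL ι F)) * (z : GL ι F) := by group
            _ = U * ((z : GL ι F) * U) * (z : GL ι F) := by rw [hzU]
            _ = U * (z : GL ι F) * (U * (z : GL ι F)) := by group
            _ = 1 := h1
        have hzs : PM (z : GL ι F) 1 := by
          have hAM : (A : Matrix ι ι F) * A = -1 := by rw [← Units.val_mul, hA, Units.val_neg, Units.val_one]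
          by_cases hq : q = 0
          · exact hR.scalar_iso (c := p) (by rw [hpq, hq, zero_smul, add_zero]) (hH _ (hCH z))
          exfalso
          have hsc : ∀ s t : F, s • (1 : Matrix ι ι F) + t • (A : Matrix ι ι F) = 0 → t = 0 := by
            intro s t h0
            by_contra ht
            refine ha00 (S.Q.nondeg a0 fun e => (S.comm a0 e).1 ?_)
            rw [← hAd]
            refine Units.ext ?_
            have hval : (A : Matrix ι ι F) = -((t⁻¹ * s) • (1 : Matrix ι ι F)) := by
              have h1 := congrArg (t⁻¹ • ·) h0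
              simp only [smul_add, smul_smul, inv_mul_cancel₀ ht, one_smul, smul_zero] at h1
              exact eq_neg_of_add_eq_zero_right h1
            rw [Units.val_mul, Units.val_mul, hval, neg_mul, mul_neg, smul_mul_assoc, one_mul, mul_smul_comm, mul_one]
          have h1 : ((z : GL ι F) : Matrix ι ι F) * (z : GL ι F) = 1 := by rw [← Units.val_mul, hzz, Units.val_one]
          rw [hpq, plane_mul hAM] at h1
          have h3 : p * q + q * p = 0 := hsc (p * p - q * q - 1) _ (by
            rw [sub_smul, one_smul, sub_add_eq_add_sub, h1, sub_self])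
          have hp : p = 0 := by
            have h4 : (2 : F) * (p * q) = 0 := by linear_combination h3
            exact (mul_eq_zero.1 ((mul_eq_zero.1 h4).resolve_left h2)).resolve_right hq
          rw [h3, zero_smul, add_zero, hp, mul_zero, zero_sub] at h1
          have hq2 : q * q = -1 := by
            obtain ⟨i⟩ := hR.nonempty
            have := congrFun (congrFun h1 i) i
            simp at this
            linear_combination -this
          obtain ⟨i⟩ := hR.nonempty
          obtain ⟨⟨v, hv⟩, -⟩ := hR.nondeg (Pi.single i 1) (fun h' => by simpa using congrFun h' i)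
          have h5 := hH _ (hCH z) v (Pi.single i 1)
          rw [hpq, hp, zero_smul, zero_add, smul_mulVec, smul_mulVec, hR.bil.smul_left, hR.bil.smul_right,
            hAd, hR.iso _ (S.mem a0), ← mul_assoc, hq2] at h5
          exact h2 ((mul_eq_zero.1 (show (2 : F) * f v (Pi.single i 1) = 0 by linear_combination -h5)).resolve_right hv)
        have hfin : ∀ c' : GL ι F, c' ∈ H → c' * U = U * c' → Normalises c' R := fun c' h1 h2' =>
          hs r hr0 hqr c' h1 (hU ▸ h2')
        rcases hzs with h1 | h1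
        · refine hfin _ (hCH c) (mul_inv_eq_iff_eq_mul.1 ?_)
          rw [hzv, h1, mul_one]
        · obtain ⟨v, -, hvr⟩ := S.Q.exists_sep (U := ⊥) (x := r) (by simpa using hr0)
          have h3 : (c : GL ι F) * S.L v * U * ((c : GL ι F) * S.L v)⁻¹ = U := by
            rw [show (c : GL ι F) * S.L v * U * ((c : GL ι F) * S.L v)⁻¹ =
              (c : GL ι F) * (S.L v * U * (S.L v)⁻¹) * (c : GL ι F)⁻¹ by group, hU, S.conj_eq hR, hvr, if_neg one_ne_zero,
              neg_conj, ← hU, hzv, h1, mul_neg_one, neg_neg]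
          have h4 := (hfin _ (mul_mem (hCH c) (hRH (S.mem v))) (mul_inv_eq_iff_eq_mul.1 h3)).mul
            (normalises_of_mem (S.mem v)).inv
          rwa [mul_inv_cancel_right] at h4
      fus := fun x y g hx h => by
        obtain ⟨c, rfl⟩ := hsurj g
        have hy : y ≠ 0 := by
          intro h0
          subst h0
          refine hx (Subtype.ext ?_)
          have h1 : mk (lf (x : Fin (2 * k) → ZMod 2)) = mk (lf 0) := by
            rw [ZeroMemClass.coe_zero, hzero] at h
            rw [hzero]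
            exact conj_eq_one_iff.1 h
          rcases (hlfeq _ _ (hWa x) (map_zero _)).1 h1 with h' | h' <;> rw [add_zero] at h'
          · exact h'
          · exact absurd (h' ▸ x.2) ha0W
        obtain ⟨sx, hsx, hqx, hsx0, hxe, -⟩ := hrep x 0 hx
        obtain ⟨sy, hsy, hqy, hsy0, hye, -⟩ := hrep y 0 hy
        obtain ⟨P, hP⟩ : ∃ P : (Fin (2 * k) → ZMod 2) → Prop, ∀ z, P z ↔
            ∃ n : GL ι F, (Iso f n ∧ Normalises n R ∧ n * A = A * n) ∧ PM (n * S.L sx * n⁻¹) (S.L z) :=
          ⟨_, fun z => Iff.rfl⟩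
        have hstep : ∀ a b z, S.Q.q a = 1 → S.Q.q b = 1 → S.Q.B a0 a = 0 → S.Q.B a0 b = 0 → P z →
            P (S.Q.refl a (S.Q.refl b z)) := by
          intro a b z ha hb ha' hb' hz
          obtain ⟨n, ⟨hn1, hn2, hn3⟩, hn4⟩ := (hP z).1 hz
          have hTA : S.tw hR a b ha hb * A = A * S.tw hR a b ha hb := by
            rw [hAd]; exact S.tw_comm hR ha hb ((S.comm a0 a).2 ha') ((S.comm a0 b).2 hb')
          refine (hP _).2 ⟨S.tw hR a b ha hb * n, ⟨(S.tw_iso hR ha hb).mul hn1, (S.tw_normalises hR ha hb).mul hn2,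
            by rw [mul_assoc, hn3, ← mul_assoc, hTA, mul_assoc]⟩, ?_⟩
          have h1 := (hn4.conj (S.tw hR a b ha hb)).trans (S.tw_act hR ha hb z)
          rwa [show S.tw hR a b ha hb * (n * S.L sx * n⁻¹) * (S.tw hR a b ha hb)⁻¹ =
            S.tw hR a b ha hb * n * S.L sx * (S.tw hR a b ha hb * n)⁻¹ by group] at h1
        have hPx : P sx := (hP sx).2 ⟨1, ⟨iso_one f, normalises_of_mem R.one_mem, by simp⟩, by simp [PM]⟩
        obtain ⟨n, ⟨hn1, hn2, hn3⟩, hn4⟩ :=
          (hP sy).1 (S.Q.singular_transport_orth ha0 hstep hsx0 hsy0 hqx hqy hsx hsy hPx)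
        refine ⟨_, (hmemN ⟨n, hCmem (hN n hn1 hn2) hn3⟩).2 hn2, ?_⟩
        rw [← hxe, ← hye, ← map_inv, ← map_mul, ← map_mul]
        refine hmkPM _ _ ?_
        rw [Subgroup.coe_mul, Subgroup.coe_mul, Subgroup.coe_inv, hlf sx hsx, hlf sy hsy]
        exact hn4
      tex := fun AA Y β hAA hYA hβ hY hfix => by
        have hA2 : 2 ≤ finrank (ZMod 2) AA := by
          by_contra hlt
          obtain ⟨a, haA⟩ : ∃ a : W, AA ≤ span (ZMod 2) {a} := by
            rcases Nat.eq_zero_or_pos (finrank (ZMod 2) AA) with h | h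
            · exact ⟨0, by rw [Submodule.finrank_eq_zero.1 h]; exact bot_le⟩
            · obtain ⟨a, haA, ha⟩ := (Submodule.ne_bot_iff AA).1 fun h' => by rw [h', finrank_bot] at h; omega
              refine ⟨a, le_of_eq (Submodule.eq_of_le_of_finrank_le (span_le.2 (by simpa using haA)) ?_).symm⟩
              rw [finrank_span_singleton ha]; omega
          obtain ⟨T, hT⟩ : ∃ T, T = S.Q.B.orthogonal (span (ZMod 2) (({a0, v0, (a : Fin (2 * k) → ZMod 2)} : Finset (Fin (2 * k) → ZMod 2)) : Set (Fin (2 * k) → ZMod 2))) := ⟨_, rfl⟩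
          have hTW : T ≤ (span (ZMod 2) {a}).map W.subtype := by
            intro x hx
            rw [hT] at hx
            have hxW : x ∈ W := (hWm x).2 ⟨S.Q.orth_span_B hx (by simp), S.Q.orth_span_B hx (by simp)⟩
            refine ⟨⟨x, hxW⟩, haA ((hAA _).2 fun y hy => ?_), rfl⟩
            change S.Q.B (y : Fin (2 * k) → ZMod 2) x = 0
            rcases QuadSpace.mem_span_single_two (haA hy) with h | h <;> rw [h]
            · simp
            · exact S.Q.orth_span_B hx (by simp)
          have h1 := S.Q.le_finrank_orth {a0, v0, (a : Fin (2 * k) → ZMod 2)}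
          rw [← hT] at h1
          have h2' : ({a0, v0, (a : Fin (2 * k) → ZMod 2)} : Finset (Fin (2 * k) → ZMod 2)).card ≤ 3 := Finset.card_le_three
          have h3 := (Submodule.finrank_mono hTW).trans (Submodule.finrank_map_le _ _)
          have h4 : finrank (ZMod 2) (span (ZMod 2) ({a} : Set W)) ≤ 1 := by
            have := finrank_span_finset_le_card (R := ZMod 2) ({a} : Finset W)
            rwa [Finset.coe_singleton, Set.finrank, Finset.card_singleton] at this
          omega
        obtain ⟨a1, ha1, ha1ne⟩ := (Submodule.ne_bot_iff AA).1 fun h => by rw [h, finrank_bot] at hA2; omega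
        obtain ⟨e1, he1, hqe1, he10, he1e, he1w⟩ := hrep a1 1 ha1ne
        have hlift : ∀ y : Y, ∃ b, mk b = β y ∧ Normalises (b : GL ι F) R := fun y => by
          obtain ⟨b, hb⟩ := hsurj (β y)
          exact ⟨b, hb, (hmemN b).1 (hb ▸ hY y y.2)⟩
        choose b hb hbn using hlift
        have hb1 : ∀ y : Y, ∀ φ : (Fin (2 * k) → ZMod 2) → (Fin (2 * k) → ZMod 2), S.Act (b y : GL ι F) φ → φ e1 = e1 := by
          intro y φ hφ
          obtain ⟨ψ, hψ, -, hq, -, hP, hc⟩ := hact (b y) (hbn y)
          rw [Act.eq S hφ (hψ e1)]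
          refine hfixed (b y) ψ hq hP hc e1 he1 ?_
          rw [hb, he1e]
          by_cases hy : (y : W) = 0
          · have h1 : β 0 = 1 := by
              have h := hβ 0 0
              rw [add_zero] at h
              simpa using h.symm
            rw [hy, h1, one_mul, mul_one]
          · exact (hfix y y.2 hy a1).2 ha1
        have hbPM : ∀ y : Y, PM ((b y : GL ι F) * S.L e1 * (b y : GL ι F)⁻¹) (S.L e1) := fun y => by
          obtain ⟨ψ, hψ, -⟩ := hact (b y) (hbn y)
          have := hψ e1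
          rwa [hb1 y ψ hψ] at this
        obtain ⟨y1, hy1, hy1c⟩ : ∃ y : Y, y ≠ 0 ∧ (b y : GL ι F) * S.L e1 * (b y : GL ι F)⁻¹ = S.L e1 := by
          obtain ⟨y, y', hne', hsig⟩ := exists_collision (fun y : Y =>
              decide ((b y : GL ι F) * S.L e1 * (b y : GL ι F)⁻¹ = S.L e1)) (by
            rw [Nat.card_eq_fintype_card (α := Bool), Fintype.card_bool,
              Module.natCard_eq_pow_finrank (K := ZMod 2) (V := Y), hYA, Nat.card_zmod]
            calc 2 < 2 ^ 2 := by norm_num
              _ ≤ 2 ^ _ := Nat.pow_le_pow_right (by norm_num) hA2)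
          rw [decide_eq_decide] at hsig
          refine ⟨y + y', fun h => hne' (Subtype.ext (vec_eq_of_add (congrArg Subtype.val h))), ?_⟩
          have hmk' : mk (b (y + y')) = mk (b y * b y') := by rw [map_mul, hb, hb, hb, Submodule.coe_add, hβ]
          rw [hmkeq] at hmk'
          have hcz := plane_comm hmk' (show S.L e1 * A = A * S.L e1 by rw [hAd]; exact ((S.comm a0 e1).2 he1).symm)
          obtain ⟨z, hzd⟩ : ∃ z, z = (b (y + y'))⁻¹ * (b y * b y') := ⟨_, rfl⟩
          rw [← hzd] at hcz
          rw [show b (y + y') = b y * b y' * z⁻¹ by rw [hzd]; group]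
          rw [Subgroup.coe_mul, Subgroup.coe_mul, Subgroup.coe_inv,
            show (b y : GL ι F) * (b y' : GL ι F) * (z : GL ι F)⁻¹ * S.L e1 *
              ((b y : GL ι F) * (b y' : GL ι F) * (z : GL ι F)⁻¹)⁻¹ = (b y : GL ι F) * ((b y' : GL ι F) *
              ((z : GL ι F)⁻¹ * (S.L e1 * (z : GL ι F))) * (b y' : GL ι F)⁻¹) * (b y : GL ι F)⁻¹ by group, hcz,
            inv_mul_cancel_left]
          rcases hbPM y' with h | h
          · rw [h, hsig.2 h]
          · have h' : (b y : GL ι F) * S.L e1 * (b y : GL ι F)⁻¹ = -S.L e1 :=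
              (hbPM y).resolve_left fun h0 => (S.ne_neg hR e1) ((hsig.1 h0).symm.trans h)
            rw [h, neg_conj, h', neg_neg]
        have hTA : S.tw hR a0 e1 ha0 hqe1 * A = A * S.tw hR a0 e1 ha0 hqe1 := by
          rw [hAd]; exact S.tw_comm hR ha0 hqe1 rfl ((S.comm a0 e1).2 he1)
        obtain ⟨T, hTd⟩ : ∃ T : C,
            (T : GL ι F) = S.tw hR a0 e1 ha0 hqe1 :=
          ⟨⟨_, hCmem (hN _ (S.tw_iso hR ha0 hqe1) (S.tw_normalises hR ha0 hqe1)) hTA⟩, rfl⟩
        refine ⟨mk T, (hmemN T).2 (hTd ▸ S.tw_normalises hR ha0 hqe1), ⟨(y1 : W), y1.2, fun h => hy1 (Subtype.ext h), ?_⟩,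
          fun y hy => ?_, a1, ha1, ha1ne, ?_⟩
        · rw [← hb, ← map_mul, ← map_mul]
          congr 1
          refine Subtype.ext ?_
          rw [Subgroup.coe_mul, Subgroup.coe_mul, hTd]
          exact S.tw_comm hR ha0 hqe1 (by rw [← hAd]; exact hCc _) (mul_inv_eq_iff_eq_mul.1 hy1c)
        · obtain ⟨c, hcd⟩ : ∃ c, c = b ⟨y, hy⟩ := ⟨_, rfl⟩
          have hcn : Normalises (c : GL ι F) R := hcd ▸ hbn ⟨y, hy⟩
          obtain ⟨φ, hφ, hfa, hq, hB, hP, hc⟩ := hact c hcn
          have hf1 : φ e1 = e1 := hb1 ⟨y, hy⟩ φ (hcd ▸ hφ)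
          have hTn : Normalises (T : GL ι F) R := hTd ▸ S.tw_normalises hR ha0 hqe1
          have hT : S.Act (T : GL ι F) fun e => S.Q.refl a0 (S.Q.refl e1 e) := fun e => by
            rw [hTd]; exact S.tw_act hR ha0 hqe1 e
          have hswap : ∀ e, φ (S.Q.refl a0 (S.Q.refl e1 e)) = S.Q.refl a0 (S.Q.refl e1 (φ e)) := by
            intro e
            simp only [QuadSpace.refl_apply, _root_.map_add, map_smul, hfa, hf1]
            have h1 : S.Q.B a0 (φ e) = S.Q.B a0 e := by conv_lhs => rw [← hfa]; exact hB a0 e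
            have h2' : S.Q.B e1 (φ e) = S.Q.B e1 e := by conv_lhs => rw [← hf1]; exact hB e1 e
            rw [h1, h2']
          obtain ⟨m, hm⟩ : ∃ m : C, m = T * c * T⁻¹ * c⁻¹ := ⟨_, rfl⟩
          obtain ⟨v, hv⟩ := S.fix_mem hR (hH _ (hCH m)) (fun e => by
            have h1 : S.Act ((c : GL ι F) * (T : GL ι F)) fun e => φ (S.Q.refl a0 (S.Q.refl e1 e)) :=
              Act.comp S (φ := φ) (ψ := fun e => S.Q.refl a0 (S.Q.refl e1 e)) hφ hT
            have h2' : S.Act ((T : GL ι F) * (c : GL ι F)) fun e => S.Q.refl a0 (S.Q.refl e1 (φ e)) :=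
              Act.comp S (φ := fun e => S.Q.refl a0 (S.Q.refl e1 e)) (ψ := φ) hT hφ
            obtain ⟨w, hw⟩ : ∃ w, PM ((((c : GL ι F) * (T : GL ι F))⁻¹) * S.L e * ((c : GL ι F) * (T : GL ι F))) (S.L w) := by
              have := (hcn.mul hTn).inv _ (S.mem e)
              rw [inv_inv] at this
              exact S.surj _ this
            have h4 := h1 w
            have h5 := h2' w
            dsimp only at h4 h5
            rw [← hswap] at h5
            have h6 := (hw.conj ((c : GL ι F) * (T : GL ι F))).trans (h4.trans h5.symm)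
            rw [show (c : GL ι F) * (T : GL ι F) * (((c : GL ι F) * (T : GL ι F))⁻¹ * S.L e *
              ((c : GL ι F) * (T : GL ι F))) * ((c : GL ι F) * (T : GL ι F))⁻¹ = S.L e by group] at h6
            have h7 := ((hw.conj ((T : GL ι F) * (c : GL ι F))).trans h6.symm)
            rw [hm, Subgroup.coe_mul, Subgroup.coe_mul, Subgroup.coe_mul, Subgroup.coe_inv, Subgroup.coe_inv]
            rwa [show (T : GL ι F) * (c : GL ι F) * (((c : GL ι F) * (T : GL ι F))⁻¹ * S.L e *
              ((c : GL ι F) * (T : GL ι F))) * ((T : GL ι F) * (c : GL ι F))⁻¹ =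
              ((T : GL ι F) * (c : GL ι F) * (T : GL ι F)⁻¹ * (c : GL ι F)⁻¹) * S.L e *
              ((T : GL ι F) * (c : GL ι F) * (T : GL ι F)⁻¹ * (c : GL ι F)⁻¹)⁻¹ by group] at h7)
          have hva := hperp v _ (hCc m) hv
          refine ⟨⟨pr v, hprW v hva⟩, ?_⟩
          rw [show β y = β (⟨y, hy⟩ : Y) from rfl, ← hb, ← hcd, ← map_mul, ← map_inv, ← map_mul, ← map_inv, ← map_mul,
            ← hm, hprmk v hva]
          exact hmkPM _ _ (by rw [hlf v hva]; exact hv)
        · rw [← map_mul, ← he1e]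
          have hh : S.Q.B a0 (a0 + e1) = 0 := by rw [_root_.map_add, S.Q.B_self, he1, add_zero]
          rw [show mk (T * T) = mk (lf (a0 + e1)) from hmkPM _ _ (by
            rw [Subgroup.coe_mul, hTd, hlf _ hh]; exact S.tw_sq hR ha0 hqe1 he1)]
          rw [hlfeq _ _ hh he1, add_assoc, vec_add_self, add_zero]
          exact Or.inr rfl
      inv := by
        obtain ⟨v, hv⟩ : ∃ v : W, v ≠ 0 := by
          by_contra hcon
          push Not at hcon
          haveI : Subsingleton W := ⟨fun a b => (hcon a).trans (hcon b).symm⟩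
          rw [Module.finrank_zero_of_subsingleton] at hWdim
          omega
        obtain ⟨e1, he1, hqe1, he10, he1e, he1w⟩ := hrep v 1 hv
        have he1a : e1 ∉ span (ZMod 2) ({a0} : Set (Fin (2 * k) → ZMod 2)) := fun h => by
          rcases QuadSpace.mem_span_single_two h with h | h
          · exact he10 h
          · rcases he1w with h' | h' <;> rw [h] at h'
            · exact ha0W (h' ▸ v.2)
            · exact hv (Subtype.ext (right_eq_add.1 h'))
        obtain ⟨u1, hu1, hu1e⟩ := S.Q.exists_sep he1a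
        have hu1a : S.Q.B a0 u1 = 0 := S.Q.orth_span_B hu1 rfl
        have hTA : S.tw hR a0 e1 ha0 hqe1 * A = A * S.tw hR a0 e1 ha0 hqe1 := by
          rw [hAd]; exact S.tw_comm hR ha0 hqe1 rfl ((S.comm a0 e1).2 he1)
        obtain ⟨U, hUd⟩ : ∃ U : C,
            (U : GL ι F) = S.tw hR a0 e1 ha0 hqe1 * S.L u1 :=
          ⟨⟨_, mul_mem (hCmem (hN _ (S.tw_iso hR ha0 hqe1) (S.tw_normalises hR ha0 hqe1)) hTA) (hCL u1 hu1a)⟩, rfl⟩
        have hUn : Normalises (U : GL ι F) R :=
          hUd ▸ (S.tw_normalises hR ha0 hqe1).mul (normalises_of_mem (S.mem u1))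
        obtain ⟨φ, hφ, hfa, hq, hB, hP, hc⟩ := hact U hUn
        have hform : ∀ e, φ e = S.Q.refl a0 (S.Q.refl e1 e) := fun e => Act.eq S hφ (by
          have h := (Act.comp S (φ := fun e => S.Q.refl a0 (S.Q.refl e1 e)) (ψ := id)
            (fun e => S.tw_act hR ha0 hqe1 e) (S.act_mem hR u1)) e
          rw [← hUd] at h
          exact h)
        have hdiff : ∀ e, φ e + e = S.Q.B e1 e • e1 + (S.Q.B a0 e) • a0 := fun e => by
          rw [hform]
          simp only [QuadSpace.refl_apply, _root_.map_add, map_smul, he1, smul_eq_mul, mul_zero, add_zero, zero_smul]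
          rw [show e + S.Q.B a0 e • a0 + S.Q.B e1 e • e1 + e = S.Q.B e1 e • e1 + S.Q.B a0 e • a0 + (e + e) by abel,
            vec_add_self, add_zero]
        refine ⟨mk U, (hmemN U).2 hUn, ?_, ?_, ?_⟩
        · rw [← map_mul, ← map_one mk, hmkeq, mul_one]
          refine (planeIn _ A hA).inv_mem ?_
          rw [mem_planeIn, Subgroup.coe_mul, hUd]
          have hAM : (A : Matrix ι ι F) * A = -1 := by rw [← Units.val_mul, hA, Units.val_neg, Units.val_one]
          have hE : (S.L e1 : Matrix ι ι F) * S.L e1 = -1 := by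
            rw [← Units.val_mul, S.sq_neg hR hqe1, Units.val_neg, Units.val_one]
          have c1 : (S.L u1 : Matrix ι ι F) * A = A * S.L u1 := by
            rw [hAd, ← Units.val_mul, ← (S.comm a0 u1).2 hu1a, Units.val_mul]
          have c2 : (S.L u1 : Matrix ι ι F) * S.L e1 = -((S.L e1 : Matrix ι ι F) * S.L u1) := by
            rw [← Units.val_mul, S.anti_of hR hu1e, Units.val_neg, Units.val_mul]
          have c3 : (S.L e1 : Matrix ι ι F) * A = A * S.L e1 := by
            rw [hAd, ← Units.val_mul, ← (S.comm a0 e1).2 he1, Units.val_mul]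
          obtain ⟨sg, hsg⟩ : ∃ sg : F, (S.L u1 : Matrix ι ι F) * S.L u1 = sg • (1 : Matrix ι ι F) := by
            rcases hR.sq _ (S.mem u1) with h | h <;> rw [← Units.val_mul, h]
            · exact ⟨1, by simp⟩
            · exact ⟨-1, by simp⟩
          refine ⟨0, sg, ?_⟩
          rw [Units.val_mul, Units.val_mul]
          change (2 : F)⁻¹ • ((1 + (S.L a0 : Matrix ι ι F)) * (1 + (S.L e1 : Matrix ι ι F))) * (S.L u1 : Matrix ι ι F) *
            ((2 : F)⁻¹ • ((1 + (S.L a0 : Matrix ι ι F)) * (1 + (S.L e1 : Matrix ι ι F))) * (S.L u1 : Matrix ι ι F)) = _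
          rw [← hAd, smul_mul_assoc, smul_mul_smul_comm]
          obtain ⟨P, hPd⟩ : ∃ P, P = (1 + (A : Matrix ι ι F)) := ⟨_, rfl⟩
          obtain ⟨V, hVd⟩ : ∃ V, V = (1 + (S.L e1 : Matrix ι ι F)) := ⟨_, rfl⟩
          obtain ⟨V', hV'⟩ : ∃ V', V' = (1 - (S.L e1 : Matrix ι ι F)) := ⟨_, rfl⟩
          rw [← hPd, ← hVd]
          have e1' : (S.L u1 : Matrix ι ι F) * P = P * S.L u1 := by rw [hPd, mul_add, add_mul, mul_one, one_mul, c1]
          have e2' : (S.L u1 : Matrix ι ι F) * V = V' * S.L u1 := by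
            rw [hVd, hV', mul_add, sub_mul, mul_one, one_mul, c2, sub_eq_add_neg]
          have e3' : V * P = P * V := by
            rw [hPd, hVd]
            simp only [mul_add, add_mul, one_mul, mul_one, c3]
            abel
          have hPP : P * P = (2 : F) • (A : Matrix ι ι F) := by
            rw [hPd, add_mul, mul_add, mul_add, one_mul, one_mul, mul_one, hAM, two_smul]; abel
          have hVV : V * V' = (2 : F) • (1 : Matrix ι ι F) := by
            rw [hVd, hV', add_mul, mul_sub, mul_sub, one_mul, one_mul, mul_one, hE, two_smul]; abel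
          rw [show P * V * (S.L u1 : Matrix ι ι F) * (P * V * (S.L u1 : Matrix ι ι F)) =
            (P * P) * ((V * V') * ((S.L u1 : Matrix ι ι F) * S.L u1)) by
              calc P * V * (S.L u1 : Matrix ι ι F) * (P * V * (S.L u1 : Matrix ι ι F))
                  = P * V * ((S.L u1 : Matrix ι ι F) * P) * V * S.L u1 := by simp only [mul_assoc]
                _ = P * (V * P) * ((S.L u1 : Matrix ι ι F) * V) * S.L u1 := by rw [e1']; simp only [mul_assoc]
                _ = _ := by rw [e2', e3']; simp only [mul_assoc],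
            hPP, hVV, hsg, smul_mul_smul_comm, one_mul, smul_mul_smul_comm, mul_one, smul_smul,
            zero_smul, zero_add]
          congr 1
          field_simp
        · intro w h
          obtain ⟨z, hz, hz1⟩ := S.Q.exists_sep he1a
          have hza : S.Q.B a0 z = 0 := S.Q.orth_span_B hz rfl
          have hcomm' : mk U * mk (lf z) = mk (lf z) * mk U := by
            rw [h, ← hadd _ _ (hWa w) hza, ← hadd _ _ hza (hWa w), add_comm]
          have h1 := hfixed U φ hq hP hc z hza hcomm'
          have h3 := hdiff z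
          rw [h1, vec_add_self, hza, zero_smul, add_zero, S.Q.B_symm, hz1, one_smul] at h3
          exact he10 h3.symm
        · obtain ⟨T, hT⟩ : ∃ T, T = S.Q.B.orthogonal (span (ZMod 2) (({a0, v0, e1} : Finset (Fin (2 * k) → ZMod 2)) : Set (Fin (2 * k) → ZMod 2))) := ⟨_, rfl⟩
          obtain ⟨x, hx, hxv⟩ : ∃ x ∈ T, x ∉ span (ZMod 2) ({(v : Fin (2 * k) → ZMod 2)} : Set (Fin (2 * k) → ZMod 2)) := by
            by_contra hcon
            push Not at hcon
            have h := Submodule.finrank_mono (show T ≤ span (ZMod 2) {(v : Fin (2 * k) → ZMod 2)} from hcon)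
            rw [finrank_span_singleton (hWne v hv).1] at h
            have h1 := S.Q.le_finrank_orth {a0, v0, e1}
            rw [← hT] at h1
            have h2' : ({a0, v0, e1} : Finset (Fin (2 * k) → ZMod 2)).card ≤ 3 := Finset.card_le_three
            omega
          rw [hT] at hx
          have hxW : x ∈ W := (hWm x).2 ⟨S.Q.orth_span_B hx (by simp), S.Q.orth_span_B hx (by simp)⟩
          have hxe : S.Q.B e1 x = 0 := S.Q.orth_span_B hx (by simp)
          have hxa : S.Q.B a0 x = 0 := ((hWm x).1 hxW).1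
          have hfx : φ x = x := by
            rw [hform, S.Q.refl_fix (a := e1) hxe, S.Q.refl_fix (a := a0) hxa]
          refine ⟨⟨x, hxW⟩, ?_, fun z h => ?_⟩
          · have h1 := hc x hxa
            rw [hfx] at h1
            exact mul_inv_eq_iff_eq_mul.1 h1
          · rw [hc _ (hWa z), ← hadd _ _ (hP _ (hWa z)) (hWa z)] at h
            have hh : S.Q.B a0 (φ z + z) = 0 := by rw [_root_.map_add, hP _ (hWa z), hWa z, add_zero]
            rw [hdiff, hWa z, zero_smul, add_zero] at hh h
            have h1 := (hlfeq _ _ hxa hh).1 h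
            refine hxv ?_
            rcases zmod_two_cases (S.Q.B e1 z) with he | he <;> rw [he] at h1
            · rw [zero_smul, add_zero] at h1
              rcases h1 with h1 | h1
              · rw [h1]; exact zero_mem _
              · exact absurd (h1 ▸ hxW) ha0W
            · rw [one_smul] at h1
              have key : x = (v : Fin (2 * k) → ZMod 2) ∨ x = (v : Fin (2 * k) → ZMod 2) + a0 := by
                rcases h1 with h1 | h1
                · rw [vec_eq_of_add h1]; exact he1w
                · have hx' : x = e1 + a0 := by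
                    rw [← h1]
                    calc x = x + (e1 + e1) := by rw [vec_add_self, add_zero]
                      _ = _ := by abel
                  rw [hx']
                  rcases he1w with h' | h' <;> rw [h']
                  · exact Or.inr rfl
                  · left; rw [add_assoc, vec_add_self, add_zero]
              rcases key with h' | h'
              · rw [h']; exact mem_span_singleton_self _
              · refine absurd ?_ ha0W
                have h'' : a0 = x + v := by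
                  rw [h']
                  calc a0 = a0 + ((v : Fin (2 * k) → ZMod 2) + v) := by rw [vec_add_self, add_zero]
                    _ = _ := by abel
                rw [h'']
                exact W.add_mem hxW v.2 }
  obtain ⟨g1, hg1⟩ : ∃ g1 : C, (g1 : GL ι F) = g0 := ⟨⟨g0, hCmem hg0 (by rw [hAd]; exact hg0c)⟩, rfl⟩
  have h : mk g1 ∈ D.N := by rw [D.eq_top]; exact Subgroup.mem_top _
  have h' := (hmemN g1).1 h
  rwa [hg1] at h'

end SignFrame

end CfsgLib.Classical22.C6Two
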