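/-
A group of isometries of a quadratic space that is normalised by the products of two reflections and acts
trivially on the residue of each fixed singular vector is trivial.
-/
import Cfsg.Agent.Lib.Classical22.C6Two.Orbits

set_option autoImplicit false

namespace CfsgLib.Classical22.C6Two

open Module Submodule

namespace QuadSpace

variable {E : Type*} [AddCommGroup E] [Module (ZMod 2) E] (Q : QuadSpace E)

/-- The reflection as an equivalence. -/
noncomputable def reflEquiv (a : E) : E ≃ₗ[ZMod 2] E :=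
  LinearEquiv.ofLinear (Q.refl a) (Q.refl a) (LinearMap.ext (Q.refl_refl a)) (LinearMap.ext (Q.refl_refl a))

@[simp] theorem reflEquiv_apply (a x : E) : Q.reflEquiv a x = Q.refl a x := rfl

theorem reflEquiv_mul_self (a : E) : Q.reflEquiv a * Q.reflEquiv a = 1 := LinearEquiv.ext (Q.refl_refl a)

/-- The hypotheses on the group. -/
structure Rigid (K : Subgroup (E ≃ₗ[ZMod 2] E)) : Prop where
  iso : ∀ g ∈ K, ∀ x, Q.q (g x) = Q.q x
  conj : ∀ a b, Q.q a = 1 → Q.q b = 1 → ∀ g ∈ K,
    Q.reflEquiv a * Q.reflEquiv b * g * (Q.reflEquiv a * Q.reflEquiv b)⁻¹ ∈ K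
  residue : ∀ g ∈ K, ∀ x, x ≠ 0 → Q.q x = 0 → g x = x → ∀ z, Q.B x z = 0 → g z = z ∨ g z = z + x

variable {K : Subgroup (E ≃ₗ[ZMod 2] E)}

namespace Rigid

variable {Q} (hK : Q.Rigid K)
include hK

theorem B_map {g : E ≃ₗ[ZMod 2] E} (hg : g ∈ K) (u v : E) : Q.B (g u) (g v) = Q.B u v := by
  have h := hK.iso g hg (u + v)
  rw [map_add, Q.polar, Q.polar, hK.iso g hg u, hK.iso g hg v] at h
  exact add_left_cancel h

theorem tt_conj {a b : E} (ha : Q.q a = 1) (hb : Q.q b = 1) {g : E ≃ₗ[ZMod 2] E} (hg : g ∈ K) :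
    ∃ g' ∈ K, ∀ e, g' e = Q.refl a (Q.refl b (g (Q.refl b (Q.refl a e)))) := by
  refine ⟨_, hK.conj a b ha hb g hg, fun e => ?_⟩
  rw [_root_.mul_inv_rev, inv_eq_of_mul_eq_one_left (Q.reflEquiv_mul_self a),
    inv_eq_of_mul_eq_one_left (Q.reflEquiv_mul_self b)]
  rfl

variable [Finite E]

/-- An element fixing a singular vector is the translation given by an orthogonal vector. -/
theorem shape {g : E ≃ₗ[ZMod 2] E} (hg : g ∈ K) {x y : E} (hx : Q.q x = 0) (hy : Q.q y = 0) (hxy : Q.B x y = 1)
    (hgx : g x = x) : ∃ w, Q.B x w = 0 ∧ Q.B y w = 0 ∧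
      ∀ e, g e = e + Q.B x e • (Q.q w • x + w) + Q.B w e • x := by
  have hx0 : x ≠ 0 := fun h => by rw [h, map_zero, LinearMap.zero_apply] at hxy; exact zero_ne_one hxy
  have hyx : Q.B y x = 1 := by rw [Q.B_symm]; exact hxy
  have h1 : Q.B x (g y) = 1 := by
    have h := hK.B_map hg x y
    rwa [hgx, hxy] at h
  obtain ⟨al, hal⟩ : ∃ al, al = Q.B y (g y) := ⟨_, rfl⟩
  obtain ⟨w, hwd⟩ : ∃ w, w = g y + y + al • x := ⟨_, rfl⟩
  have hwx : Q.B x w = 0 := by
    rw [hwd, map_add, map_add, h1, hxy, map_smul, Q.B_self, smul_zero, add_zero, zmod_two_add_self]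
  have hwy : Q.B y w = 0 := by
    rw [hwd, map_add, map_add, ← hal, Q.B_self, map_smul, hyx, smul_eq_mul, mul_one, add_zero, zmod_two_add_self]
  have hgy : g y = y + (al • x + w) := by
    rw [hwd]
    calc g y = g y + (y + y) + (al • x + al • x) := by rw [vec_add_self, vec_add_self, add_zero, add_zero]
      _ = _ := by abel
  have hqw : al = Q.q w := by
    have h := hK.iso g hg y
    have h' : Q.B y (al • x + w) = al := by rw [map_add, map_smul, hyx, hwy, smul_eq_mul, mul_one, add_zero]
    have h'' : Q.B (al • x) w = 0 := by rw [map_smul, LinearMap.smul_apply, hwx, smul_zero]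
    rw [hgy, Q.polar, hy, h', Q.polar (al • x) w, h'', add_zero, zero_add] at h
    rcases zmod_two_cases al with rfl | rfl
    · rw [zero_smul, Q.q_zero, zero_add, add_zero] at h
      exact h.symm
    · rw [one_smul, hx, zero_add] at h
      revert h
      generalize Q.q w = t
      revert t
      decide
  refine ⟨w, hwx, hwy, fun e => ?_⟩
  obtain ⟨z, hzd⟩ : ∃ z, z = e + Q.B x e • y + Q.B y e • x := ⟨_, rfl⟩
  have hzx : Q.B x z = 0 := by
    rw [hzd, map_add, map_add, map_smul, map_smul, hxy, Q.B_self, smul_zero, add_zero, smul_eq_mul, mul_one,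
      zmod_two_add_self]
  have hzy : Q.B y z = 0 := by
    rw [hzd, map_add, map_add, map_smul, map_smul, hyx, Q.B_self, smul_zero, add_zero, smul_eq_mul, mul_one,
      zmod_two_add_self]
  have hgz : g z = z + Q.B w z • x := by
    rcases hK.residue g hg x hx0 hx hgx z hzx with h | h
    all_goals
      have h2 := hK.B_map hg y z
      rw [hgy, h] at h2
      simp only [map_add, map_smul, LinearMap.add_apply, LinearMap.smul_apply, hzy, hzx, hyx, Q.B_self, smul_eq_mul,
        mul_zero, add_zero, zero_add, Q.B_symm w x, hwx] at h2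
    · rw [h, h2, zero_smul, add_zero]
    · rw [h, show Q.B w z = 1 by revert h2; generalize Q.B w z = t; revert t; decide, one_smul]
  have hwz : Q.B w z = Q.B w e := by
    rw [hzd, map_add, map_add, map_smul, map_smul, Q.B_symm w y, hwy, Q.B_symm w x, hwx, smul_zero, smul_zero,
      add_zero, add_zero]
  have he : e = z + (Q.B x e • y + Q.B y e • x) := by
    rw [hzd]
    calc e = e + (Q.B x e • y + Q.B x e • y) + (Q.B y e • x + Q.B y e • x) := by
          rw [vec_add_self, vec_add_self, add_zero, add_zero]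
      _ = _ := by abel
  conv_lhs => rw [he]
  rw [map_add, map_add, map_smul, map_smul, hgz, hgy, hgx, hwz, ← hqw]
  conv_rhs => arg 1; arg 1; rw [he]
  rw [smul_add (Q.B x e)]
  abel

/-- Interchanged translations with a non-singular vector. -/
theorem siegel_false {g : E ≃ₗ[ZMod 2] E} (hg : g ∈ K) {x y w : E} (hx : Q.q x = 0) (hy : Q.q y = 0)
    (hxy : Q.B x y = 1) (hwx : Q.B x w = 0) (hwy : Q.B y w = 0) (hw : Q.q w = 1)
    (hform : ∀ e, g e = e + Q.B x e • (Q.q w • x + w) + Q.B w e • x) : False := by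
  have hyx : Q.B y x = 1 := by rw [Q.B_symm]; exact hxy
  have hw0 : w ≠ 0 := fun h => by rw [h, Q.q_zero] at hw; exact zero_ne_one hw
  obtain ⟨g', hg', hg'f⟩ := hK.tt_conj (a := x + y) (b := w) (by rw [Q.polar, hx, hy, hxy]; decide) hw hg
  have h1 : Q.refl w x = x := Q.refl_fix (by rw [Q.B_symm]; exact hwx)
  have h2 : Q.refl w y = y := Q.refl_fix (by rw [Q.B_symm]; exact hwy)
  have h3 : Q.refl w w = w := Q.refl_fix (Q.B_self w)
  have h4 : Q.refl (x + y) w = w := Q.refl_fix (by rw [map_add, LinearMap.add_apply, hwx, hwy, add_zero])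
  obtain ⟨hs1, hs2⟩ := Q.refl_swap hxy
  obtain ⟨v, hvx, hvy, hwv, hqv⟩ := Q.exists_ns_one hx hy hxy hwx hwy hw0
  have hv1 : Q.refl w v = v + w := Q.refl_move hwv
  have hv2 : Q.refl (x + y) v = v := Q.refl_fix (by rw [map_add, LinearMap.add_apply, hvx, hvy, add_zero])
  obtain ⟨z, hzd⟩ : ∃ z, z = x + y + v := ⟨_, rfl⟩
  have hqz : Q.q z = 0 := by
    rw [hzd, Q.polar, Q.polar, hx, hy, hxy, hqv, map_add, LinearMap.add_apply, hvx, hvy]; decide
  have hgform : ∀ e, g e = e + Q.B x e • (x + w) + Q.B w e • x := fun e => by rw [hform, hw, one_smul]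
  -- the product fixes `z`
  have hgx : g x = x := by rw [hgform, Q.B_self, Q.B_symm w, hwx]; simp
  have hgy : g y = y + x + w := by rw [hgform, hxy, Q.B_symm w, hwy]; simp [add_assoc]
  have hgv : g v = v + x := by rw [hgform, hvx, hwv]; simp
  have hgw : g w = w := by rw [hgform, hwx, Q.B_self]; simp
  have t1 : ∀ e, g' e = Q.refl (x + y) (Q.refl w (g (Q.refl w (Q.refl (x + y) e)))) := hg'f
  have hg'x : g' x = x + y + w := by
    rw [t1, hs1, h2, hgy]
    simp only [map_add, h1, h2, h3, h4, hs1, hs2]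
  have hg'y : g' y = y := by rw [t1, hs2, h1, hgx, h1, hs1]
  have hg'w : g' w = w := by rw [t1, h4, h3, hgw, h3, h4]
  have hg'v : g' v = v + y := by
    rw [t1, hv2, hv1, map_add, hgv, hgw]
    simp only [map_add, h1, h3, h4, hs1, hv1, hv2]
    calc v + w + y + w = v + y + (w + w) := by abel
      _ = v + y := by rw [vec_add_self, add_zero]
  have key : ∀ a b : E, a + b + b = a := fun a b => by rw [add_assoc, vec_add_self, add_zero]
  have hpz : (g' * g) z = z := by
    change g' (g z) = z
    rw [hzd]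
    simp only [map_add, hgx, hgy, hgv, hg'x, hg'y, hg'v, hg'w]
    calc x + y + w + (y + (x + y + w) + w) + (v + y + (x + y + w))
        = x + y + v + ((x + x) + ((y + y) + (y + y)) + ((w + w) + (w + w))) := by abel
      _ = _ := by simp only [vec_add_self, add_zero]
  have he : (g' * g) (w + x) = x + y := by
    change g' (g (w + x)) = _
    rw [map_add, hgw, hgx, map_add, hg'w, hg'x]
    calc w + (x + y + w) = x + y + (w + w) := by abel
      _ = x + y := by rw [vec_add_self, add_zero]
  have hz0 : z ≠ 0 := fun h => by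
    have h' : Q.B x z = 0 := by rw [h, map_zero]
    rw [hzd, map_add, map_add, Q.B_self, hxy, hvx] at h'
    simp at h'
  have hze : Q.B z (w + x) = 0 := by
    rw [hzd, map_add, map_add, map_add]
    simp only [LinearMap.add_apply]
    rw [hwx, hwy, Q.B_symm v w, hwv, Q.B_self, hyx, Q.B_symm v x, hvx]
    decide
  rcases hK.residue (g' * g) (K.mul_mem hg' hg) z hz0 hqz hpz (w + x) hze with h | h
  · rw [he] at h
    have h' := congrArg (fun u => Q.B x u) h
    simp only [map_add, Q.B_self, hxy, hwx] at h'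
    simp at h'
  · rw [he, hzd] at h
    have h' := congrArg (fun u => Q.B w u) h
    simp only [map_add, Q.B_self, Q.B_symm w x, Q.B_symm w y, hwx, hwy, hwv] at h'
    simp at h'

/-- An element fixing a singular vector is trivial. -/
theorem eq_one_of_fix {g : E ≃ₗ[ZMod 2] E} (hg : g ∈ K) {x : E} (hx0 : x ≠ 0) (hx : Q.q x = 0) (hgx : g x = x) :
    g = 1 := by
  obtain ⟨y0, hy0⟩ := Q.exists_B_one hx0
  obtain ⟨y, hy, hxy⟩ : ∃ y, Q.q y = 0 ∧ Q.B x y = 1 := by
    rcases zmod_two_cases (Q.q y0) with h | h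
    · exact ⟨y0, h, by rw [Q.B_symm]; exact hy0⟩
    · exact ⟨y0 + x, by rw [Q.polar, h, hx, hy0]; decide,
        by rw [map_add, Q.B_self, add_zero, Q.B_symm]; exact hy0⟩
  obtain ⟨w, hwx, hwy, hform⟩ := hK.shape hg hx hy hxy hgx
  by_cases hw0 : w = 0
  · refine LinearEquiv.ext fun e => ?_
    rw [hform, hw0, Q.q_zero]
    simp
  exfalso
  rcases zmod_two_cases (Q.q w) with hw | hw
  swap
  · exact hK.siegel_false hg hx hy hxy hwx hwy hw hform
  -- a long root element: combine it with a conjugate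
  obtain ⟨a, hax, hay, hwa, hqa⟩ := Q.exists_ns_one hx hy hxy hwx hwy hw0
  obtain ⟨w2, hw2d⟩ : ∃ w2, w2 = a + w := ⟨_, rfl⟩
  have hw2x : Q.B x w2 = 0 := by rw [hw2d, map_add, hax, hwx, add_zero]
  have hw2y : Q.B y w2 = 0 := by rw [hw2d, map_add, hay, hwy, add_zero]
  have hw2w : Q.B w w2 = 1 := by rw [hw2d, map_add, hwa, Q.B_self, add_zero]
  have hw2 : Q.q w2 = 0 := by rw [hw2d, Q.polar, hqa, hw, Q.B_symm, hwa]; decide
  classical
  obtain ⟨c, hc, hqc⟩ := Q.exists_ns (T := Q.B.orthogonal (span (ZMod 2) (({x, y, w, w2} : Finset E) : Set E)))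
    (P := span (ZMod 2) {x, w})
    (Q.singular_span (by
      rintro u (rfl | rfl)
      · exact hx
      · exact hw) (by
      rintro u (rfl | rfl) v (rfl | rfl)
      · exact Q.B_self _
      · exact hwx
      · rw [Q.B_symm]; exact hwx
      · exact Q.B_self _))
    (fun p hp t ht => by
      rcases mem_span_pair_two hp with rfl | rfl | rfl | rfl
      · simp
      · exact Q.orth_span_B ht (by simp)
      · exact Q.orth_span_B ht (by simp)
      · rw [map_add, LinearMap.add_apply, Q.orth_span_B ht (x := x) (by simp),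
          Q.orth_span_B ht (x := w) (by simp), add_zero])
    (by
      rw [Submodule.eq_bot_iff]
      rintro p ⟨hp1, hp2⟩
      rcases mem_span_pair_two hp2 with h | h | h | h
      · exact h
      all_goals exfalso
      · have h1 := Q.orth_span_B hp1 (x := y) (by simp)
        rw [h, Q.B_symm, hxy] at h1
        exact one_ne_zero h1
      · have h1 := Q.orth_span_B hp1 (x := w2) (by simp)
        rw [h, Q.B_symm, hw2w] at h1
        exact one_ne_zero h1
      · have h1 := Q.orth_span_B hp1 (x := y) (by simp)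
        rw [h, map_add, Q.B_symm, hxy, hwy] at h1
        simp at h1)
    (by
      have h1 := Q.le_finrank_orth {x, y, w, w2}
      have h2 : ({x, y, w, w2} : Finset E).card ≤ 4 := Finset.card_le_four
      have := Q.two_le; have := Q.room
      rw [finrank_pair hx0 hw0 fun h => by rw [← h, Q.B_symm, hxy] at hwy; exact one_ne_zero hwy]
      omega)
  have hcx : Q.B c x = 0 := by rw [Q.B_symm]; exact Q.orth_span_B hc (by simp)
  have hcy : Q.B c y = 0 := by rw [Q.B_symm]; exact Q.orth_span_B hc (by simp)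
  have hcw : Q.B c w = 0 := by rw [Q.B_symm]; exact Q.orth_span_B hc (by simp)
  have hcw2 : Q.B c w2 = 0 := by rw [Q.B_symm]; exact Q.orth_span_B hc (by simp)
  have hd : Q.q (w + w2) = 1 := by rw [Q.polar, hw, hw2, hw2w]; decide
  obtain ⟨g', hg', hg'f⟩ := hK.tt_conj (a := w + w2) (b := c) hd hqc hg
  have hdx : Q.B (w + w2) x = 0 := by rw [Q.B_symm, map_add, hwx, hw2x, add_zero]
  have hdy : Q.B (w + w2) y = 0 := by rw [Q.B_symm, map_add, hwy, hw2y, add_zero]
  obtain ⟨hs1, hs2⟩ := Q.refl_swap hw2w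
  have hform' : ∀ e, g' e = e + Q.B x e • w2 + Q.B w2 e • x := by
    intro e
    rw [hg'f, hform, hw, zero_smul, zero_add]
    have hb : ∀ u v : E, Q.refl c u = u → Q.B u (Q.refl c v) = Q.B u v := fun u v hu => by
      conv_lhs => rw [← hu]
      exact Q.B_refl u v
    have hd' : ∀ u v : E, Q.B (Q.refl (w + w2) u) (Q.refl (w + w2) v) = Q.B u v := fun u v => Q.B_refl u v
    have e1 : Q.B x (Q.refl c (Q.refl (w + w2) e)) = Q.B x e := by
      rw [hb x _ (Q.refl_fix hcx)]
      conv_lhs => rw [← Q.refl_fix hdx]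
      exact hd' x e
    have e2 : Q.B w (Q.refl c (Q.refl (w + w2) e)) = Q.B w2 e := by
      rw [hb w _ (Q.refl_fix hcw)]
      rw [← hd' w2 e, hs2]
    rw [e1, e2]
    simp only [map_add, map_smul, Q.refl_refl, Q.refl_fix hcx, Q.refl_fix hcw, Q.refl_fix hdx, hs1]
  refine hK.siegel_false (K.mul_mem hg' hg) (w := w + w2) hx hy hxy ?_ ?_ hd fun e => ?_
  · rw [map_add, hwx, hw2x, add_zero]
  · rw [map_add, hwy, hw2y, add_zero]
  change g' (g e) = _
  rw [hd, one_smul, hform', hform, hw, zero_smul, zero_add]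
  simp only [map_add, map_smul, Q.B_self, hwx, Q.B_symm w2 w, hw2w, Q.B_symm w2 x, hw2x, smul_eq_mul, mul_zero,
    add_zero, mul_one, LinearMap.add_apply, add_smul, smul_add]
  abel

/-- A group with these properties is trivial. -/
theorem eq_one {g : E ≃ₗ[ZMod 2] E} (hg : g ∈ K) : g = 1 := by
  by_contra hne
  classical
  obtain ⟨x, hx, hgx⟩ : ∃ x, Q.q x = 0 ∧ g x ≠ x := by
    by_contra hcon
    push Not at hcon
    refine hne (LinearEquiv.ext fun e => ?_)
    rcases zmod_two_cases (Q.q e) with he | he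
    · exact hcon e he
    have he0 : e ≠ 0 := fun h => by rw [h, Q.q_zero] at he; exact zero_ne_one he
    obtain ⟨v, hv⟩ := Q.exists_B_one he0
    obtain ⟨x, hx, hxe⟩ : ∃ x, Q.q x = 0 ∧ Q.B x e = 1 := by
      by_contra hc2
      push Not at hc2
      obtain ⟨T, hT⟩ : ∃ T, T = Q.B.orthogonal (span (ZMod 2) (({e, v} : Finset E) : Set E)) := ⟨_, rfl⟩
      have h1 := Q.le_finrank_orth {e, v}
      rw [← hT] at h1
      have h2 : ({e, v} : Finset E).card ≤ 2 := Finset.card_le_two
      have hT0 : T ≠ ⊥ := fun h => by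
        rw [h, finrank_bot] at h1
        have := Q.two_le; have := Q.room; omega
      obtain ⟨t, ht, ht0⟩ := (Submodule.ne_bot_iff _).1 hT0
      obtain ⟨t', ht'⟩ := Q.exists_B_one ht0
      have hqv : Q.q v = 1 := zmod_two_ne_zero.1 fun h => hc2 v h hv
      have hte : Q.B e t = 0 := Q.orth_span_B (s := (({e, v} : Finset E) : Set E)) (hT ▸ ht) (by simp)
      have htv : Q.B v t = 0 := Q.orth_span_B (s := (({e, v} : Finset E) : Set E)) (hT ▸ ht) (by simp)
      have hall : ∀ u, Q.B e u = 0 → Q.B v u = 0 → Q.q u = 0 := fun u h1 h2 => by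
        refine zmod_two_ne_one.1 fun h => hc2 (v + u) ?_ ?_
        · rw [Q.polar, hqv, h, h2]; decide
        · rw [map_add, LinearMap.add_apply, hv, Q.B_symm, h1, add_zero]
      obtain ⟨u, hud⟩ : ∃ u, u = t' + Q.B e t' • v + Q.B v t' • e := ⟨_, rfl⟩
      have hue : Q.B e u = 0 := by
        rw [hud, map_add, map_add, map_smul, map_smul, Q.B_symm e v, hv, Q.B_self, smul_zero, add_zero, smul_eq_mul,
          mul_one, zmod_two_add_self]
      have huv : Q.B v u = 0 := by
        rw [hud, map_add, map_add, map_smul, map_smul, hv, Q.B_self, smul_zero, add_zero, smul_eq_mul, mul_one,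
          zmod_two_add_self]
      have hut : Q.B u t = 1 := by
        rw [hud, map_add, map_add, LinearMap.add_apply, LinearMap.add_apply, ht', map_smul, map_smul,
          LinearMap.smul_apply, LinearMap.smul_apply, htv, hte, smul_zero, smul_zero, add_zero, add_zero]
      have h3 := hall (u + t) (by rw [map_add, hue, hte, add_zero]) (by rw [map_add, huv, htv, add_zero])
      rw [Q.polar, hall u hue huv, hall t hte htv, hut] at h3
      simp at h3
    have h1 : Q.q (e + x) = 0 := by rw [Q.polar, he, hx, Q.B_symm, hxe]; decide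
    have h2 := hcon _ h1
    rw [map_add, hcon x hx] at h2
    exact add_right_cancel h2
  have hx0 : x ≠ 0 := fun h => hgx (by rw [h, map_zero])
  obtain ⟨y, hyd⟩ : ∃ y, y = g x := ⟨_, rfl⟩
  have hy : Q.q y = 0 := by rw [hyd, hK.iso g hg, hx]
  have hy0 : y ≠ 0 := fun h => hx0 (g.map_eq_zero_iff.1 (hyd ▸ h))
  have hne' : y ≠ x := hyd ▸ hgx
  -- products of two reflections fixing both vectors commute with `g`
  have hcomm : ∀ a b, Q.q a = 1 → Q.q b = 1 → Q.refl a (Q.refl b x) = x → Q.refl a (Q.refl b y) = y →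
      ∀ e, g (Q.refl b (Q.refl a e)) = Q.refl b (Q.refl a (g e)) := by
    intro a b ha hb hfx hfy e
    obtain ⟨g', hg', hg'f⟩ := hK.tt_conj ha hb hg
    have hfix : (g'⁻¹ * g) x = x := by
      change g'.symm (g x) = x
      rw [LinearEquiv.symm_apply_eq, hg'f]
      have hbx : Q.refl b (Q.refl a x) = x := by
        conv_lhs => rw [← hfx, Q.refl_refl, Q.refl_refl]
      rw [hbx, ← hyd, hfy]
    have h := hK.eq_one_of_fix (K.mul_mem (K.inv_mem hg') hg) hx0 hx hfix
    rw [inv_mul_eq_one] at h
    have he := LinearEquiv.congr_fun h e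
    rw [hg'f] at he
    have := congrArg (fun u => Q.refl b (Q.refl a u)) he
    simpa only [Q.refl_refl] using this
  rcases zmod_two_cases (Q.B x y) with hB | hB
  · obtain ⟨v, hv⟩ := Q.exists_B_one hx0
    obtain ⟨T, hT⟩ : ∃ T, T = Q.B.orthogonal (span (ZMod 2) (({x, y} : Finset E) : Set E)) := ⟨_, rfl⟩
    obtain ⟨w, hw, hqw⟩ := Q.exists_ns (T := T) (P := ⊥)
      (fun p hp => by rw [(Submodule.mem_bot _).1 hp, Q.q_zero])
      (fun p hp t _ => by rw [(Submodule.mem_bot _).1 hp, map_zero, LinearMap.zero_apply]) (inf_bot_eq _)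
      (by
        have h1 := Q.le_finrank_orth {x, y}
        rw [← hT] at h1
        have h2 : ({x, y} : Finset E).card ≤ 2 := Finset.card_le_two
        have := Q.two_le; have := Q.room
        rw [finrank_bot]
        omega)
    have hwx : Q.B w x = 0 := by
      rw [Q.B_symm]; exact Q.orth_span_B (s := (({x, y} : Finset E) : Set E)) (hT ▸ hw) (by simp)
    have hwy : Q.B w y = 0 := by
      rw [Q.B_symm]; exact Q.orth_span_B (s := (({x, y} : Finset E) : Set E)) (hT ▸ hw) (by simp)
    have hw0 : w ≠ 0 := fun h => by rw [h, Q.q_zero] at hqw; exact zero_ne_one hqw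
    have hqwx : Q.q (w + x) = 1 := by rw [Q.polar, hqw, hx, hwx]; decide
    have hfix : ∀ u, Q.B x u = 0 → Q.B w u = 0 → Q.refl w (Q.refl (w + x) u) = u := fun u h1 h2 => by
      rw [Q.refl_fix (a := w + x) (by rw [map_add, LinearMap.add_apply, h1, h2, add_zero]), Q.refl_fix h2]
    obtain ⟨e, he1, he2⟩ := Q.exists_sep (U := span (ZMod 2) {x}) (x := w) fun h =>
      (mem_span_single_two h).elim hw0 fun h => by rw [h, hx] at hqw; exact zero_ne_one hqw
    have hex : Q.B x e = 0 := Q.orth_span_B he1 rfl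
    have hre : Q.refl (w + x) (Q.refl w e) = e + x := by
      rw [Q.refl_move (a := w) (by rw [Q.B_symm]; exact he2), map_add,
        Q.refl_move (a := w + x) (x := e) (by
          rw [map_add, LinearMap.add_apply, hex, Q.B_symm, he2, add_zero]),
        Q.refl_fix (a := w + x) (x := w) (by rw [map_add, LinearMap.add_apply, Q.B_self, Q.B_symm, hwx, add_zero])]
      calc e + (w + x) + w = e + x + (w + w) := by abel
        _ = e + x := by rw [vec_add_self, add_zero]
    have h := hcomm w (w + x) hqw hqwx (hfix x (Q.B_self x) hwx) (hfix y hB hwy) e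
    rw [hre, map_add, ← hyd] at h
    -- the right-hand side moves within the plane of `w` and `x`
    obtain ⟨c, d, hcd⟩ : ∃ c d : ZMod 2, Q.refl (w + x) (Q.refl w (g e)) = g e + (c • w + d • x) := by
      refine ⟨Q.B w (g e) + Q.B (w + x) (g e + Q.B w (g e) • w), Q.B (w + x) (g e + Q.B w (g e) • w), ?_⟩
      rw [Q.refl_apply, Q.refl_apply]
      rw [smul_add, add_smul]
      abel
    rw [hcd] at h
    have h' := add_left_cancel h
    rcases zmod_two_cases c with rfl | rfl <;> rcases zmod_two_cases d with rfl | rfl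
    · simp only [zero_smul, add_zero] at h'; exact hy0 h'
    · simp only [zero_smul, zero_add, one_smul] at h'; exact hne' h'
    · simp only [zero_smul, add_zero, one_smul] at h'; rw [h', hqw] at hy; exact one_ne_zero hy
    · simp only [one_smul] at h'; rw [h', hqwx] at hy; exact one_ne_zero hy
  · -- a hyperbolic pair
    have hyx : Q.B y x = 1 := by rw [Q.B_symm]; exact hB
    obtain ⟨v, hvd⟩ : ∃ v, v = g y := ⟨_, rfl⟩
    have hgy : v = x := by
      obtain ⟨w, hwd⟩ : ∃ w, w = v + Q.B x v • y + Q.B y v • x := ⟨_, rfl⟩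
      have hwx : Q.B x w = 0 := by
        rw [hwd, map_add, map_add, map_smul, map_smul, hB, Q.B_self, smul_zero, add_zero, smul_eq_mul, mul_one,
          zmod_two_add_self]
      have hwy : Q.B y w = 0 := by
        rw [hwd, map_add, map_add, map_smul, map_smul, hyx, Q.B_self, smul_zero, add_zero, smul_eq_mul, mul_one,
          zmod_two_add_self]
      have hv : v = w + (Q.B x v • y + Q.B y v • x) := by
        rw [hwd]
        calc v = v + (Q.B x v • y + Q.B x v • y) + (Q.B y v • x + Q.B y v • x) := by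
              rw [vec_add_self, vec_add_self, add_zero, add_zero]
          _ = _ := by abel
      have hw0 : w = 0 := by
        by_contra hw0
        obtain ⟨a, hax, hay, hwa, hqa⟩ := Q.exists_ns_one hx hy hB hwx hwy hw0
        obtain ⟨b, hbx, hby, hwb, hqb⟩ := Q.exists_ns_zero hx hy hB hwx hwy
        rw [Q.B_symm] at hax hay hbx hby hwa hwb
        have h := hcomm b a hqb hqa (by rw [Q.refl_fix hax, Q.refl_fix hbx]) (by rw [Q.refl_fix hay, Q.refl_fix hby]) y
        rw [Q.refl_fix hby, Q.refl_fix hay, ← hvd] at h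
        have hxv : Q.refl a (Q.refl b v) = v + a := by
          conv_lhs => rw [hv]
          simp only [map_add, map_smul, Q.refl_fix hbx, Q.refl_fix hby, Q.refl_fix hwb, Q.refl_fix hax,
            Q.refl_fix hay, Q.refl_move hwa]
          conv_rhs => rw [hv]
          abel
        rw [hxv] at h
        rw [show a = 0 from left_eq_add.1 h, Q.q_zero] at hqa
        exact zero_ne_one hqa
      rw [hw0, zero_add] at hv
      have h1 := hK.B_map hg x y
      rw [← hyd, ← hvd, hB] at h1
      have h2 : Q.q v = 0 := by rw [hvd, hK.iso g hg, hy]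
      rw [h1, one_smul] at hv
      rcases zmod_two_cases (Q.B x v) with hc | hc
      · rwa [hc, zero_smul, zero_add] at hv
      · rw [hc, one_smul] at hv
        rw [hv, Q.polar, hx, hy, hyx] at h2
        simp at h2
    rw [hvd] at hgy
    have hg2 : ∀ e, g (g e) = e := fun e => by
      have h := hK.eq_one_of_fix (K.mul_mem hg hg) hx0 hx (show g (g x) = x by rw [← hyd, hgy])
      exact LinearEquiv.congr_fun h e
    obtain ⟨T, hT⟩ : ∃ T, T = Q.B.orthogonal (span (ZMod 2) (({x, y} : Finset E) : Set E)) := ⟨_, rfl⟩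
    have hT0 : T ≠ ⊥ := fun h => by
      have h1 := Q.le_finrank_orth {x, y}
      rw [← hT, h, finrank_bot] at h1
      have h2 : ({x, y} : Finset E).card ≤ 2 := Finset.card_le_two
      have := Q.two_le; have := Q.room
      omega
    obtain ⟨t, ht, ht0⟩ := (Submodule.ne_bot_iff _).1 hT0
    have htx : Q.B x t = 0 := Q.orth_span_B (s := (({x, y} : Finset E) : Set E)) (hT ▸ ht) (by simp)
    have hty : Q.B y t = 0 := Q.orth_span_B (s := (({x, y} : Finset E) : Set E)) (hT ▸ ht) (by simp)
    obtain ⟨u, hu0, hux, huy, hgu⟩ : ∃ u, u ≠ 0 ∧ Q.B x u = 0 ∧ Q.B y u = 0 ∧ g u = u := by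
      by_cases hgt : g t = t
      · exact ⟨t, ht0, htx, hty, hgt⟩
      · refine ⟨t + g t, fun h => hgt (vec_eq_of_add h).symm, ?_, ?_, ?_⟩
        · rw [map_add, htx, show x = g y from hgy.symm, hK.B_map hg, hty, add_zero]
        · rw [map_add, hty, hyd, hK.B_map hg, htx, add_zero]
        · rw [map_add, hg2, add_comm]
    rcases zmod_two_cases (Q.q u) with hqu | hqu
    · exact hgx (by rw [hK.eq_one_of_fix hg hu0 hqu hgu]; rfl)
    · suffices hh : g = 1 from hgx (by rw [hh]; rfl)
      refine hK.eq_one_of_fix hg (x := x + y + u) ?_ ?_ ?_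
      · intro h
        have h' : Q.B x (x + y + u) = 0 := by rw [h, map_zero]
        rw [map_add, map_add, Q.B_self, hB, hux] at h'
        simp at h'
      · rw [Q.polar, Q.polar, hx, hy, hB, hqu, map_add, LinearMap.add_apply, hux, huy]; decide
      · rw [map_add, map_add, ← hyd, hgy, hgu, add_comm x y]

end Rigid

end QuadSpace

end CfsgLib.Classical22.C6Two
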