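/-
A group of symplectic type in doubled coordinates: the centraliser of the involution with the two blocks as eigenspaces.
-/
import Cfsg.Agent.Lib.Classical22.C6Two.Act
import Cfsg.Agent.Lib.Classical22.C6Two.Semireg

set_option autoImplicit false
set_option maxHeartbeats 800000

namespace CfsgLib.Classical22.C6Two

open Matrix CfsgLib.Transvec Module
open scoped MatrixGroups

variable {ι : Type} [Fintype ι] [DecidableEq ι] {F : Type*} [Field F] [Fintype F]

/-- The orthogonal sum of two copies of a form. -/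
def dbl (f₀ : (ι → F) → (ι → F) → F) (u v : ι ⊕ ι → F) : F :=
  f₀ (u ∘ Sum.inl) (v ∘ Sum.inl) + f₀ (u ∘ Sum.inr) (v ∘ Sum.inr)

/-- Block diagonal elements. -/
def dg (a b : GL ι F) : GL (ι ⊕ ι) F where
  val := fromBlocks (a : Matrix ι ι F) 0 0 (b : Matrix ι ι F)
  inv := fromBlocks ((a⁻¹ : GL ι F) : Matrix ι ι F) 0 0 ((b⁻¹ : GL ι F) : Matrix ι ι F)
  val_inv := by rw [fromBlocks_multiply]; simp
  inv_val := by rw [fromBlocks_multiply]; simp

/-- The exchange of the blocks. -/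
def sigma : GL (ι ⊕ ι) F where
  val := fromBlocks 0 1 1 0
  inv := fromBlocks 0 1 1 0
  val_inv := by rw [fromBlocks_multiply]; simp
  inv_val := by rw [fromBlocks_multiply]; simp

omit [Fintype F] in
theorem dg_val (a b : GL ι F) :
    ((dg a b : GL (ι ⊕ ι) F) : Matrix (ι ⊕ ι) (ι ⊕ ι) F) = fromBlocks (a : Matrix ι ι F) 0 0 (b : Matrix ι ι F) := rfl

omit [Fintype F] in
theorem sigma_val : ((sigma : GL (ι ⊕ ι) F) : Matrix (ι ⊕ ι) (ι ⊕ ι) F) = fromBlocks 0 1 1 0 := rfl

omit [Fintype F] in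
theorem dg_mul (a b c d : GL ι F) : dg a b * dg c d = dg (a * c) (b * d) :=
  Units.ext (by rw [Units.val_mul, dg_val, dg_val, fromBlocks_multiply]; simp [dg_val])

omit [Fintype F] in
theorem dg_one : (dg 1 1 : GL (ι ⊕ ι) F) = 1 := Units.ext (by rw [dg_val]; simp [fromBlocks_one])

omit [Fintype F] in
theorem dg_inv (a b : GL ι F) : (dg a b)⁻¹ = dg a⁻¹ b⁻¹ :=
  inv_eq_of_mul_eq_one_right (by rw [dg_mul, mul_inv_cancel, mul_inv_cancel, dg_one])

omit [Fintype F] in
theorem dg_neg (a b : GL ι F) : -dg a b = dg (-a) (-b) :=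
  Units.ext (by rw [Units.val_neg, dg_val, dg_val, fromBlocks_neg]; simp)

omit [Fintype F] in
theorem dg_inj {a b c d : GL ι F} (h : dg a b = dg c d) : a = c ∧ b = d := by
  have h' := congrArg (fun g : GL (ι ⊕ ι) F => (g : Matrix (ι ⊕ ι) (ι ⊕ ι) F)) h
  simp only [dg_val, fromBlocks_inj] at h'
  exact ⟨Units.ext h'.1, Units.ext h'.2.2.2⟩

omit [Fintype F] in
theorem dg_conj (a b c d : GL ι F) : dg a b * dg c d * (dg a b)⁻¹ = dg (a * c * a⁻¹) (b * d * b⁻¹) := by
  rw [dg_inv, dg_mul, dg_mul]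

omit [Fintype F] in
theorem sigma_sq : (sigma : GL (ι ⊕ ι) F) * sigma = 1 :=
  Units.ext (by rw [Units.val_mul, sigma_val, fromBlocks_multiply]; simp [fromBlocks_one])

omit [Fintype F] in
theorem sigma_conj (a b : GL ι F) : sigma * dg a b * (sigma : GL (ι ⊕ ι) F)⁻¹ = dg b a := by
  rw [inv_eq_of_mul_eq_one_left (sigma_sq)]
  refine Units.ext ?_
  rw [Units.val_mul, Units.val_mul, sigma_val, dg_val, dg_val, fromBlocks_multiply, fromBlocks_multiply]
  simp

omit [Fintype F] in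
theorem dg_sigma_conj (a b : GL ι F) :
    dg a b * sigma * (dg a b)⁻¹ = dg (a * b⁻¹) (b * a⁻¹) * (sigma : GL (ι ⊕ ι) F) := by
  rw [dg_inv]
  refine Units.ext ?_
  rw [Units.val_mul, Units.val_mul, Units.val_mul, sigma_val, dg_val, dg_val, dg_val, fromBlocks_multiply,
    fromBlocks_multiply, fromBlocks_multiply]
  simp

omit [Fintype F] in
theorem dbl_dg (f₀ : (ι → F) → (ι → F) → F) (a b : GL ι F) (u v : ι ⊕ ι → F) :
    dbl f₀ ((dg a b : Matrix (ι ⊕ ι) (ι ⊕ ι) F) *ᵥ u) ((dg a b : Matrix (ι ⊕ ι) (ι ⊕ ι) F) *ᵥ v) =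
      f₀ ((a : Matrix ι ι F) *ᵥ (u ∘ Sum.inl)) ((a : Matrix ι ι F) *ᵥ (v ∘ Sum.inl)) +
        f₀ ((b : Matrix ι ι F) *ᵥ (u ∘ Sum.inr)) ((b : Matrix ι ι F) *ᵥ (v ∘ Sum.inr)) := by
  simp [dbl, dg_val, fromBlocks_mulVec, Sum.elim_comp_inl, Sum.elim_comp_inr]

variable {f₀ : (ι → F) → (ι → F) → F}

omit [Fintype F] in
theorem dg_iso {a b : GL ι F} (ha : Iso f₀ a) (hb : Iso f₀ b) : Iso (dbl f₀) (dg a b) := fun u v => by
  rw [dbl_dg, ha, hb]; rfl

omit [Fintype F] in
theorem iso_of_dg (hf : Cfsg.Geo.IsBilinearForm f₀) {a b : GL ι F} (h : Iso (dbl f₀) (dg a b)) :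
    Iso f₀ a ∧ Iso f₀ b := by
  have hz : ∀ w : ι → F, f₀ 0 w = 0 := fun w => by
    have h0 := hf.smul_left 0 0 w
    simpa using h0
  refine ⟨fun u v => ?_, fun u v => ?_⟩
  · have h' := h (Sum.elim u 0) (Sum.elim v 0)
    rw [dbl_dg] at h'
    simpa [dbl, Sum.elim_comp_inl, Sum.elim_comp_inr, hz] using h'
  · have h' := h (Sum.elim 0 u) (Sum.elim 0 v)
    rw [dbl_dg] at h'
    simpa [dbl, Sum.elim_comp_inl, Sum.elim_comp_inr, hz] using h'

omit [Fintype F] in
/-- The centraliser of the sign change of one block is block diagonal. -/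
theorem exists_dg (h2 : (2 : F) ≠ 0) {g : GL (ι ⊕ ι) F} (hg : g * dg (1 : GL ι F) (-1) = dg (1 : GL ι F) (-1) * g) :
    ∃ a b, g = dg a b := by
  have key : ∀ x : GL (ι ⊕ ι) F, x * dg (1 : GL ι F) (-1) = dg (1 : GL ι F) (-1) * x →
      (x : Matrix (ι ⊕ ι) (ι ⊕ ι) F).toBlocks₁₂ = 0 ∧ (x : Matrix (ι ⊕ ι) (ι ⊕ ι) F).toBlocks₂₁ = 0 := by
    intro x hx
    have h' := congrArg (fun y : GL (ι ⊕ ι) F => (y : Matrix (ι ⊕ ι) (ι ⊕ ι) F)) hx
    simp only [Units.val_mul, dg_val] at h'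
    rw [← fromBlocks_toBlocks (x : Matrix (ι ⊕ ι) (ι ⊕ ι) F), fromBlocks_multiply, fromBlocks_multiply,
      fromBlocks_inj] at h'
    simp only [mul_zero, zero_mul, add_zero, zero_add, Units.val_one, Units.val_neg, mul_one, one_mul, mul_neg,
      neg_mul] at h'
    have e : ∀ M : Matrix ι ι F, -M = M → M = 0 := fun M hM => by
      have h3 : (2 : F) • M = 0 := by
        rw [two_smul]
        nth_rewrite 1 [← hM]
        exact neg_add_cancel _
      exact (smul_eq_zero.1 h3).resolve_left h2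
    exact ⟨e _ h'.2.1, e _ h'.2.2.1.symm⟩
  obtain ⟨g1, g2⟩ := key g hg
  obtain ⟨i1, i2⟩ := key g⁻¹ (Commute.inv_left (show Commute g (dg (1 : GL ι F) (-1)) from hg)).eq
  have hv : ∀ x : GL (ι ⊕ ι) F, (x : Matrix (ι ⊕ ι) (ι ⊕ ι) F).toBlocks₁₂ = 0 →
      (x : Matrix (ι ⊕ ι) (ι ⊕ ι) F).toBlocks₂₁ = 0 → (x : Matrix (ι ⊕ ι) (ι ⊕ ι) F) =
        fromBlocks (x : Matrix (ι ⊕ ι) (ι ⊕ ι) F).toBlocks₁₁ 0 0 (x : Matrix (ι ⊕ ι) (ι ⊕ ι) F).toBlocks₂₂ := by
    intro x hx1 hx2
    conv_lhs => rw [← fromBlocks_toBlocks (x : Matrix (ι ⊕ ι) (ι ⊕ ι) F), hx1, hx2]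
  have h1 : (g : Matrix (ι ⊕ ι) (ι ⊕ ι) F) * (g⁻¹ : GL (ι ⊕ ι) F) = 1 := Units.mul_inv g
  have h3 : ((g⁻¹ : GL (ι ⊕ ι) F) : Matrix (ι ⊕ ι) (ι ⊕ ι) F) * g = 1 := Units.inv_mul g
  rw [hv g g1 g2, hv g⁻¹ i1 i2, fromBlocks_multiply, ← fromBlocks_one, fromBlocks_inj] at h1 h3
  simp only [mul_zero, zero_mul, add_zero, zero_add] at h1 h3
  exact ⟨⟨_, _, h1.1, h3.1⟩, ⟨_, _, h1.2.2.2, h3.2.2.2⟩, Units.ext (hv g g1 g2)⟩

/-- The group of one block. -/
def block (R : Subgroup (GL (ι ⊕ ι) F)) : Subgroup (GL ι F) :=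
  R.comap (MonoidHom.mk' (fun a => dg a a) fun a b => (dg_mul a a b b).symm)

omit [Fintype F] in
theorem mem_block {R : Subgroup (GL (ι ⊕ ι) F)} {a : GL ι F} : a ∈ block R ↔ dg a a ∈ R := Iff.rfl

/-- The condition that the centraliser of `u` acts on an eigenspace as the normaliser does. -/
def Good {κ : Type} [Fintype κ] [DecidableEq κ] (R H : Subgroup (GL κ F)) (u : GL κ F) : Prop :=
  ∀ g ∈ H, g * u = u * g → ∀ y ∈ R, y * u = u * y → ∃ z ∈ R,
    ((g * y * g⁻¹ : GL κ F) : Matrix κ κ F) * (1 + (u : Matrix κ κ F)) = (z : Matrix κ κ F) * (1 + (u : Matrix κ κ F))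

variable {k : ℕ} {R : Subgroup (GL (ι ⊕ ι) F)}

section
variable (hR : Data (k + 1) (dbl f₀) R) (hr : dg (1 : GL ι F) (-1) ∈ R) (hσ : sigma ∈ R)
include hR hr hσ

theorem dg_mem {a b : GL ι F} (h : dg a b ∈ R) : a ∈ block R ∧ PM b a := by
  have hab : PM b a := by
    rcases hR.comm _ h _ hσ with h' | h'
    · have h1 : sigma * dg a b * (sigma : GL (ι ⊕ ι) F)⁻¹ = dg a b := by rw [← h', mul_inv_cancel_right]
      rw [sigma_conj] at h1
      exact Or.inl (dg_inj h1).1
    · have h1 : sigma * dg a b * (sigma : GL (ι ⊕ ι) F)⁻¹ = -dg a b := by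
        rw [show sigma * dg a b = -(dg a b * (sigma : GL (ι ⊕ ι) F)) by rw [h', neg_neg], neg_mul, mul_inv_cancel_right]
      rw [sigma_conj, dg_neg] at h1
      exact Or.inr (dg_inj h1).1
  refine ⟨mem_block.2 ?_, hab⟩
  rcases hab with h' | h' <;> subst h'
  · exact h
  · have := R.mul_mem h hr
    rwa [dg_mul, mul_one, mul_neg, mul_one, neg_neg] at this

omit hR hσ in
theorem dg_mem_of_PM {a b : GL ι F} (ha : a ∈ block R) (hab : PM b a) : dg a b ∈ R := by
  rcases hab with h | h <;> subst h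
  · exact ha
  · have := R.mul_mem (mem_block.1 ha) hr
    rwa [dg_mul, mul_one, mul_neg, mul_one] at this

/-- Every member is block diagonal or block anti-diagonal. -/
theorem mem_cases {z : GL (ι ⊕ ι) F} (hz : z ∈ R) :
    (∃ a b, a ∈ block R ∧ PM b a ∧ z = dg a b) ∨ (∃ a b, a ∈ block R ∧ PM b a ∧ z = dg a b * sigma) := by
  rcases hR.comm z hz _ hr with h | h
  · obtain ⟨a, b, rfl⟩ := exists_dg hR.two_ne h
    obtain ⟨h1, h2⟩ := dg_mem hR hr hσ hz
    exact Or.inl ⟨a, b, h1, h2, rfl⟩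
  · have hz' := R.mul_mem hz hσ
    have hswap : sigma * dg (1 : GL ι F) (-1) = -(dg (1 : GL ι F) (-1) * (sigma : GL (ι ⊕ ι) F)) := by
      refine Units.ext ?_
      rw [Units.val_mul, Units.val_neg, Units.val_mul, sigma_val, dg_val, fromBlocks_multiply, fromBlocks_multiply,
        fromBlocks_neg]
      simp
    obtain ⟨a, b, hab⟩ := exists_dg hR.two_ne (g := z * sigma) (by
      rw [mul_assoc, hswap, mul_neg, ← mul_assoc, h, neg_mul, neg_neg, mul_assoc])
    obtain ⟨h1, h2⟩ := dg_mem hR hr hσ (hab ▸ hz')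
    exact Or.inr ⟨a, b, h1, h2, by rw [← hab, mul_assoc, sigma_sq, mul_one]⟩

/-- The block carries the smaller data. -/
theorem block_data (hk : 2 ≤ k) (htype : Cfsg.Geo.IsOfMinusType (k + 1) R ∨ 3 ≤ k) : Data k f₀ (block R) := by
  classical
  haveI := hR.nonempty
  haveI : Nonempty ι := (Nonempty.elim ‹Nonempty (ι ⊕ ι)› fun x => ⟨Sum.elim id id x⟩)
  have h2 := hR.two_ne
  have h00 : f₀ 0 0 = 0 := by
    have h := hR.bil.smul_left 0 0 0
    simp [dbl] at h
    have h' : (2 : F) * f₀ 0 0 = 0 := by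
      rw [two_mul]
      simpa [Pi.zero_comp] using h
    exact (mul_eq_zero.1 h').resolve_left h2
  have hl : ∀ x v, dbl f₀ (Sum.elim x 0) (Sum.elim v 0) = f₀ x v := fun x v => by
    simp [dbl, Sum.elim_comp_inl, Sum.elim_comp_inr, h00]
  have hel : ∀ (c : F) (x : ι → F), Sum.elim (c • x) (0 : ι → F) = c • Sum.elim x (0 : ι → F) := fun c x => by
    funext i; cases i <;> simp
  have hea : ∀ x y : ι → F, Sum.elim (x + y) (0 : ι → F) = Sum.elim x (0 : ι → F) + Sum.elim y (0 : ι → F) := fun x y => by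
    funext i; cases i <;> simp
  have hbil : Cfsg.Geo.IsBilinearForm f₀ :=
    { add_left := fun x y v => by rw [← hl, hea, hR.bil.add_left, hl, hl]
      smul_left := fun c x v => by rw [← hl, hel, hR.bil.smul_left, hl]
      add_right := fun v x y => by rw [← hl, hea, hR.bil.add_right, hl, hl]
      smul_right := fun c v x => by rw [← hl, hel, hR.bil.smul_right, hl] }
  have hnd : Cfsg.Geo.IsNondegenerateForm f₀ := by
    intro v hv
    have hv' : Sum.elim v (0 : ι → F) ≠ 0 := fun h => hv (funext fun i => by simpa using congrFun h (Sum.inl i))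
    obtain ⟨⟨x, hx⟩, ⟨y, hy⟩⟩ := hR.nondeg _ hv'
    have e0 : ∀ w : ι → F, f₀ w 0 = 0 ∧ f₀ 0 w = 0 := fun w =>
      ⟨by simpa using hbil.smul_right 0 w 0, by simpa using hbil.smul_left 0 0 w⟩
    exact ⟨⟨x ∘ Sum.inl, by simpa [dbl, Sum.elim_comp_inl, Sum.elim_comp_inr, (e0 _).1] using hx⟩,
      ⟨y ∘ Sum.inl, by simpa [dbl, Sum.elim_comp_inl, Sum.elim_comp_inr, (e0 _).2] using hy⟩⟩
  have hcard_index : Fintype.card ι = 2 ^ k := by
    have h := hR.card_index
    rw [Fintype.card_sum, pow_succ] at h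
    omega
  have hsqb : ∀ a ∈ block R, a * a = 1 ∨ a * a = -1 := fun a ha => by
    rcases hR.sq _ (mem_block.1 ha) with h | h <;> rw [dg_mul] at h
    · rw [← dg_one] at h; exact Or.inl (dg_inj h).1
    · rw [← dg_one, dg_neg] at h; exact Or.inr (dg_inj h).1
  have hcommb : ∀ a ∈ block R, ∀ b ∈ block R, a * b = b * a ∨ a * b = -(b * a) := fun a ha b hb => by
    rcases hR.comm _ (mem_block.1 ha) _ (mem_block.1 hb) with h | h <;> rw [dg_mul, dg_mul] at h
    · exact Or.inl (dg_inj h).1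
    · rw [dg_neg] at h; exact Or.inr (dg_inj h).1
  refine ⟨hbil, hnd, fun a ha => (iso_of_dg hbil (hR.iso _ (mem_block.1 ha))).1, hcard_index, h2, hk, ?_, hsqb, hcommb,
    ⟨?_, ?_⟩, ?_, ?_⟩
  · rw [mem_block]
    have := hR.neg
    rwa [← dg_one, dg_neg] at this
  · -- irreducible
    intro W hW
    obtain ⟨W2, hW2⟩ : ∃ W2 : Submodule F (ι ⊕ ι → F), ∀ u, u ∈ W2 ↔ u ∘ Sum.inl ∈ W ∧ u ∘ Sum.inr ∈ W :=
      ⟨Submodule.comap (LinearMap.funLeft F F (Sum.inl : ι → ι ⊕ ι)) W ⊓
        Submodule.comap (LinearMap.funLeft F F (Sum.inr : ι → ι ⊕ ι)) W, fun u => Iff.rfl⟩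
    have hinv : ∀ s ∈ Cfsg.Geo.matrixSet R, W2.map (Matrix.toLin' s) ≤ W2 := by
      rintro _ ⟨z, hz, rfl⟩ _ ⟨u, hu, rfl⟩
      obtain ⟨hu1, hu2⟩ := (hW2 u).1 hu
      rw [hW2]
      have hmul : ∀ a ∈ block R, ∀ w ∈ W, (a : Matrix ι ι F) *ᵥ w ∈ W := fun a ha w hw =>
        hW _ ⟨a, ha, rfl⟩ ⟨w, hw, rfl⟩
      have hPM : ∀ {a b : GL ι F}, a ∈ block R → PM b a → ∀ w ∈ W, (b : Matrix ι ι F) *ᵥ w ∈ W := by
        intro a b ha hb w hw
        rcases hb with h | h <;> subst h
        · exact hmul _ ha w hw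
        · rw [Units.val_neg, neg_mulVec]; exact W.neg_mem (hmul _ ha w hw)
      rcases mem_cases hR hr hσ hz with ⟨a, b, ha, hb, rfl⟩ | ⟨a, b, ha, hb, rfl⟩
      · dsimp only
        rw [Matrix.toLin'_apply, dg_val, fromBlocks_mulVec]
        simp only [Sum.elim_comp_inl, Sum.elim_comp_inr, zero_mulVec, add_zero, zero_add]
        exact ⟨hmul a ha _ hu1, hPM ha hb _ hu2⟩
      · dsimp only
        rw [Matrix.toLin'_apply, Units.val_mul, dg_val, sigma_val, fromBlocks_multiply]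
        simp only [mul_zero, zero_mul, mul_one, add_zero, zero_add]
        rw [fromBlocks_mulVec]
        simp only [Sum.elim_comp_inl, Sum.elim_comp_inr, zero_mulVec, add_zero, zero_add]
        exact ⟨hmul a ha _ hu2, hPM ha hb _ hu1⟩
    rcases hR.irr.1 W2 hinv with h | h
    · left
      rw [Submodule.eq_bot_iff]
      intro w hw
      have : Sum.elim w (0 : ι → F) ∈ W2 := (hW2 _).2 ⟨by simpa using hw, by simp⟩
      rw [h, Submodule.mem_bot] at this
      funext i
      simpa using congrFun this (Sum.inl i)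
    · right
      rw [Submodule.eq_top_iff']
      intro w
      have : Sum.elim w (0 : ι → F) ∈ W2 := h ▸ Submodule.mem_top
      simpa using ((hW2 _).1 this).1
  · -- absolutely
    intro M hM
    obtain ⟨c, hc⟩ := hR.irr.2 (fromBlocks M 0 0 M) (by
      rintro _ ⟨z, hz, rfl⟩
      have hPM : ∀ {a b : GL ι F}, a ∈ block R → PM b a → M * (b : Matrix ι ι F) = (b : Matrix ι ι F) * M := by
        intro a b ha hb
        rcases hb with h | h <;> subst h
        · exact hM _ ⟨_, ha, rfl⟩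
        · rw [Units.val_neg, mul_neg, neg_mul, hM _ ⟨a, ha, rfl⟩]
      rcases mem_cases hR hr hσ hz with ⟨a, b, ha, hb, rfl⟩ | ⟨a, b, ha, hb, rfl⟩
      · dsimp only
        rw [dg_val, fromBlocks_multiply, fromBlocks_multiply]
        simp [hM _ ⟨a, ha, rfl⟩, hPM ha hb]
      · dsimp only
        rw [Units.val_mul, dg_val, sigma_val, fromBlocks_multiply, fromBlocks_multiply, fromBlocks_multiply]
        simp [hM _ ⟨a, ha, rfl⟩, hPM ha hb])
    refine ⟨c, ?_⟩
    rw [← fromBlocks_one, fromBlocks_smul, fromBlocks_inj] at hc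
    exact hc.1
  · -- order
    have hne : ∀ x : GL ι F, -x ≠ x := neg_ne h2
    obtain ⟨sg, hsg⟩ : ∃ sg : Bool → GL ι F → GL ι F, sg = fun t a => cond t (-a) a := ⟨_, rfl⟩
    have hsgPM : ∀ t a, PM (sg t a) a := fun t a => by
      cases t
      · exact Or.inl (by rw [hsg]; rfl)
      · exact Or.inr (by rw [hsg]; rfl)
    obtain ⟨tail, htail⟩ : ∃ tail : Bool → GL (ι ⊕ ι) F, tail = fun t => cond t sigma 1 := ⟨_, rfl⟩
    have htm : ∀ t, tail t ∈ R := fun t => by cases t <;> simp [htail, hσ, R.one_mem]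
    let e : block R × Bool × Bool → R := fun p =>
      ⟨dg p.1 (sg p.2.1 p.1) * tail p.2.2, R.mul_mem (dg_mem_of_PM hr p.1.2 (hsgPM _ _)) (htm _)⟩
    have hbij : Function.Bijective e := by
      refine ⟨?_, ?_⟩
      · rintro ⟨a, t, s⟩ ⟨a', t', s'⟩ h
        have h' := congrArg Subtype.val h
        change dg (a : GL ι F) (sg t a) * tail s = dg (a' : GL ι F) (sg t' a') * tail s' at h'
        have hs : s = s' := by
          by_contra hne'
          have h1 : dg ((a' : GL ι F)⁻¹ * (a : GL ι F)) ((sg t' a')⁻¹ * sg t a) = tail s' * (tail s)⁻¹ := by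
            rw [← dg_mul, ← dg_inv, eq_mul_inv_iff_mul_eq, mul_assoc, h', inv_mul_cancel_left]
          have h3 : ∀ u v : GL ι F, dg u v ≠ (sigma : GL (ι ⊕ ι) F) := fun u v h4 => by
            have h5 := congrArg (fun g : GL (ι ⊕ ι) F => (g : Matrix (ι ⊕ ι) (ι ⊕ ι) F)) h4
            simp only [dg_val, sigma_val, fromBlocks_inj] at h5
            exact one_ne_zero h5.2.1.symm
          cases s <;> cases s'
          · exact hne' rfl
          · simp only [htail, cond_true, cond_false, inv_one, mul_one] at h1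
            exact h3 _ _ h1
          · simp only [htail, cond_true, cond_false, one_mul] at h1
            rw [inv_eq_of_mul_eq_one_left (sigma_sq)] at h1
            exact h3 _ _ h1
          · exact hne' rfl
        subst hs
        obtain ⟨h1, h2'⟩ := dg_inj (mul_right_cancel h')
        have ha : a = a' := Subtype.ext h1
        subst ha
        have ht : t = t' := by
          cases t <;> cases t' <;> simp only [hsg, cond_true, cond_false] at h2'
          · rfl
          · exact absurd h2'.symm (hne _)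
          · exact absurd h2' (hne _)
          · rfl
        subst ht
        rfl
      · rintro ⟨z, hz⟩
        have hb' : ∀ {a b : GL ι F}, PM b a → ∃ t, sg t a = b := fun {a b} h => by
          rcases h with h | h
          · exact ⟨false, by rw [hsg, h]; rfl⟩
          · exact ⟨true, by rw [hsg, h]; rfl⟩
        rcases mem_cases hR hr hσ hz with ⟨a, b, ha, hb, rfl⟩ | ⟨a, b, ha, hb, rfl⟩
        · obtain ⟨t, ht⟩ := hb' hb
          exact ⟨⟨⟨a, ha⟩, t, false⟩, Subtype.ext (by simp [e, ht, htail])⟩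
        · obtain ⟨t, ht⟩ := hb' hb
          exact ⟨⟨⟨a, ha⟩, t, true⟩, Subtype.ext (by simp [e, ht, htail])⟩
    have hc := Nat.card_congr (Equiv.ofBijective e hbij)
    rw [Nat.card_prod, Nat.card_prod, Nat.card_eq_fintype_card (α := Bool), Fintype.card_bool, hR.card,
      show 2 * (k + 1) + 1 = 2 * k + 1 + 2 by ring, pow_add] at hc
    omega
  · -- the type
    rcases htype with hmin | h3
    swap
    · exact Or.inr h3
    left
    intro A hA hA1
    by_contra hlt
    push Not at hlt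
    have hmem : ∀ (a : A) (t : Bool), dg ((a : block R) : GL ι F) (cond t (-((a : block R) : GL ι F)) ((a : block R) : GL ι F)) ∈ R :=
      fun a t => dg_mem_of_PM hr (a : block R).2 (by cases t <;> simp [PM])
    obtain ⟨B, hB⟩ : ∃ B : Subgroup R, ∀ x : R, x ∈ B ↔ ∃ (a : A) (t : Bool),
        (x : GL (ι ⊕ ι) F) = dg ((a : block R) : GL ι F) (cond t (-((a : block R) : GL ι F)) ((a : block R) : GL ι F)) := by
      refine ⟨{ carrier := {x : R | ∃ (a : A) (t : Bool), (x : GL (ι ⊕ ι) F) =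
                  dg ((a : block R) : GL ι F) (cond t (-((a : block R) : GL ι F)) ((a : block R) : GL ι F))}
                one_mem' := ⟨1, false, by simp [dg_one]⟩
                mul_mem' := ?_
                inv_mem' := ?_ }, fun x => Iff.rfl⟩
      · rintro x y ⟨a, t, hx⟩ ⟨b, s, hy⟩
        refine ⟨a * b, xor t s, ?_⟩
        rw [Subgroup.coe_mul, hx, hy, dg_mul]
        cases t <;> cases s <;> simp
      · rintro x ⟨a, t, hx⟩
        refine ⟨a⁻¹, t, ?_⟩
        rw [Subgroup.coe_inv, hx, dg_inv]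
        cases t
        · simp
        · simp only [cond_true, Subgroup.coe_inv]
          congr 1
    have hab1 : ∀ x ∈ B, x * x = 1 := by
      intro x hx
      obtain ⟨a, t, hx'⟩ := (hB x).1 hx
      refine Subtype.ext ?_
      rw [Subgroup.coe_mul, hx', dg_mul, OneMemClass.coe_one]
      have ha1 : ((a : block R) : GL ι F) * ((a : block R) : GL ι F) = 1 := congrArg Subtype.val (hA1 _ a.2)
      cases t <;> simp [ha1, dg_one]
    have hBc : IsMulCommutative B := ⟨⟨fun x y => Subtype.ext (by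
      change (x : R) * y = y * x
      have h1 := hab1 _ (B.mul_mem x.2 y.2)
      calc (x : R) * y = ((x : R) * y)⁻¹ := (inv_eq_of_mul_eq_one_left h1).symm
        _ = y * x := by
          rw [_root_.mul_inv_rev, inv_eq_of_mul_eq_one_left (hab1 _ x.2), inv_eq_of_mul_eq_one_left (hab1 _ y.2)])⟩⟩
    have hlt' := hmin B hBc hab1
    have hle : Nat.card (A × Bool) ≤ Nat.card B := by
      refine Nat.card_le_card_of_injective (fun p => (⟨⟨_, hmem p.1 p.2⟩, (hB _).2 ⟨p.1, p.2, rfl⟩⟩ : B)) ?_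
      rintro ⟨a, t⟩ ⟨a', t'⟩ h
      obtain ⟨h1, h2'⟩ := dg_inj (congrArg (fun u : B => ((u : R) : GL (ι ⊕ ι) F)) h)
      have ha : a = a' := Subtype.ext (Subtype.ext h1)
      subst ha
      cases t <;> cases t' <;> simp only [cond_true, cond_false] at h2'
      · rfl
      · exact absurd h2'.symm (neg_ne h2 _)
      · exact absurd h2' (neg_ne h2 _)
      · rfl
    rw [Nat.card_prod, Nat.card_eq_fintype_card (α := Bool), Fintype.card_bool] at hle
    rw [pow_succ] at hlt'
    omega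

variable {H : Subgroup (GL (ι ⊕ ι) F)}

/-- The projection condition gives the eigenspace condition. -/
theorem good_of_proj (hproj : ∀ a b, dg a b ∈ H → Normalises a (block R)) :
    Good R H (dg (1 : GL ι F) (-1)) := by
  intro g hg hgr y hy hyr
  obtain ⟨a, b, rfl⟩ := exists_dg hR.two_ne hgr
  obtain ⟨c, d, rfl⟩ := exists_dg hR.two_ne hyr
  obtain ⟨hc, -⟩ := dg_mem hR hr hσ hy
  refine ⟨dg (a * c * a⁻¹) (a * c * a⁻¹), mem_block.1 (hproj a b hg c hc), ?_⟩
  rw [dg_conj, dg_val, dg_val, dg_val, show (1 : Matrix (ι ⊕ ι) (ι ⊕ ι) F) = fromBlocks 1 0 0 1 from fromBlocks_one.symm,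
    fromBlocks_add, fromBlocks_multiply, fromBlocks_multiply]
  simp

/-- The two eigenspace conditions bound the blocks. -/
theorem proj_of_good (hg1 : Good R H (dg (1 : GL ι F) (-1))) {a b : GL ι F} (hab : dg a b ∈ H) :
    Normalises a (block R) := by
  intro x hx
  have hcomm : ∀ c d : GL ι F, dg c d * dg (1 : GL ι F) (-1) = dg (1 : GL ι F) (-1) * dg c d := fun c d => by
    rw [dg_mul, dg_mul, mul_one, one_mul, mul_neg, neg_mul, mul_one, one_mul]
  obtain ⟨z, hz, he⟩ := hg1 _ hab (hcomm a b) _ (mem_block.1 hx) (hcomm x x)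
  rw [dg_conj] at he
  have h1 : (1 : Matrix (ι ⊕ ι) (ι ⊕ ι) F) + ((dg (1 : GL ι F) (-1) : GL (ι ⊕ ι) F) : Matrix (ι ⊕ ι) (ι ⊕ ι) F) =
      fromBlocks ((2 : F) • (1 : Matrix ι ι F)) 0 0 0 := by
    rw [dg_val, show (1 : Matrix (ι ⊕ ι) (ι ⊕ ι) F) = fromBlocks 1 0 0 1 from fromBlocks_one.symm, fromBlocks_add]
    simp [two_smul]
  rw [h1, dg_val, fromBlocks_multiply] at he
  have hU : IsUnit ((a * x * a⁻¹ : GL ι F) : Matrix ι ι F) := Units.isUnit _
  rcases mem_cases hR hr hσ hz with ⟨c, d, hc, -, rfl⟩ | ⟨c, d, hc, -, rfl⟩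
  · rw [dg_val, fromBlocks_multiply, fromBlocks_inj] at he
    simp only [mul_smul_comm, mul_one, mul_zero, add_zero] at he
    rw [show a * x * a⁻¹ = c from Units.ext (smul_right_injective _ hR.two_ne he.1)]
    exact hc
  · rw [Units.val_mul (dg c d) sigma, dg_val, sigma_val, fromBlocks_multiply, fromBlocks_multiply, fromBlocks_inj] at he
    simp only [mul_smul_comm, mul_one, mul_zero, zero_mul, add_zero, smul_zero] at he
    haveI := hR.nonempty
    haveI : Nonempty ι := (Nonempty.elim ‹Nonempty (ι ⊕ ι)› fun x => ⟨Sum.elim id id x⟩)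
    exact absurd ((smul_eq_zero.1 he.1).resolve_left hR.two_ne) hU.ne_zero

/-- With the eigenspace conditions the centraliser normalises the group. -/
theorem cent_of_good (hk : 2 ≤ k) (htype : Cfsg.Geo.IsOfMinusType (k + 1) R ∨ 3 ≤ k)
    (hH : ∀ g ∈ H, Iso (dbl f₀) g) (hN : ∀ g, Iso (dbl f₀) g → Normalises g R → g ∈ H)
    (hgood : ∀ u ∈ R, u * u = 1 → u ≠ 1 → u ≠ -1 → Good R H u) :
    ∀ g ∈ H, g * dg (1 : GL ι F) (-1) = dg (1 : GL ι F) (-1) * g → Normalises g R := by
  classical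
  have hD := block_data hR hr hσ hk htype
  obtain ⟨S⟩ := exists_frame hD
  haveI := hR.nonempty
  haveI := hD.nonempty
  have h2 := hR.two_ne
  have hmemR : ∀ {a b : GL ι F}, a ∈ block R → PM b a → dg a b ∈ R := fun ha hb => dg_mem_of_PM hr ha hb
  have hdn : ∀ {a b : GL ι F}, Normalises a (block R) → PM (b * a⁻¹) (a * b⁻¹) → a * b⁻¹ ∈ block R →
      (∀ x ∈ block R, PM (b * x * b⁻¹) (a * x * a⁻¹)) → Normalises (dg a b) R := by
    intro a b ha hinv hab hconj z hz
    rcases mem_cases hR hr hσ hz with ⟨c, d, hc, hd, rfl⟩ | ⟨c, d, hc, hd, rfl⟩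
    · rw [dg_conj]
      exact hmemR (ha c hc) ((hd.conj b).trans (hconj c hc))
    · rw [show dg a b * (dg c d * (sigma : GL (ι ⊕ ι) F)) * (dg a b)⁻¹ =
        (dg a b * dg c d * (dg a b)⁻¹) * (dg a b * sigma * (dg a b)⁻¹) by group, dg_conj, dg_sigma_conj, ← mul_assoc]
      exact R.mul_mem (R.mul_mem (hmemR (ha c hc) ((hd.conj b).trans (hconj c hc))) (hmemR hab hinv)) hσ
  have hN0 : ∀ {a : GL ι F}, Iso f₀ a → Normalises a (block R) → dg a a ∈ H := fun {a} ha hn => by
    refine hN _ (dg_iso ha ha) (hdn hn ?_ ?_ fun x _ => Or.inl rfl)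
    · rw [mul_inv_cancel]; exact Or.inl rfl
    · rw [mul_inv_cancel]; exact (block R).one_mem
  have hKR : ∀ z ∈ block R, dg 1 z ∈ H := by
    intro z hz
    have hzi : PM z⁻¹ z := by
      rcases hD.sq z hz with h | h
      · exact Or.inl (inv_eq_of_mul_eq_one_left h)
      · exact Or.inr (inv_eq_of_mul_eq_one_left (by rw [neg_mul, h, neg_neg]))
    refine hN _ (dg_iso (iso_one f₀) (hD.iso z hz)) (hdn (normalises_of_mem (block R).one_mem) ?_ ?_ fun x hx => ?_)
    · rw [inv_one, mul_one, one_mul]; exact hzi.symm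
    · rw [one_mul]; exact (block R).inv_mem hz
    · rw [one_mul, inv_one, mul_one]
      rcases hD.comm z hz x hx with h | h <;> rw [h]
      · rw [mul_inv_cancel_right]; exact Or.inl rfl
      · rw [neg_mul, mul_inv_cancel_right]; exact Or.inr rfl
  have hprojA : ∀ a b, dg a b ∈ H → Normalises a (block R) := fun a b hab => by
    refine proj_of_good hR hr hσ (hgood _ hr ?_ ?_ ?_) hab
    · rw [dg_mul, mul_one, neg_mul_neg, mul_one, dg_one]
    · intro h
      rw [← dg_one] at h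
      exact neg_ne h2 _ (dg_inj h).2
    · intro h
      rw [← dg_one, dg_neg] at h
      exact neg_ne h2 _ (dg_inj h).1.symm
  have hprojB : ∀ a b, dg a b ∈ H → Normalises b (block R) := fun a b hab => by
    have hsH : sigma ∈ H := hN _ (hR.iso _ hσ) (normalises_of_mem hσ)
    have h := H.mul_mem (H.mul_mem hsH hab) (H.inv_mem hsH)
    rw [sigma_conj] at h
    exact hprojA b a h
  -- the elements trivial on the first block
  obtain ⟨K, hK⟩ : ∃ K : Subgroup (GL ι F), ∀ g, g ∈ K ↔ dg 1 g ∈ H ∧ Iso f₀ g := by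
    refine ⟨{ carrier := {g | dg 1 g ∈ H ∧ Iso f₀ g}
              one_mem' := ⟨by rw [dg_one]; exact H.one_mem, iso_one f₀⟩
              mul_mem' := fun {a b} ha hb => ⟨by
                have := H.mul_mem ha.1 hb.1
                rwa [dg_mul, one_mul] at this, ha.2.mul hb.2⟩
              inv_mem' := fun {a} ha => ⟨by
                have := H.inv_mem ha.1
                rwa [dg_inv, inv_one] at this, ha.2.inv⟩ }, fun g => Iff.rfl⟩
  have hKn : ∀ g ∈ K, Normalises g (block R) := fun g hg => hprojB 1 g ((hK g).1 hg).1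
  obtain ⟨KE, hKE⟩ : ∃ KE : Subgroup ((Fin (2 * k) → ZMod 2) ≃ₗ[ZMod 2] (Fin (2 * k) → ZMod 2)),
      ∀ φ, φ ∈ KE ↔ ∃ g ∈ K, S.Act g φ := by
    refine ⟨{ carrier := {φ | ∃ g ∈ K, S.Act g φ}
              one_mem' := ⟨1, K.one_mem, fun e => by simp [PM]⟩
              mul_mem' := fun {φ ψ} ⟨g, hg, hφ⟩ ⟨h, hh, hψ⟩ => ⟨g * h, K.mul_mem hg hh,
                SignFrame.Act.comp S (φ := φ) (ψ := ψ) hφ hψ⟩
              inv_mem' := fun {φ} ⟨g, hg, hφ⟩ => ⟨g⁻¹, K.inv_mem hg, fun e => ?_⟩ }, fun φ => Iff.rfl⟩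
    have h := (hφ (φ⁻¹ e)).conj g⁻¹
    rw [show φ (φ⁻¹ e) = e from φ.apply_symm_apply e,
      show g⁻¹ * (g * S.L (φ⁻¹ e) * g⁻¹) * g⁻¹⁻¹ = S.L (φ⁻¹ e) by group] at h
    exact h.symm
  have hrig : S.Q.Rigid KE := by
    refine ⟨fun φ hφ x => ?_, fun a b ha hb φ hφ => ?_, fun φ hφ x hx0 hqx hfx v hv => ?_⟩
    · obtain ⟨g, hg, hga⟩ := (hKE φ).1 hφ
      exact SignFrame.Act.q_eq S hD (hKn g hg) hga x
    · obtain ⟨g, hg, hga⟩ := (hKE φ).1 hφ
      obtain ⟨hgH, hgi⟩ := (hK g).1 hg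
      obtain ⟨T, hT⟩ : ∃ T, T = S.tw hD a b ha hb := ⟨_, rfl⟩
      have hTi : Iso f₀ T := hT ▸ S.tw_iso hD ha hb
      refine (hKE _).2 ⟨T * g * T⁻¹, (hK _).2 ⟨?_, (hTi.mul hgi).mul hTi.inv⟩, ?_⟩
      · have hTH := hN0 hTi (hT ▸ S.tw_normalises hD ha hb)
        have := H.mul_mem (H.mul_mem hTH hgH) (H.inv_mem hTH)
        rwa [dg_conj, mul_one, mul_inv_cancel] at this
      · have hTa : S.Act T fun e => S.Q.refl a (S.Q.refl b e) := fun e => hT ▸ S.tw_act hD ha hb e
        have hTi' : S.Act T⁻¹ fun e => S.Q.refl b (S.Q.refl a e) := fun e => by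
          have h := (hTa (S.Q.refl b (S.Q.refl a e))).conj T⁻¹
          dsimp only at h
          rw [S.Q.refl_refl, S.Q.refl_refl, show T⁻¹ * (T * S.L (S.Q.refl b (S.Q.refl a e)) * T⁻¹) * T⁻¹⁻¹ =
            S.L (S.Q.refl b (S.Q.refl a e)) by group] at h
          exact h.symm
        have h := SignFrame.Act.comp S (φ := fun e => S.Q.refl a (S.Q.refl b (φ e))) (ψ := fun e => S.Q.refl b (S.Q.refl a e))
          (SignFrame.Act.comp S (φ := fun e => S.Q.refl a (S.Q.refl b e)) (ψ := φ) hTa hga) hTi'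
        rw [_root_.mul_inv_rev, inv_eq_of_mul_eq_one_left (S.Q.reflEquiv_mul_self a),
          inv_eq_of_mul_eq_one_left (S.Q.reflEquiv_mul_self b)]
        exact h
    · -- the residue of a fixed singular vector
      obtain ⟨g, hg, hga⟩ := (hKE φ).1 hφ
      -- make `g` centralise the member
      obtain ⟨g1, hg1, hga1, hg1x⟩ : ∃ g1 ∈ K, S.Act g1 φ ∧ g1 * S.L x = S.L x * g1 := by
        have h := hga x
        rw [hfx] at h
        rcases h with h | h
        · exact ⟨g, hg, hga, mul_inv_eq_iff_eq_mul.1 h⟩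
        · obtain ⟨u, hu⟩ := S.Q.exists_B_one hx0
          refine ⟨g * S.L u, K.mul_mem hg ((hK _).2 ⟨hKR _ (S.mem u), hD.iso _ (S.mem u)⟩),
            SignFrame.Act.comp S (φ := φ) (ψ := id) hga (S.act_mem hD u), mul_inv_eq_iff_eq_mul.1 ?_⟩
          rw [show g * S.L u * S.L x * (g * S.L u)⁻¹ = g * (S.L u * S.L x * (S.L u)⁻¹) * g⁻¹ by group,
            S.conj_eq hD, hu, if_neg one_ne_zero, neg_conj, h, neg_neg]
      obtain ⟨X, hX⟩ : ∃ X, X = S.L x := ⟨_, rfl⟩
      rw [← hX] at hg1x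
      have hXX : X * X = 1 := hX ▸ (S.sq x).2 hqx
      have hne1 : X ≠ 1 := fun h => hx0 (S.uniq _ _ ((hX ▸ Or.inl h : PM (S.L x) 1).trans (S.L_zero hD).symm))
      have hne2 : X ≠ -1 := fun h => hx0 (S.uniq _ _ ((hX ▸ Or.inr h : PM (S.L x) 1).trans (S.L_zero hD).symm))
      have hXR : X ∈ block R := hX ▸ S.mem x
      have hsX : ∀ c : GL ι F, sigma * dg c c = dg c c * (sigma : GL (ι ⊕ ι) F) := fun c => by
        have := sigma_conj c c
        rwa [mul_inv_eq_iff_eq_mul] at this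
      obtain ⟨z, hz, he⟩ := hgood (dg X X) (mem_block.1 hXR) (by rw [dg_mul, hXX, dg_one])
        (fun h => hne1 (by rw [← dg_one] at h; exact (dg_inj h).1))
        (fun h => hne2 (by rw [← dg_one, dg_neg] at h; exact (dg_inj h).1))
        (dg 1 g1) ((hK g1).1 hg1).1 (by rw [dg_mul, dg_mul, one_mul, mul_one, hg1x]) sigma hσ (hsX X)
      rw [dg_sigma_conj, one_mul, inv_one, mul_one] at he
      obtain ⟨P, hP⟩ : ∃ P, P = (1 : Matrix ι ι F) + (X : Matrix ι ι F) := ⟨_, rfl⟩
      have hP0 : P ≠ 0 := fun h => hne2 (Units.ext (by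
        rw [Units.val_neg, Units.val_one]
        exact eq_neg_of_add_eq_zero_right (hP ▸ h)))
      have h1 : (1 : Matrix (ι ⊕ ι) (ι ⊕ ι) F) + ((dg X X : GL (ι ⊕ ι) F) : Matrix (ι ⊕ ι) (ι ⊕ ι) F) =
          fromBlocks P 0 0 P := by
        rw [hP, dg_val, show (1 : Matrix (ι ⊕ ι) (ι ⊕ ι) F) = fromBlocks 1 0 0 1 from fromBlocks_one.symm, fromBlocks_add]
        simp
      rw [h1, Units.val_mul, dg_val, sigma_val, fromBlocks_multiply, fromBlocks_multiply] at he
      obtain ⟨w, hw, hwg⟩ : ∃ w ∈ block R, (g1 : Matrix ι ι F) * P = (w : Matrix ι ι F) * P := by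
        rcases mem_cases hR hr hσ hz with ⟨c, d, -, -, rfl⟩ | ⟨c, d, hc, hd, rfl⟩
        · rw [dg_val, fromBlocks_multiply, fromBlocks_inj] at he
          simp only [mul_zero, zero_mul, mul_one, add_zero, zero_add] at he
          exact absurd ((g1.isUnit.mul_right_eq_zero).1 he.2.2.1) hP0
        · rw [Units.val_mul, dg_val, sigma_val, fromBlocks_multiply, fromBlocks_multiply, fromBlocks_inj] at he
          simp only [mul_zero, zero_mul, mul_one, add_zero, zero_add] at he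
          exact ⟨d, hD.mem_of_PM hc hd, he.2.2.1⟩
      have hgP : (g1 : Matrix ι ι F) * P = P * g1 := by
        rw [hP, mul_add, add_mul, mul_one, one_mul, ← Units.val_mul, hg1x, Units.val_mul]
      have hPP : P * P = (2 : F) • P := by
        have hXM : (X : Matrix ι ι F) * X = 1 := by rw [← Units.val_mul, hXX, Units.val_one]
        rw [hP, add_mul, mul_add, mul_add, one_mul, one_mul, mul_one, hXM, two_smul]
        abel
      have hwX : w * X = X * w := by
        refine (hD.comm w hw X hXR).resolve_right fun h => hP0 ?_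
        have hwv : (w : Matrix ι ι F) * X = -((X : Matrix ι ι F) * w) := by
          rw [← Units.val_mul, h, Units.val_neg, Units.val_mul]
        have h3 : ((1 : Matrix ι ι F) - X) * w = w * P := by rw [hP, mul_add, mul_one, hwv, sub_mul, one_mul, sub_eq_add_neg]
        have h4 : ((1 : Matrix ι ι F) - X) * P = 0 := by
          have hXM : (X : Matrix ι ι F) * X = 1 := by rw [← Units.val_mul, hXX, Units.val_one]
          rw [hP, sub_mul, mul_add, mul_add, one_mul, one_mul, mul_one, hXM]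
          abel
        have h5 : ((1 : Matrix ι ι F) - X) * (g1 : Matrix ι ι F) * P = 0 := by
          rw [mul_assoc, hgP, ← mul_assoc, h4, zero_mul]
        rw [mul_assoc, hwg, ← mul_assoc, h3, mul_assoc, hPP, mul_smul_comm] at h5
        exact (w.isUnit.mul_right_eq_zero).1 ((smul_eq_zero.1 h5).resolve_left h2)
      have hwP : (w : Matrix ι ι F) * P = P * w := by
        rw [hP, mul_add, add_mul, mul_one, one_mul, ← Units.val_mul, hwX, Units.val_mul]
      have hinvP : P * ((g1⁻¹ : GL ι F) : Matrix ι ι F) = ((w⁻¹ : GL ι F) : Matrix ι ι F) * P := by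
        have h := congrArg (fun M => ((w⁻¹ : GL ι F) : Matrix ι ι F) * M * ((g1⁻¹ : GL ι F) : Matrix ι ι F)) hwg
        simp only [← mul_assoc, Units.inv_mul, one_mul] at h
        rw [mul_assoc ((w⁻¹ : GL ι F) : Matrix ι ι F) (g1 : Matrix ι ι F), hgP, ← mul_assoc, mul_assoc _ (g1 : Matrix ι ι F),
          Units.mul_inv, mul_one] at h
        exact h.symm
      obtain ⟨V, hV⟩ : ∃ V, V = S.L v := ⟨_, rfl⟩
      have hVX : V * X = X * V := by rw [hV, hX]; exact ((S.comm x v).2 hv).symm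
      have hVP : (V : Matrix ι ι F) * P = P * V := by
        rw [hP, mul_add, add_mul, mul_one, one_mul, ← Units.val_mul, hVX, Units.val_mul]
      have huP : ((g1 * V * g1⁻¹ : GL ι F) : Matrix ι ι F) * P = ((w * V * w⁻¹ : GL ι F) : Matrix ι ι F) * P := by
        have hgiP : ((g1⁻¹ : GL ι F) : Matrix ι ι F) * P = P * ((g1⁻¹ : GL ι F) : Matrix ι ι F) :=
          (Commute.units_inv_left (show Commute (g1 : Matrix ι ι F) P from hgP)).eq
        simp only [Units.val_mul]
        rw [mul_assoc, hgiP, ← mul_assoc, mul_assoc _ (V : Matrix ι ι F), hVP, ← mul_assoc, hwg, mul_assoc (w : Matrix ι ι F),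
          ← hVP, ← mul_assoc, mul_assoc _ P, hinvP, ← mul_assoc]
      have huv : PM (w * V * w⁻¹) V := by
        rcases hD.comm w hw V (hV ▸ S.mem v) with h | h <;> rw [h]
        · rw [mul_inv_cancel_right]; exact Or.inl rfl
        · rw [neg_mul, mul_inv_cancel_right]; exact Or.inr rfl
      obtain ⟨s, hs⟩ : ∃ s, s = V⁻¹ * (g1 * V * g1⁻¹) := ⟨_, rfl⟩
      have hsL : PM s (S.L (φ v + v)) := by
        rw [hs, hV, add_comm]
        exact ((S.inv_PM hD v).mul (hga1 v)).trans (S.map_add v (φ v)).symm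
      have hsP : (s : Matrix ι ι F) * P = P ∨ (s : Matrix ι ι F) * P = -P := by
        rw [hs, Units.val_mul, mul_assoc, huP]
        rcases huv with h | h <;> rw [h]
        · left; rw [← mul_assoc, Units.inv_mul, one_mul]
        · right; rw [Units.val_neg, neg_mul, mul_neg, ← mul_assoc, Units.inv_mul, one_mul]
      have hspan : φ v + v = 0 ∨ φ v + v = x := by
        by_contra hcon
        obtain ⟨t, ht, ht1⟩ := S.Q.exists_sep (U := Submodule.span (ZMod 2) {x}) (x := φ v + v) fun h =>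
          hcon (QuadSpace.mem_span_single_two h)
        have htX : S.L t * X = X * S.L t := by rw [hX]; exact ((S.comm x t).2 (S.Q.orth_span_B ht rfl)).symm
        have htP : (S.L t : Matrix ι ι F) * P = P * S.L t := by
          rw [hP, mul_add, add_mul, mul_one, one_mul, ← Units.val_mul, htX, Units.val_mul]
        have hts : (S.L t : Matrix ι ι F) * s = -((s : Matrix ι ι F) * S.L t) := by
          rw [← Units.val_mul, ← Units.val_mul, ← Units.val_neg]
          congr 1
          rcases hsL with h | h <;> rw [h]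
          · exact S.anti_of hD ht1
          · rw [mul_neg, neg_mul, S.anti_of hD ht1]
        have h5 : (S.L t : Matrix ι ι F) * ((s : Matrix ι ι F) * P) = -((s : Matrix ι ι F) * P * S.L t) := by
          rw [← mul_assoc, hts, neg_mul, mul_assoc, htP, ← mul_assoc]
        refine hP0 ?_
        have h7 : (2 : F) • ((S.L t : Matrix ι ι F) * P) = 0 := by
          rw [two_smul]
          rcases hsP with h | h <;> rw [h] at h5
          · rw [← htP] at h5
            nth_rewrite 1 [h5]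
            exact neg_add_cancel _
          · rw [mul_neg, neg_mul, neg_neg, ← htP] at h5
            nth_rewrite 1 [← h5]
            exact neg_add_cancel _
        exact ((S.L t).isUnit.mul_right_eq_zero).1 ((smul_eq_zero.1 h7).resolve_left h2)
      rcases hspan with h | h
      · exact Or.inl (vec_eq_of_add h)
      · right
        rw [← h]
        calc φ v = φ v + (v + v) := by rw [vec_add_self, add_zero]
          _ = _ := by abel
  intro g hg hgr
  obtain ⟨a, b, rfl⟩ := exists_dg h2 hgr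
  obtain ⟨hia, hib⟩ := iso_of_dg hD.bil (hH _ hg)
  have hna := hprojA a b hg
  have hk1 : a⁻¹ * b ∈ K := (hK _).2 ⟨by
    have := H.mul_mem (H.inv_mem (hN0 hia hna)) hg
    rwa [dg_inv, dg_mul, inv_mul_cancel] at this, hia.inv.mul hib⟩
  obtain ⟨φ, hφ, -⟩ := S.exists_act hD (hKn _ hk1)
  have hφ1 : φ = 1 := hrig.eq_one ((hKE φ).2 ⟨_, hk1, hφ⟩)
  obtain ⟨v, hv⟩ := S.fix_mem hD (hia.inv.mul hib) fun e => by
    have := hφ e
    rwa [hφ1] at this
  have hz : a⁻¹ * b ∈ block R := hD.mem_of_PM (S.mem v) hv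
  have hzn : Normalises (dg 1 (a⁻¹ * b)) R := by
    refine hdn (normalises_of_mem (block R).one_mem) ?_ ?_ fun x hx => ?_
    · rw [inv_one, mul_one, one_mul]
      rcases hD.sq _ hz with h | h
      · exact Or.inl (inv_eq_of_mul_eq_one_left h).symm
      · exact Or.inr (by rw [inv_eq_of_mul_eq_one_left (show -(a⁻¹ * b) * (a⁻¹ * b) = 1 by rw [neg_mul, h, neg_neg]), neg_neg])
    · rw [one_mul]; exact (block R).inv_mem hz
    · rw [one_mul, inv_one, mul_one]
      rcases hD.comm _ hz x hx with h | h <;> rw [h]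
      · rw [mul_inv_cancel_right]; exact Or.inl rfl
      · rw [neg_mul, mul_inv_cancel_right]; exact Or.inr rfl
  have haa : Normalises (dg a a) R := hdn hna (by rw [mul_inv_cancel]; exact Or.inl rfl)
    (by rw [mul_inv_cancel]; exact (block R).one_mem) fun x _ => Or.inl rfl
  have := haa.mul hzn
  rwa [dg_mul, mul_one, mul_inv_cancel_left] at this

end

end CfsgLib.Classical22.C6Two
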