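/-
Doubled coordinates along a singular member of a group of symplectic type.
-/
import Cfsg.Agent.Lib.Classical22.C6Two.Model

set_option autoImplicit false

namespace CfsgLib.Classical22.C6Two

open Matrix CfsgLib.Transvec Module
open scoped MatrixGroups

variable {ι : Type} [Fintype ι] [DecidableEq ι] {κ : Type} [Fintype κ] [DecidableEq κ]
  {F : Type*} [Field F] [Fintype F]

/-- The conjugation of matrix algebras along a change of coordinates. -/
noncomputable def coordAlg (E : (κ → F) ≃ₗ[F] (ι → F)) : Matrix ι ι F ≃ₐ[F] Matrix κ κ F :=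
  (Matrix.toLinAlgEquiv' (R := F) (n := ι)).trans ((E.symm.conjAlgEquiv F).trans (Matrix.toLinAlgEquiv' (R := F) (n := κ)).symm)

/-- The same on invertible matrices. -/
noncomputable def coordGL (E : (κ → F) ≃ₗ[F] (ι → F)) : GL ι F ≃* GL κ F :=
  Units.mapEquiv (coordAlg E).toMulEquiv

variable (E : (κ → F) ≃ₗ[F] (ι → F))

omit [Fintype F] in
theorem coordGL_val (g : GL ι F) :
    ((coordGL E g : GL κ F) : Matrix κ κ F) = coordAlg E (g : Matrix ι ι F) := rfl

omit [Fintype F] in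
theorem coordAlg_mulVec (M : Matrix ι ι F) (u : κ → F) : E (coordAlg E M *ᵥ u) = M *ᵥ E u := by
  have h : Matrix.toLinAlgEquiv' (coordAlg E M) = (E.symm.conjAlgEquiv F) (Matrix.toLinAlgEquiv' M) := by
    simp [coordAlg]
  have h' := congrArg (fun φ : Module.End F (κ → F) => E (φ u)) h
  simp only [LinearEquiv.conjAlgEquiv_apply] at h'
  simpa using h'

omit [Fintype F] in
theorem coordGL_neg (g : GL ι F) : coordGL E (-g) = -coordGL E g :=
  Units.ext (by rw [coordGL_val, Units.val_neg, Units.val_neg, coordGL_val, map_neg])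

omit [Fintype F] in
theorem iso_coord {f : (ι → F) → (ι → F) → F} (g : GL ι F) :
    Iso (fun u v => f (E u) (E v)) (coordGL E g) ↔ Iso f g := by
  constructor
  · intro h u v
    have h' := h (E.symm u) (E.symm v)
    simp only [coordGL_val, coordAlg_mulVec, LinearEquiv.apply_symm_apply] at h'
    exact h'
  · intro h u v
    simp only [coordGL_val, coordAlg_mulVec]
    exact h _ _

omit [Fintype F] in
theorem normalises_coord {R : Subgroup (GL ι F)} (g : GL ι F) :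
    Normalises (coordGL E g) (R.map (coordGL E).toMonoidHom) ↔ Normalises g R := by
  constructor
  · intro h x hx
    obtain ⟨y, hy, he⟩ := h _ (Subgroup.mem_map_of_mem _ hx)
    have : y = g * x * g⁻¹ := (coordGL E).injective (by simpa using he)
    exact this ▸ hy
  · rintro h _ ⟨x, hx, rfl⟩
    exact ⟨_, h x hx, by simp⟩

omit [Fintype F] in
theorem good_coord {R H : Subgroup (GL ι F)} {u : GL ι F}
    (h : Good (R.map (coordGL E).toMonoidHom) (H.map (coordGL E).toMonoidHom) (coordGL E u)) : Good R H u := by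
  intro g hg hgu y hy hyu
  obtain ⟨_, ⟨z, hz, rfl⟩, he⟩ := h _ (Subgroup.mem_map_of_mem _ hg)
    (by rw [MulEquiv.coe_toMonoidHom, ← map_mul, hgu, map_mul]) _ (Subgroup.mem_map_of_mem _ hy)
    (by rw [MulEquiv.coe_toMonoidHom, ← map_mul, hyu, map_mul])
  refine ⟨z, hz, (coordAlg E).injective ?_⟩
  rw [map_mul, map_mul, map_add, map_one, ← coordGL_val, ← coordGL_val, ← coordGL_val]
  simpa using he

theorem coord_good {R H : Subgroup (GL ι F)} {u : GL ι F} (h : Good R H u) :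
    Good (R.map (coordGL E).toMonoidHom) (H.map (coordGL E).toMonoidHom) (coordGL E u) := by
  rintro _ ⟨g, hg, rfl⟩ hgu _ ⟨y, hy, rfl⟩ hyu
  rw [MulEquiv.coe_toMonoidHom, ← map_mul, ← map_mul] at hgu hyu
  obtain ⟨z, hz, he⟩ := h g hg ((coordGL E).injective hgu) y hy ((coordGL E).injective hyu)
  refine ⟨_, Subgroup.mem_map_of_mem _ hz, ?_⟩
  have he' := congrArg (coordAlg E) he
  rw [map_mul, map_mul, map_add, map_one, ← coordGL_val, ← coordGL_val, ← coordGL_val] at he'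
  simpa using he'

variable {k : ℕ} {f : (ι → F) → (ι → F) → F} {R : Subgroup (GL ι F)}

omit [Fintype F] in
theorem minus_coord (h : Cfsg.Geo.IsOfMinusType k R) : Cfsg.Geo.IsOfMinusType k (R.map (coordGL E).toMonoidHom) := by
  intro A hA hA1
  obtain ⟨φ, hφ⟩ : ∃ φ : R ≃* (R.map (coordGL E).toMonoidHom),
      φ = R.equivMapOfInjective _ (coordGL E).injective := ⟨_, rfl⟩
  have hc : IsMulCommutative (A.map φ.symm.toMonoidHom) := ⟨⟨by
    rintro ⟨_, a, ha, rfl⟩ ⟨_, b, hb, rfl⟩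
    refine Subtype.ext ?_
    change φ.symm a * φ.symm b = φ.symm b * φ.symm a
    rw [← map_mul, ← map_mul]
    exact congrArg φ.symm (congrArg Subtype.val (hA.is_comm.comm ⟨a, ha⟩ ⟨b, hb⟩))⟩⟩
  have h1 : ∀ x ∈ A.map φ.symm.toMonoidHom, x * x = 1 := by
    rintro _ ⟨a, ha, rfl⟩
    rw [← map_mul, hA1 a ha, map_one]
  have := h _ hc h1
  rwa [Subgroup.card_map_of_injective φ.symm.injective] at this

theorem coord_data (hR : Data k f R) :
    Data k (fun u v => f (E u) (E v)) (R.map (coordGL E).toMonoidHom) := by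
  classical
  have hcard : Fintype.card κ = Fintype.card ι := by
    have h := E.finrank_eq
    rw [Module.finrank_fintype_fun_eq_card, Module.finrank_fintype_fun_eq_card] at h
    exact h
  refine ⟨⟨fun x y v => ?_, fun c x v => ?_, fun v x y => ?_, fun c v x => ?_⟩, fun v hv => ?_, ?_, by
    rw [hcard]; exact hR.card_index, hR.two_ne, hR.two_le, ?_, ?_, ?_, ⟨?_, ?_⟩, ?_, ?_⟩
  · simp only [map_add]; exact hR.bil.add_left _ _ _
  · simp only [map_smul]; exact hR.bil.smul_left _ _ _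
  · simp only [map_add]; exact hR.bil.add_right _ _ _
  · simp only [map_smul]; exact hR.bil.smul_right _ _ _
  · obtain ⟨⟨x, hx⟩, ⟨y, hy⟩⟩ := hR.nondeg (E v) (by simpa using hv)
    exact ⟨⟨E.symm x, by simpa using hx⟩, ⟨E.symm y, by simpa using hy⟩⟩
  · rintro _ ⟨x, hx, rfl⟩
    exact (iso_coord E x).2 (hR.iso x hx)
  · refine ⟨-1, hR.neg, ?_⟩
    rw [MulEquiv.coe_toMonoidHom, coordGL_neg, map_one]
  · rintro _ ⟨x, hx, rfl⟩
    rcases hR.sq x hx with h | h <;> rw [MulEquiv.coe_toMonoidHom, ← map_mul, h]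
    · exact Or.inl (map_one _)
    · exact Or.inr (by rw [coordGL_neg, map_one])
  · rintro _ ⟨x, hx, rfl⟩ _ ⟨y, hy, rfl⟩
    rcases hR.comm x hx y hy with h | h <;> rw [MulEquiv.coe_toMonoidHom, ← map_mul, ← map_mul, h]
    · exact Or.inl rfl
    · exact Or.inr (coordGL_neg E _)
  · intro W hW
    have key : ∀ s ∈ Cfsg.Geo.matrixSet R, (W.map E.toLinearMap).map (Matrix.toLin' s) ≤ W.map E.toLinearMap := by
      rintro _ ⟨x, hx, rfl⟩ _ ⟨_, ⟨u, hu, rfl⟩, rfl⟩
      refine ⟨(coordGL E x : Matrix κ κ F) *ᵥ u, hW _ ⟨_, Subgroup.mem_map_of_mem _ hx, rfl⟩ ⟨u, hu, rfl⟩, ?_⟩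
      simp [coordGL_val, coordAlg_mulVec]
    rcases hR.irr.1 _ key with h | h
    · exact Or.inl ((Submodule.map_eq_bot_iff (e := E)).1 h)
    · exact Or.inr ((Submodule.map_eq_top_iff (e := E)).1 h)
  · intro M hM
    obtain ⟨c, hc⟩ := hR.irr.2 ((coordAlg E).symm M) (by
      rintro _ ⟨x, hx, rfl⟩
      refine (coordAlg E).injective ?_
      rw [map_mul, map_mul, AlgEquiv.apply_symm_apply, ← coordGL_val]
      exact hM _ ⟨_, Subgroup.mem_map_of_mem _ hx, rfl⟩)
    refine ⟨c, ?_⟩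
    have := congrArg (coordAlg E) hc
    rwa [AlgEquiv.apply_symm_apply, map_smul, map_one] at this
  · exact (Subgroup.card_map_of_injective (K := R) (f := (coordGL E).toMonoidHom) (coordGL E).injective).trans hR.card
  · exact hR.type.imp_left (minus_coord E)

/-- A singular member gives doubled coordinates; the basis of its fixed space may be chosen. -/
theorem exists_split (hR : Data (k + 1) f R) (S : SignFrame (k + 1) R) {x : Fin (2 * (k + 1)) → ZMod 2}
    (hx : x ≠ 0) (hq : S.Q.q x = 0) {r : GL ι F} (hrx : PM r (S.L x)) :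
    ∃ V : Submodule F (ι → F), 2 * Module.finrank F V = Fintype.card ι ∧ (∀ v ∈ V, (∀ w ∈ V, f v w = 0) → v = 0) ∧
      ∀ j : (κ → F) ≃ₗ[F] V, ∃ E : (κ ⊕ κ → F) ≃ₗ[F] (ι → F),
        (∀ u v, f (E u) (E v) = dbl (fun a b => f (j a) (j b)) u v) ∧
        coordGL E r = dg (1 : GL κ F) (-1) ∧ sigma ∈ R.map (coordGL E).toMonoidHom := by
  classical
  haveI := hR.nonempty
  have h2 := hR.two_ne
  obtain ⟨Rx, hRx⟩ : ∃ Rx, Rx = r := ⟨_, rfl⟩
  have hRxR : Rx ∈ R := hRx ▸ hR.mem_of_PM (S.mem x) hrx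
  have hxx : Rx * Rx = 1 := by
    rw [hRx]
    rcases hrx with h | h <;> rw [h]
    · exact (S.sq x).2 hq
    · rw [neg_mul_neg, (S.sq x).2 hq]
  obtain ⟨v0, hv0⟩ := S.Q.exists_B_one hx
  obtain ⟨v1, hv1x, hv1q⟩ : ∃ v1, S.Q.B v1 x = 1 ∧ S.Q.q v1 = 0 := by
    rcases zmod_two_cases (S.Q.q v0) with h | h
    · exact ⟨v0, hv0, h⟩
    · exact ⟨v0 + x, by rw [map_add, LinearMap.add_apply, hv0, S.Q.B_self, add_zero],
        by rw [S.Q.polar, h, hq, hv0]; decide⟩
  obtain ⟨G, hG⟩ : ∃ G, G = S.L v1 := ⟨_, rfl⟩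
  have hGG : G * G = 1 := hG ▸ (S.sq v1).2 hv1q
  have hGR : G ∈ R := hG ▸ S.mem v1
  have hanti : G * Rx = -(Rx * G) := by
    rw [hG, hRx]
    rcases hrx with h | h <;> rw [h]
    · exact S.anti_of hR hv1x
    · rw [mul_neg, neg_mul, S.anti_of hR hv1x]
  obtain ⟨V, hV⟩ : ∃ V : Submodule F (ι → F), ∀ u, u ∈ V ↔ (Rx : Matrix ι ι F) *ᵥ u = u :=
    ⟨LinearMap.ker (Matrix.toLin' ((Rx : Matrix ι ι F) - 1)), fun u => by
      rw [LinearMap.mem_ker, Matrix.toLin'_apply, sub_mulVec, one_mulVec, sub_eq_zero]⟩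
  have hGv : ∀ u, (Rx : Matrix ι ι F) *ᵥ u = u →
      (Rx : Matrix ι ι F) *ᵥ ((G : Matrix ι ι F) *ᵥ u) = -((G : Matrix ι ι F) *ᵥ u) := by
    intro u hu
    have h : (Rx : Matrix ι ι F) * G = -((G : Matrix ι ι F) * Rx) := by
      rw [← Units.val_mul, ← Units.val_mul, hanti, Units.val_neg, neg_neg]
    rw [mulVec_mulVec, h, neg_mulVec, ← mulVec_mulVec, hu]
  have hGG' : ∀ u, (G : Matrix ι ι F) *ᵥ ((G : Matrix ι ι F) *ᵥ u) = u := fun u => by
    rw [mulVec_mulVec, ← Units.val_mul, hGG, Units.val_one, one_mulVec]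
  have hiso : ∀ g ∈ R, Iso f g := hR.iso
  have hneg : ∀ u v, f u (-v) = -f u v := fun u v => by
    rw [← neg_one_smul F v, hR.bil.smul_right, neg_one_mul]
  have hnegl : ∀ u v, f (-u) v = -f u v := fun u v => by
    rw [← neg_one_smul F u, hR.bil.smul_left, neg_one_mul]
  have hcross : ∀ u ∈ V, ∀ w, (Rx : Matrix ι ι F) *ᵥ w = -w → f u w = 0 ∧ f w u = 0 := by
    intro u hu w hw
    have h1 := hiso Rx hRxR u w
    have h3 := hiso Rx hRxR w u
    rw [(hV u).1 hu, hw, hneg] at h1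
    rw [(hV u).1 hu, hw, hnegl] at h3
    exact ⟨(mul_eq_zero.1 (show (2 : F) * f u w = 0 by linear_combination -h1)).resolve_left h2,
      (mul_eq_zero.1 (show (2 : F) * f w u = 0 by linear_combination -h3)).resolve_left h2⟩
  -- every vector splits
  obtain ⟨pp, hppd⟩ : ∃ pp : (ι → F) → (ι → F), ∀ u, pp u = (2 : F)⁻¹ • (u + (Rx : Matrix ι ι F) *ᵥ u) := ⟨_, fun u => rfl⟩
  obtain ⟨qq, hqqd⟩ : ∃ qq : (ι → F) → (ι → F), ∀ u, qq u = (2 : F)⁻¹ • (u - (Rx : Matrix ι ι F) *ᵥ u) := ⟨_, fun u => rfl⟩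
  have hRR : ∀ u, (Rx : Matrix ι ι F) *ᵥ ((Rx : Matrix ι ι F) *ᵥ u) = u := fun u => by
    rw [mulVec_mulVec, ← Units.val_mul, hxx, Units.val_one, one_mulVec]
  have hsum : ∀ u, pp u + qq u = u := fun u => by
    rw [hppd, hqqd, ← smul_add, add_add_sub_cancel, ← two_smul F u, smul_smul, inv_mul_cancel₀ h2, one_smul]
  have hppV : ∀ u, pp u ∈ V := fun u => by rw [hV, hppd, mulVec_smul, mulVec_add, hRR, add_comm]
  have hqqV : ∀ u, (G : Matrix ι ι F) *ᵥ qq u ∈ V := fun u => by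
    rw [hV]
    have hm : (Rx : Matrix ι ι F) *ᵥ qq u = -qq u := by rw [hqqd, mulVec_smul, mulVec_sub, hRR, ← smul_neg, neg_sub]
    have h : (Rx : Matrix ι ι F) * G = -((G : Matrix ι ι F) * Rx) := by
      rw [← Units.val_mul, ← Units.val_mul, hanti, Units.val_neg, neg_neg]
    rw [mulVec_mulVec, h, neg_mulVec, ← mulVec_mulVec, hm, mulVec_neg, neg_neg]
  obtain ⟨P, hP⟩ : ∃ P : (V × V) ≃ₗ[F] (ι → F), ∀ a b : V, P (a, b) = (a : ι → F) + (G : Matrix ι ι F) *ᵥ b := by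
    refine ⟨LinearEquiv.ofBijective
      { toFun := fun p => (p.1 : ι → F) + (G : Matrix ι ι F) *ᵥ (p.2 : ι → F)
        map_add' := fun p q => by simp only [Prod.fst_add, Prod.snd_add, Submodule.coe_add, mulVec_add]; abel
        map_smul' := fun c p => by simp [mulVec_smul, smul_add] } ⟨fun p q h => ?_, fun u => ?_⟩, fun a b => rfl⟩
    · change (p.1 : ι → F) + (G : Matrix ι ι F) *ᵥ (p.2 : ι → F) = (q.1 : ι → F) + (G : Matrix ι ι F) *ᵥ (q.2 : ι → F) at h
      have h' := congrArg ((Rx : Matrix ι ι F) *ᵥ ·) h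
      simp only [mulVec_add, (hV _).1 p.1.2, (hV _).1 q.1.2, hGv _ ((hV _).1 p.2.2), hGv _ ((hV _).1 q.2.2)] at h'
      have e1 : (2 : F) • (p.1 : ι → F) = (2 : F) • (q.1 : ι → F) := by
        rw [two_smul, two_smul]
        have := congrArg₂ (· + ·) h h'
        simpa [add_assoc, add_comm, add_left_comm] using this
      have e1' : (p.1 : ι → F) = q.1 := smul_right_injective _ h2 e1
      rw [e1'] at h
      have e2 := congrArg ((G : Matrix ι ι F) *ᵥ ·) (add_left_cancel h)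
      simp only [hGG'] at e2
      exact Prod.ext (Subtype.ext e1') (Subtype.ext e2)
    · exact ⟨(⟨pp u, hppV u⟩, ⟨_, hqqV u⟩), by
        change pp u + (G : Matrix ι ι F) *ᵥ ((G : Matrix ι ι F) *ᵥ qq u) = u
        rw [hGG', hsum]⟩
  refine ⟨V, ?_, fun v hv hv0 => ?_, fun j => ?_⟩
  · have h := P.finrank_eq
    rw [Module.finrank_prod, Module.finrank_fintype_fun_eq_card] at h
    omega
  · by_contra hne
    obtain ⟨-, ⟨y, hy⟩⟩ := hR.nondeg v hne
    refine hy ?_
    obtain ⟨⟨a, b⟩, rfl⟩ := P.surjective y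
    rw [hP, hR.bil.add_right, hv0 a a.2, (hcross v hv _ (hGv _ ((hV _).1 b.2))).1, add_zero]
  let E : (κ ⊕ κ → F) ≃ₗ[F] (ι → F) :=
    ((LinearEquiv.sumArrowLequivProdArrow κ κ F F).trans (j.prodCongr j)).trans P
  have hE : ∀ u : κ ⊕ κ → F, E u = (j (u ∘ Sum.inl) : ι → F) + (G : Matrix ι ι F) *ᵥ (j (u ∘ Sum.inr) : ι → F) := fun u => by
    change P (j (u ∘ Sum.inl), j (u ∘ Sum.inr)) = _
    exact hP _ _
  refine ⟨E, fun u v => ?_, ?_, ⟨G, hGR, ?_⟩⟩
  · rw [hE, hE, hR.bil.add_left, hR.bil.add_right, hR.bil.add_right,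
      (hcross _ (j (u ∘ Sum.inl)).2 _ (hGv _ ((hV _).1 (j (v ∘ Sum.inr)).2))).1,
      (hcross _ (j (v ∘ Sum.inl)).2 _ (hGv _ ((hV _).1 (j (u ∘ Sum.inr)).2))).2, hiso G hGR]
    simp [dbl]
  · refine Units.ext (Matrix.ext_iff_mulVec.2 fun u => E.injective ?_)
    rw [coordGL_val, coordAlg_mulVec, ← hRx, dg_val, fromBlocks_mulVec, hE, hE]
    simp only [Sum.elim_comp_inl, Sum.elim_comp_inr, zero_mulVec, add_zero, zero_add, Units.val_one, Units.val_neg,
      one_mulVec, neg_mulVec]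
    rw [mulVec_add, (hV _).1 (j (u ∘ Sum.inl)).2, hGv _ ((hV _).1 (j (u ∘ Sum.inr)).2)]
    simp [mulVec_neg]
  · rw [MulEquiv.coe_toMonoidHom]
    refine Units.ext (Matrix.ext_iff_mulVec.2 fun u => E.injective ?_)
    rw [coordGL_val, coordAlg_mulVec, sigma_val, fromBlocks_mulVec, hE, hE]
    simp only [Sum.elim_comp_inl, Sum.elim_comp_inr, zero_mulVec, add_zero, zero_add, one_mulVec]
    rw [mulVec_add, hGG', add_comm]

end CfsgLib.Classical22.C6Two
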