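/-
The normaliser of a group of symplectic type of minus type in the symplectic group over a prime field.
-/
import Cfsg.Agent.Lib.Classical22.C6Two.Split
import Cfsg.Agent.Lib.Classical22.C6Two.Cent
import Cfsg.Agent.Lib.Classical22.Asch.SpC6
import Cfsg.Agent.Lib.SpFourOdd.SympTypeMax
import Cfsg.Agent.Lib.Classical.SpSimple
import Cfsg.Agent.Lib.Classical.AltBasis
import Cfsg.Agent.S5647

set_option autoImplicit false
set_option maxHeartbeats 800000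

namespace CfsgLib.Classical22.C6Two

open Matrix CfsgLib.Transvec Module Cfsg
open scoped MatrixGroups commutatorElement

variable {F : Type*} [Field F] [Fintype F]

/-- A nondegenerate alternating form has standard coordinates. -/
theorem exists_std_coords {V : Type*} [AddCommGroup V] [Module F V] [FiniteDimensional F V]
    (B : LinearMap.BilinForm F V) (hA : B.IsAlt) (hnd : ∀ v, (∀ w, B v w = 0) → v = 0) :
    ∃ (m : ℕ) (j : (Fin m ⊕ Fin m → F) ≃ₗ[F] V), finrank F V = 2 * m ∧ ∀ u v, B (j u) (j v) = sympForm m F u v := by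
  obtain ⟨m, k, b, hac, haa, hcc, hrad⟩ := CfsgLib.Classical.exists_alt_basis B hA
  have hk : k = 0 := by
    by_contra h
    exact b.ne_zero (Sum.inr ⟨0, Nat.pos_of_ne_zero h⟩) (hnd _ (hrad _))
  subst hk
  obtain ⟨b', hb'⟩ : ∃ b' : Module.Basis (Fin m ⊕ Fin m) F V,
      b' = b.reindex ((Equiv.sumEmpty _ _).trans (Equiv.sumComm _ _)) := ⟨_, rfl⟩
  have hbl : ∀ i, b' (Sum.inl i) = b (Sum.inl (Sum.inr i)) := fun i => by rw [hb', Module.Basis.reindex_apply]; rfl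
  have hbr : ∀ i, b' (Sum.inr i) = b (Sum.inl (Sum.inl i)) := fun i => by rw [hb', Module.Basis.reindex_apply]; rfl
  have hneg : ∀ u v, B u v = -B v u := fun u v => (LinearMap.IsAlt.neg hA v u).symm
  refine ⟨m, b'.equivFun.symm, ?_, fun u v => ?_⟩
  · rw [Module.finrank_eq_card_basis b', Fintype.card_sum, Fintype.card_fin]; ring
  · have hs : ∀ u, b'.equivFun.symm u = (∑ i, u (Sum.inl i) • b' (Sum.inl i)) + ∑ i, u (Sum.inr i) • b' (Sum.inr i) :=
      fun u => by rw [Module.Basis.equivFun_symm_apply, Fintype.sum_sum_type]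
    have h1 : ∀ i i', B (b' (Sum.inr i)) (b' (Sum.inl i')) = if i = i' then 1 else 0 := fun i i' => by
      rw [hbr, hbl, hac]
    have h3 : ∀ i i', B (b' (Sum.inl i)) (b' (Sum.inl i')) = 0 := fun i i' => by rw [hbl, hbl, hcc]
    have h4 : ∀ i i', B (b' (Sum.inr i)) (b' (Sum.inr i')) = 0 := fun i i' => by rw [hbr, hbr, haa]
    have h5 : ∀ i i', B (b' (Sum.inl i)) (b' (Sum.inr i')) = if i' = i then -1 else 0 := fun i i' => by
      rw [hneg, h1]; split_ifs <;> simp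
    rw [hs, hs]
    simp [map_add, map_sum, map_smul, h1, h3, h4, h5, sympForm, Matrix.J, Matrix.fromBlocks_mulVec, dotProduct,
      Fintype.sum_sum_type, Matrix.mulVec, Matrix.one_apply, Finset.sum_neg_distrib]
    simp only [mul_comm]
    ring

/-- A normal subgroup of the symplectic group with a non-central element is the whole group. -/
theorem sp_normal_full {m : ℕ} (hm : 2 ≤ m) (h2 : (2 : F) ≠ 0) {K : Subgroup (GL (Fin m ⊕ Fin m) F)}
    (hK : ∀ a ∈ spGL m F, ∀ x ∈ K, x ∈ spGL m F → a * x * a⁻¹ ∈ K)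
    {z y : GL (Fin m ⊕ Fin m) F} (hz : z ∈ K) (hzS : z ∈ spGL m F) (hy : y ∈ spGL m F) (hzy : z * y ≠ y * z) :
    spGL m F ≤ K := by
  classical
  have hsp : ∀ g : symplecticGroup (Fin m) F, ∃ u : GL (Fin m ⊕ Fin m) F,
      (u : Matrix (Fin m ⊕ Fin m) (Fin m ⊕ Fin m) F) = g.1 := fun g =>
    ⟨⟨g.1, (g⁻¹).1, congrArg Subtype.val (mul_inv_cancel g), congrArg Subtype.val (inv_mul_cancel g)⟩, rfl⟩
  choose toU htoU using hsp
  let φ : symplecticGroup (Fin m) F →* GL (Fin m ⊕ Fin m) F := MonoidHom.mk' toU fun a b => Units.ext (by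
    rw [Units.val_mul, htoU, htoU, htoU]; rfl)
  have hφ : ∀ g, (φ g : Matrix (Fin m ⊕ Fin m) (Fin m ⊕ Fin m) F) = g.1 := htoU
  have hφS : ∀ g, φ g ∈ spGL m F := fun g => by
    intro u v
    change sympForm m F ((φ g : Matrix (Fin m ⊕ Fin m) (Fin m ⊕ Fin m) F) *ᵥ u)
      ((φ g : Matrix (Fin m ⊕ Fin m) (Fin m ⊕ Fin m) F) *ᵥ v) = _
    rw [hφ]
    exact CfsgLib.Classical.sp_form g u v
  have hsur : ∀ a ∈ spGL m F, ∃ g, φ g = a := by
    intro a ha
    exact ⟨⟨(a : Matrix (Fin m ⊕ Fin m) (Fin m ⊕ Fin m) F), CfsgLib.Classical.mem_sp_iff.2 ha⟩, Units.ext (hφ _)⟩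
  haveI : (K.comap φ).Normal := ⟨fun n hn g => by
    rw [Subgroup.mem_comap, map_mul, map_mul, map_inv]
    exact hK _ (hφS g) _ hn (hφS n)⟩
  haveI := CfsgLib.Classical.sp_isPreprimitive (F := F) (m := m) (by omega)
  have hfix : MulAction.fixedPoints (K.comap φ) (Projectivization F (Fin m ⊕ Fin m → F)) ≠ Set.univ := by
    intro h
    obtain ⟨g, hg⟩ := hsur z hzS
    obtain ⟨g', hg'⟩ := hsur y hy
    have hc := CfsgLib.Classical.mem_center_sp_of_fix_points (g := g) fun p => by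
      have hp : p ∈ MulAction.fixedPoints (K.comap φ) (Projectivization F (Fin m ⊕ Fin m → F)) := by rw [h]; trivial
      exact hp ⟨g, by rw [Subgroup.mem_comap, hg]; exact hz⟩
    refine hzy ?_
    rw [← hg, ← hg', ← map_mul, ← map_mul, Subgroup.mem_center_iff.1 hc g']
  have h := (CfsgLib.Classical.spIwasawa (F := F) (m := m)).commutator_le (K.comap φ) hfix
  rw [CfsgLib.Classical.commutator_sp_eq_top (Or.inr (Or.inr ⟨hm, h2⟩))] at h
  intro a ha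
  obtain ⟨g, rfl⟩ := hsur a ha
  exact h (Subgroup.mem_top g)

theorem sign_group {k m : ℕ} {R : Subgroup (GL (Fin m ⊕ Fin m) F)} (hR : Data k (sympForm m F) R) :
    Asch.SignGroup R := by
  have hc : 2 * m = 2 ^ k := by
    have h := hR.card_index
    rw [Fintype.card_sum, Fintype.card_fin] at h
    omega
  have hm : 2 ≤ m := by
    have := Nat.pow_le_pow_right (show 1 ≤ 2 by norm_num) hR.two_le
    omega
  haveI := hR.nonempty
  have hs : ∀ x : GL (Fin m ⊕ Fin m) F, PM x 1 → x ∈ Cfsg.Geo.scalars (Fin m ⊕ Fin m) F := fun x hx => by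
    rw [Cfsg.Geo.mem_scalars_iff]
    rcases hx with h | h <;> rw [h]
    · exact ⟨1, by simp⟩
    · exact ⟨-1, by simp⟩
  refine ⟨fun x hx => hR.iso x hx, hR.irr, fun x hx => hs _ (hR.sq x hx), fun x hx y hy => hs _ ?_, hm, hR.two_ne⟩
  rw [commutatorElement_def]
  rcases hR.comm x hx y hy with h | h
  · exact Or.inl (by rw [h]; group)
  · refine Or.inr ?_
    rw [h, neg_mul, neg_mul]
    congr 1
    group

/-- Base of the induction. -/
theorem base {p m : ℕ} (hp : p.Prime) (hodd : Odd p) (hF : Fintype.card F = p) {R : Subgroup (GL (Fin m ⊕ Fin m) F)}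
    (hR : Data 2 (sympForm m F) R) (hmin : Cfsg.Geo.IsOfMinusType 2 R)
    {H : Subgroup (GL (Fin m ⊕ Fin m) F)} (hH : H ≤ spGL m F)
    (hN : ∀ g ∈ spGL m F, Normalises g R → g ∈ H) : (∀ g ∈ H, Normalises g R) ∨ spGL m F ≤ H := by
  have hm : m = 2 := by
    have h := hR.card_index
    rw [Fintype.card_sum, Fintype.card_fin] at h
    omega
  subst hm
  obtain ⟨k, hk, hst, hcard, hz, -⟩ := Asch.sign_group_c6 (sign_group hR)
  have hc : Nat.card R = 32 := by rw [hR.card]; norm_num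
  have hmax := CfsgLib.SpFourOdd.isMaximalIn_symplecticType (hF ▸ hodd) hp hF R hst hR.irr (fun x hx => hR.iso x hx) hc hz hmin
  rcases hmax.2 H (fun g hg => hN g hg.2 ((normalises_iff g).2 hg.1)) hH with h | h
  · exact Or.inl fun g hg => (normalises_iff g).2 (h ▸ hg : g ∈ Cfsg.Geo.subgroupNormalizer R ⊓ spGL 2 F).1
  · exact Or.inr h.ge

section Model

variable {m : ℕ}

theorem dbl_symplectic : Cfsg.Geo.IsSymplecticForm (dbl (sympForm m F)) := by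
  have hs := isSymplecticForm_sympForm (F := F) m
  refine ⟨⟨fun x y v => ?_, fun c x v => ?_, fun v x y => ?_, fun c v x => ?_⟩, fun v w => ?_, fun v => ?_, fun v hv => ?_⟩
  · simp only [dbl, Pi.add_comp, hs.bilinear.add_left]; ring
  · simp only [dbl, Pi.smul_comp, hs.bilinear.smul_left]; ring
  · simp only [dbl, Pi.add_comp, hs.bilinear.add_right]; ring
  · simp only [dbl, Pi.smul_comp, hs.bilinear.smul_right]; ring
  · simp only [dbl]; rw [hs.skew (v ∘ Sum.inl), hs.skew (v ∘ Sum.inr)]; ring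
  · simp only [dbl, hs.alternating, add_zero]
  · have h0 : ∀ x : Fin m ⊕ Fin m → F, sympForm m F x 0 = 0 ∧ sympForm m F 0 x = 0 := fun x =>
      ⟨by simpa using hs.bilinear.smul_right 0 x 0, by simpa using hs.bilinear.smul_left 0 0 x⟩
    by_cases hl : v ∘ Sum.inl = 0
    · have hr : v ∘ Sum.inr ≠ 0 := fun hr => hv (funext fun i => by
        cases i with
        | inl i => exact congrFun hl i
        | inr i => exact congrFun hr i)
      obtain ⟨⟨x, hx⟩, ⟨y, hy⟩⟩ := hs.nondegenerate _ hr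
      exact ⟨⟨Sum.elim 0 x, by simpa [dbl, Sum.elim_comp_inl, Sum.elim_comp_inr, hl, (h0 _).1] using hx⟩,
        ⟨Sum.elim 0 y, by simpa [dbl, Sum.elim_comp_inl, Sum.elim_comp_inr, hl, (h0 _).2] using hy⟩⟩
    · obtain ⟨⟨x, hx⟩, ⟨y, hy⟩⟩ := hs.nondegenerate _ hl
      exact ⟨⟨Sum.elim x 0, by simpa [dbl, Sum.elim_comp_inl, Sum.elim_comp_inr, (h0 _).2] using hx⟩,
        ⟨Sum.elim y 0, by simpa [dbl, Sum.elim_comp_inl, Sum.elim_comp_inr, (h0 _).1] using hy⟩⟩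

/-- In doubled coordinates: either the group is full or the eigenspace condition holds. -/
theorem model_dichotomy {k : ℕ} (hk : 2 ≤ k) {R H : Subgroup (GL ((Fin m ⊕ Fin m) ⊕ (Fin m ⊕ Fin m)) F)}
    (hR : Data (k + 1) (dbl (sympForm m F)) R) (hmin : Cfsg.Geo.IsOfMinusType (k + 1) R)
    (hr : dg (1 : GL (Fin m ⊕ Fin m) F) (-1) ∈ R) (hσ : sigma ∈ R)
    (hH : ∀ g ∈ H, Iso (dbl (sympForm m F)) g) (hN : ∀ g, Iso (dbl (sympForm m F)) g → Normalises g R → g ∈ H)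
    (hIH : ∀ H0 : Subgroup (GL (Fin m ⊕ Fin m) F), H0 ≤ spGL m F →
      (∀ g ∈ spGL m F, Normalises g (block R) → g ∈ H0) → (∀ g ∈ H0, Normalises g (block R)) ∨ spGL m F ≤ H0) :
    Good R H (dg (1 : GL (Fin m ⊕ Fin m) F) (-1)) ∨ ∀ g, Iso (dbl (sympForm m F)) g → g ∈ H := by
  classical
  have hD := block_data hR hr hσ hk (Or.inl hmin)
  haveI := hD.nonempty
  have h2 := hR.two_ne
  have hsH : sigma ∈ H := hN _ (hR.iso _ hσ) (normalises_of_mem hσ)
  obtain ⟨H0, hH0⟩ : ∃ H0 : Subgroup (GL (Fin m ⊕ Fin m) F), ∀ a, a ∈ H0 ↔ ∃ b, dg a b ∈ H := by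
    refine ⟨{ carrier := {a | ∃ b, dg a b ∈ H}
              one_mem' := ⟨1, by rw [dg_one]; exact H.one_mem⟩
              mul_mem' := fun {a c} ⟨b, hb⟩ ⟨d, hd⟩ => ⟨b * d, by rw [← dg_mul]; exact H.mul_mem hb hd⟩
              inv_mem' := fun {a} ⟨b, hb⟩ => ⟨b⁻¹, by rw [← dg_inv]; exact H.inv_mem hb⟩ }, fun a => Iff.rfl⟩
  have hdiag : ∀ a, Iso (sympForm m F) a → Normalises a (block R) → dg a a ∈ H := by
    intro a ha hn
    refine hN _ (dg_iso ha ha) fun z hz => ?_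
    rcases mem_cases hR hr hσ hz with ⟨c, d, hc, hd, rfl⟩ | ⟨c, d, hc, hd, rfl⟩
    · rw [dg_conj]; exact dg_mem_of_PM hr (hn c hc) (hd.conj a)
    · rw [show dg a a * (dg c d * (sigma : GL ((Fin m ⊕ Fin m) ⊕ (Fin m ⊕ Fin m)) F)) * (dg a a)⁻¹ =
        (dg a a * dg c d * (dg a a)⁻¹) * (dg a a * sigma * (dg a a)⁻¹) by group, dg_conj, dg_sigma_conj, mul_inv_cancel,
        dg_one, one_mul]
      exact R.mul_mem (dg_mem_of_PM hr (hn c hc) (hd.conj a)) hσ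
  rcases hIH H0 (fun a ha => by
      obtain ⟨b, hb⟩ := (hH0 a).1 ha
      exact (iso_of_dg hD.bil (hH _ hb)).1)
    (fun a ha hn => (hH0 a).2 ⟨a, hdiag a ha hn⟩) with h | h
  · exact Or.inl (good_of_proj hR hr hσ fun a b hab => h a ((hH0 a).2 ⟨b, hab⟩))
  right
  obtain ⟨K, hK⟩ : ∃ K : Subgroup (GL (Fin m ⊕ Fin m) F), ∀ g, g ∈ K ↔ dg 1 g ∈ H := by
    refine ⟨H.comap (MonoidHom.mk' (fun g => dg 1 g) fun a b => by rw [dg_mul, one_mul]), fun g => Iff.rfl⟩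
  have hKn : ∀ a ∈ spGL m F, ∀ x ∈ K, x ∈ spGL m F → a * x * a⁻¹ ∈ K := by
    intro a ha x hx _
    obtain ⟨b, hb⟩ := (hH0 a).1 (h ha)
    have hb' := H.mul_mem (H.mul_mem hsH hb) (H.inv_mem hsH)
    rw [sigma_conj] at hb'
    rw [hK] at hx ⊢
    have := H.mul_mem (H.mul_mem hb' hx) (H.inv_mem hb')
    rwa [dg_conj, mul_one, mul_inv_cancel] at this
  obtain ⟨S⟩ := exists_frame hD
  obtain ⟨a0, -, hqa⟩ := S.Q.exists_ns (T := ⊤) (P := ⊥)
    (fun p hp => by rw [(Submodule.mem_bot _).1 hp, S.Q.q_zero])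
    (fun p hp t _ => by rw [(Submodule.mem_bot _).1 hp, map_zero, LinearMap.zero_apply]) (inf_bot_eq _)
    (by rw [finrank_top, S.Q.dim, finrank_bot]; have := S.Q.room; omega)
  obtain ⟨b0, hb0⟩ := S.Q.exists_B_one (x := a0) fun h0 => by rw [h0, S.Q.q_zero] at hqa; exact zero_ne_one hqa
  obtain ⟨Y, hY⟩ : ∃ Y, Y = S.L a0 := ⟨_, rfl⟩
  have hYR : Y ∈ block R := hY ▸ S.mem a0
  have hY2 : Y * Y = -1 := hY ▸ S.sq_neg hD hqa
  have hKY : Y ∈ K := by
    rw [hK]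
    refine hN _ (dg_iso (iso_one _) (hD.iso Y hYR)) fun z hz => ?_
    have hi : Y⁻¹ = -Y := inv_eq_of_mul_eq_one_left (by rw [neg_mul, hY2, neg_neg])
    rcases mem_cases hR hr hσ hz with ⟨c, d, hc, hd, rfl⟩ | ⟨c, d, hc, hd, rfl⟩
    · rw [dg_conj, one_mul, inv_one, mul_one]
      refine dg_mem_of_PM hr hc ((hd.conj Y).trans ?_)
      rcases hD.comm Y hYR c hc with h' | h' <;> rw [h']
      · rw [mul_inv_cancel_right]; exact Or.inl rfl
      · rw [neg_mul, mul_inv_cancel_right]; exact Or.inr rfl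
    · rw [show dg 1 Y * (dg c d * (sigma : GL ((Fin m ⊕ Fin m) ⊕ (Fin m ⊕ Fin m)) F)) * (dg 1 Y)⁻¹ =
        (dg 1 Y * dg c d * (dg 1 Y)⁻¹) * (dg 1 Y * sigma * (dg 1 Y)⁻¹) by group, dg_conj, dg_sigma_conj, one_mul,
        inv_one, mul_one, one_mul, mul_one, ← mul_assoc]
      refine R.mul_mem (R.mul_mem (dg_mem_of_PM hr hc ((hd.conj Y).trans ?_))
        (dg_mem_of_PM hr ((block R).inv_mem hYR) (Or.inr (by rw [hi, neg_neg])))) hσ
      rcases hD.comm Y hYR c hc with h' | h' <;> rw [h']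
      · rw [mul_inv_cancel_right]; exact Or.inl rfl
      · rw [neg_mul, mul_inv_cancel_right]; exact Or.inr rfl
  have hm2 : 2 ≤ m := (sign_group hD).two_le
  have hKfull : spGL m F ≤ K := sp_normal_full hm2 h2 hKn hKY (hD.iso Y hYR) (hD.iso _ (S.mem b0)) (fun he => by
    rw [hY] at he
    rw [S.Q.B_symm] at hb0
    exact neg_ne h2 _ ((S.anti_of hD hb0).symm.trans he))
  have hall : ∀ a b, Iso (sympForm m F) a → Iso (sympForm m F) b → dg a b ∈ H := by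
    intro a b ha hb
    have h1 : dg 1 b ∈ H := (hK b).1 (hKfull hb)
    have h3 : dg 1 a ∈ H := (hK a).1 (hKfull ha)
    have h4 := H.mul_mem (H.mul_mem hsH h3) (H.inv_mem hsH)
    rw [sigma_conj] at h4
    have := H.mul_mem h4 h1
    rwa [dg_mul, mul_one, one_mul] at this
  -- the decomposition
  obtain ⟨D, hD0⟩ : ∃ D : Fin 2 → Submodule F ((Fin m ⊕ Fin m) ⊕ (Fin m ⊕ Fin m) → F),
      (∀ u, u ∈ D 0 ↔ u ∘ Sum.inr = 0) ∧ ∀ u, u ∈ D 1 ↔ u ∘ Sum.inl = 0 :=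
    ⟨![LinearMap.ker (LinearMap.funLeft F F (Sum.inr : Fin m ⊕ Fin m → _)),
      LinearMap.ker (LinearMap.funLeft F F (Sum.inl : Fin m ⊕ Fin m → _))], fun u => Iff.rfl, fun u => Iff.rfl⟩
  obtain ⟨hD0, hD1⟩ := hD0
  have hcompl : IsCompl (D 0) (D 1) := by
    refine ⟨?_, ?_⟩
    · rw [Submodule.disjoint_def]
      intro u hu0 hu1
      funext i
      cases i with
      | inl i => exact congrFun ((hD1 u).1 hu1) i
      | inr i => exact congrFun ((hD0 u).1 hu0) i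
    · rw [codisjoint_iff, Submodule.eq_top_iff']
      intro u
      exact Submodule.mem_sup.2 ⟨Sum.elim (u ∘ Sum.inl) 0, (hD0 _).2 (by simp [Sum.elim_comp_inr]),
        Sum.elim 0 (u ∘ Sum.inr), (hD1 _).2 (by simp [Sum.elim_comp_inl]), by funext i; cases i <;> simp⟩
  have hint : DirectSum.IsInternal D :=
    (DirectSum.isInternal_submodule_iff_isCompl D (i := 0) (j := 1) (by decide)
      (by ext i; fin_cases i <;> simp)).2 hcompl
  have hf := dbl_symplectic (F := F) (m := m)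
  have hs := isSymplecticForm_sympForm (F := F) m
  have h0 : ∀ x : Fin m ⊕ Fin m → F, sympForm m F x 0 = 0 ∧ sympForm m F 0 x = 0 := fun x =>
    ⟨by simpa using hs.bilinear.smul_right 0 x 0, by simpa using hs.bilinear.smul_left 0 0 x⟩
  have hei : ∀ i : Fin 2, i = 0 ∨ i = 1 := by decide
  have hmap : ∀ g, Iso (dbl (sympForm m F)) g →
      (D 0).map (Matrix.toLin' (g : Matrix ((Fin m ⊕ Fin m) ⊕ (Fin m ⊕ Fin m)) ((Fin m ⊕ Fin m) ⊕ (Fin m ⊕ Fin m)) F)) = D 0 →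
      (D 1).map (Matrix.toLin' (g : Matrix ((Fin m ⊕ Fin m) ⊕ (Fin m ⊕ Fin m)) ((Fin m ⊕ Fin m) ⊕ (Fin m ⊕ Fin m)) F)) = D 1 →
      g ∈ H := by
    intro g hg h00 h11
    obtain ⟨a, b, rfl⟩ := exists_dg h2 (g := g) (by
      refine Units.ext (Matrix.ext_iff_mulVec.2 fun u => ?_)
      rw [Units.val_mul, Units.val_mul, ← mulVec_mulVec, ← mulVec_mulVec]
      have he : ∀ v : (Fin m ⊕ Fin m) ⊕ (Fin m ⊕ Fin m) → F,
          ((dg (1 : GL (Fin m ⊕ Fin m) F) (-1) : GL _ F) : Matrix _ _ F) *ᵥ v = Sum.elim (v ∘ Sum.inl) (-(v ∘ Sum.inr)) := fun v => by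
        rw [dg_val, fromBlocks_mulVec]; simp [neg_mulVec]
      rw [he, he]
      obtain ⟨u0, hu0d⟩ : ∃ u0, u0 = Sum.elim (u ∘ Sum.inl) (0 : Fin m ⊕ Fin m → F) := ⟨_, rfl⟩
      obtain ⟨u1, hu1d⟩ : ∃ u1, u1 = Sum.elim (0 : Fin m ⊕ Fin m → F) (u ∘ Sum.inr) := ⟨_, rfl⟩
      have hu : u = u0 + u1 := by rw [hu0d, hu1d]; funext i; cases i <;> simp
      have hu' : Sum.elim (u ∘ Sum.inl) (-(u ∘ Sum.inr)) = u0 - u1 := by rw [hu0d, hu1d]; funext i; cases i <;> simp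
      have m0 : (g : Matrix _ _ F) *ᵥ u0 ∈ D 0 :=
        h00.le ⟨u0, (hD0 _).2 (by rw [hu0d]; simp [Sum.elim_comp_inr]), Matrix.toLin'_apply _ _⟩
      have m1 : (g : Matrix _ _ F) *ᵥ u1 ∈ D 1 :=
        h11.le ⟨u1, (hD1 _).2 (by rw [hu1d]; simp [Sum.elim_comp_inl]), Matrix.toLin'_apply _ _⟩
      rw [hu', mulVec_sub, hu, mulVec_add]
      funext i
      cases i with
      | inl i =>
        have e1 := congrFun ((hD1 _).1 m1) i
        simp only [Function.comp_apply, Pi.zero_apply] at e1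
        simp [e1]
      | inr i =>
        have e0 := congrFun ((hD0 _).1 m0) i
        simp only [Function.comp_apply, Pi.zero_apply] at e0
        simp [e0])
    exact hall a b (iso_of_dg hs.bilinear hg).1 (iso_of_dg hs.bilinear hg).2
  have hswapD : ∀ i, (D i).map (Matrix.toLin' ((sigma : GL ((Fin m ⊕ Fin m) ⊕ (Fin m ⊕ Fin m)) F) :
      Matrix ((Fin m ⊕ Fin m) ⊕ (Fin m ⊕ Fin m)) ((Fin m ⊕ Fin m) ⊕ (Fin m ⊕ Fin m)) F)) = D (if i = 0 then 1 else 0) := by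
    intro i
    ext u
    constructor
    · rintro ⟨v, hv, rfl⟩
      rw [Matrix.toLin'_apply, sigma_val, fromBlocks_mulVec]
      rcases hei i with rfl | rfl
      · rw [SetLike.mem_coe, hD0] at hv
        exact (hD1 _).2 (by simp [Sum.elim_comp_inl, hv])
      · rw [SetLike.mem_coe, hD1] at hv
        exact (hD0 _).2 (by simp [Sum.elim_comp_inr, hv])
    · intro hu
      refine ⟨Sum.elim (u ∘ Sum.inr) (u ∘ Sum.inl), ?_, ?_⟩
      · rcases hei i with rfl | rfl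
        · have h' := (hD1 u).1 (by simpa using hu)
          exact (hD0 _).2 (by simp [Sum.elim_comp_inr, h'])
        · have h' := (hD0 u).1 (by simpa using hu)
          exact (hD1 _).2 (by simp [Sum.elim_comp_inl, h'])
      · rw [Matrix.toLin'_apply, sigma_val, fromBlocks_mulVec]
        simp [Sum.elim_comp_inl, Sum.elim_comp_inr]
  have hstab : ∀ g, Iso (dbl (sympForm m F)) g → g ∈ Cfsg.Geo.decompositionStabilizer D → g ∈ H := by
    rintro g hg ⟨s, hs'⟩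
    rcases hei (s 0) with h00 | h01
    · have h11 : s 1 = 1 := (hei (s 1)).resolve_left fun h => absurd (s.injective (h.trans h00.symm)) (by decide)
      exact hmap g hg (by rw [hs', h00]) (by rw [hs', h11])
    · have h10 : s 1 = 0 := (hei (s 1)).resolve_right fun h => absurd (s.injective (h.trans h01.symm)) (by decide)
      have hcomp : ∀ i, (D i).map (Matrix.toLin' ((sigma * g : GL ((Fin m ⊕ Fin m) ⊕ (Fin m ⊕ Fin m)) F) :
          Matrix ((Fin m ⊕ Fin m) ⊕ (Fin m ⊕ Fin m)) ((Fin m ⊕ Fin m) ⊕ (Fin m ⊕ Fin m)) F)) = D (if s i = 0 then 1 else 0) := fun i => by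
        rw [Units.val_mul, Matrix.toLin'_mul, Submodule.map_comp, hs', hswapD]
      have h1 := hmap (sigma * g) (Iso.mul (hR.iso _ hσ) hg) (by rw [hcomp, h01]; rfl) (by rw [hcomp, h10]; rfl)
      have := H.mul_mem (H.inv_mem hsH) h1
      rwa [inv_mul_cancel_left] at this
  -- an element of the normaliser outside the stabiliser
  obtain ⟨S'⟩ := exists_frame hR
  have hA2 : (dg (1 : GL (Fin m ⊕ Fin m) F) (-1) * sigma) * (dg (1 : GL (Fin m ⊕ Fin m) F) (-1) * sigma) = -1 := by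
    rw [show dg (1 : GL (Fin m ⊕ Fin m) F) (-1) * sigma * (dg (1 : GL (Fin m ⊕ Fin m) F) (-1) * sigma) =
      dg (1 : GL (Fin m ⊕ Fin m) F) (-1) * (sigma * dg (1 : GL (Fin m ⊕ Fin m) F) (-1) * sigma⁻¹) * (sigma * sigma) by group,
      sigma_conj, sigma_sq, mul_one, dg_mul, one_mul, mul_one]
    exact (by rw [← dg_neg, dg_one] : dg (-1 : GL (Fin m ⊕ Fin m) F) (-1) = -1)
  have hB2 : dg Y Y * dg Y Y = -1 := by rw [dg_mul, hY2, ← dg_neg, dg_one]
  obtain ⟨T, hT⟩ : ∃ T, T = twist (dg (1 : GL (Fin m ⊕ Fin m) F) (-1) * sigma) (dg Y Y) hA2 hB2 h2 := ⟨_, rfl⟩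
  have hAR := R.mul_mem hr hσ
  have hBR := mem_block.1 hYR
  have hTiso : Iso (dbl (sympForm m F)) T := hT ▸ SignFrame.twist_iso hR _ _ (hR.iso _ hAR) (hR.iso _ hBR)
  have hTn : Normalises T R := by
    intro z hz
    obtain ⟨ea, hea⟩ := S'.surj _ hAR
    obtain ⟨eb, heb⟩ := S'.surj _ hBR
    haveI := hR.nonempty
    have hq : ∀ {A : GL ((Fin m ⊕ Fin m) ⊕ (Fin m ⊕ Fin m)) F} {e}, A * A = -1 → PM A (S'.L e) → S'.Q.q e = 1 := by
      intro A e hA he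
      refine zmod_two_ne_zero.1 fun h => ?_
      have h1 := (S'.sq e).2 h
      rcases he with h' | h' <;> rw [h'] at hA
      · rw [h1] at hA; exact neg_ne h2 _ hA.symm
      · rw [neg_mul_neg, h1] at hA; exact neg_ne h2 _ hA.symm
    have hqa' := hq hA2 hea
    have hqb' := hq hB2 heb
    obtain ⟨e, he⟩ := S'.surj z hz
    -- the sign of a member does not matter for conjugation by a half-twist
    have hflip : ∀ {A : GL ((Fin m ⊕ Fin m) ⊕ (Fin m ⊕ Fin m)) F} {a x : Fin (2 * (k + 1)) → ZMod 2}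
        {X : GL ((Fin m ⊕ Fin m) ⊕ (Fin m ⊕ Fin m)) F}, S'.Q.q a = 1 → PM A (S'.L a) → PM X (S'.L x) →
        ∃ y : GL ((Fin m ⊕ Fin m) ⊕ (Fin m ⊕ Fin m)) F, PM y (S'.L (S'.Q.refl a x)) ∧ (1 + (A : Matrix ((Fin m ⊕ Fin m) ⊕ (Fin m ⊕ Fin m)) ((Fin m ⊕ Fin m) ⊕ (Fin m ⊕ Fin m)) F)) * (X : Matrix ((Fin m ⊕ Fin m) ⊕ (Fin m ⊕ Fin m)) ((Fin m ⊕ Fin m) ⊕ (Fin m ⊕ Fin m)) F) * (1 - (A : Matrix ((Fin m ⊕ Fin m) ⊕ (Fin m ⊕ Fin m)) ((Fin m ⊕ Fin m) ⊕ (Fin m ⊕ Fin m)) F)) =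
          (2 : F) • (y : Matrix ((Fin m ⊕ Fin m) ⊕ (Fin m ⊕ Fin m)) ((Fin m ⊕ Fin m) ⊕ (Fin m ⊕ Fin m)) F) := by
      intro A a x X ha hA hX
      rcases hA with h' | h' <;> subst h'
      · exact S'.oneAdd_conj hR ha hX
      · obtain ⟨u, hu⟩ := S'.Q.exists_B_one (x := a) fun h0 => by rw [h0, S'.Q.q_zero] at ha; exact zero_ne_one ha
        -- conjugate by an anticommuting member
        obtain ⟨y, hy, hy'⟩ := S'.oneAdd_conj hR ha (x := S'.L u * X * (S'.L u)⁻¹)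
          ((hX.conj _).trans (S'.conj_PM hR u x))
        refine ⟨(S'.L u)⁻¹ * y * S'.L u, ?_, ?_⟩
        · have h1 := (hy.conj (S'.L u)⁻¹).trans ((PM.conj _ (S'.conj_PM hR u _).symm))
          rw [inv_inv, show (S'.L u)⁻¹ * (S'.L u * S'.L (S'.Q.refl a x) * (S'.L u)⁻¹) * S'.L u = S'.L (S'.Q.refl a x) by group] at h1
          exact h1
        · have hUA : (S'.L u : Matrix ((Fin m ⊕ Fin m) ⊕ (Fin m ⊕ Fin m)) ((Fin m ⊕ Fin m) ⊕ (Fin m ⊕ Fin m)) F) * S'.L a = -((S'.L a : Matrix ((Fin m ⊕ Fin m) ⊕ (Fin m ⊕ Fin m)) ((Fin m ⊕ Fin m) ⊕ (Fin m ⊕ Fin m)) F) * S'.L u) := by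
            rw [← Units.val_mul, S'.anti_of hR hu, Units.val_neg, Units.val_mul]
          rw [Units.val_neg, Units.val_mul, Units.val_mul, ← sub_eq_add_neg, sub_neg_eq_add]
          obtain ⟨U, hU⟩ : ∃ U, U = (S'.L u : Matrix ((Fin m ⊕ Fin m) ⊕ (Fin m ⊕ Fin m)) ((Fin m ⊕ Fin m) ⊕ (Fin m ⊕ Fin m)) F) := ⟨_, rfl⟩
          obtain ⟨Ui, hUi⟩ : ∃ Ui, Ui = (((S'.L u)⁻¹ : GL ((Fin m ⊕ Fin m) ⊕ (Fin m ⊕ Fin m)) F) :
              Matrix ((Fin m ⊕ Fin m) ⊕ (Fin m ⊕ Fin m)) ((Fin m ⊕ Fin m) ⊕ (Fin m ⊕ Fin m)) F) := ⟨_, rfl⟩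
          rw [← hU] at hUA
          simp only [Units.val_mul, ← hU, ← hUi] at hy'
          rw [← hU, ← hUi]
          have hid : Ui * U = 1 := by rw [hU, hUi, Units.inv_mul]
          have hid' : U * Ui = 1 := by rw [hU, hUi, Units.mul_inv]
          have k1 : U * (1 - (S'.L a : Matrix ((Fin m ⊕ Fin m) ⊕ (Fin m ⊕ Fin m)) ((Fin m ⊕ Fin m) ⊕ (Fin m ⊕ Fin m)) F)) = (1 + (S'.L a : Matrix ((Fin m ⊕ Fin m) ⊕ (Fin m ⊕ Fin m)) ((Fin m ⊕ Fin m) ⊕ (Fin m ⊕ Fin m)) F)) * U := by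
            rw [mul_sub, add_mul, mul_one, one_mul, hUA, sub_neg_eq_add]
          have k2 : U * (1 + (S'.L a : Matrix ((Fin m ⊕ Fin m) ⊕ (Fin m ⊕ Fin m)) ((Fin m ⊕ Fin m) ⊕ (Fin m ⊕ Fin m)) F)) = (1 - (S'.L a : Matrix ((Fin m ⊕ Fin m) ⊕ (Fin m ⊕ Fin m)) ((Fin m ⊕ Fin m) ⊕ (Fin m ⊕ Fin m)) F)) * U := by
            rw [mul_add, sub_mul, mul_one, one_mul, hUA, sub_eq_add_neg]
          calc (1 - (S'.L a : Matrix ((Fin m ⊕ Fin m) ⊕ (Fin m ⊕ Fin m)) ((Fin m ⊕ Fin m) ⊕ (Fin m ⊕ Fin m)) F)) * (X : Matrix ((Fin m ⊕ Fin m) ⊕ (Fin m ⊕ Fin m)) ((Fin m ⊕ Fin m) ⊕ (Fin m ⊕ Fin m)) F) * (1 + (S'.L a : Matrix ((Fin m ⊕ Fin m) ⊕ (Fin m ⊕ Fin m)) ((Fin m ⊕ Fin m) ⊕ (Fin m ⊕ Fin m)) F))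
              = Ui * (U * (1 - (S'.L a : Matrix ((Fin m ⊕ Fin m) ⊕ (Fin m ⊕ Fin m)) ((Fin m ⊕ Fin m) ⊕ (Fin m ⊕ Fin m)) F))) * (X : Matrix ((Fin m ⊕ Fin m) ⊕ (Fin m ⊕ Fin m)) ((Fin m ⊕ Fin m) ⊕ (Fin m ⊕ Fin m)) F) * ((Ui * U) * (1 + (S'.L a : Matrix ((Fin m ⊕ Fin m) ⊕ (Fin m ⊕ Fin m)) ((Fin m ⊕ Fin m) ⊕ (Fin m ⊕ Fin m)) F))) := by
                rw [← mul_assoc Ui U, hid, one_mul, one_mul]
            _ = Ui * ((1 + (S'.L a : Matrix ((Fin m ⊕ Fin m) ⊕ (Fin m ⊕ Fin m)) ((Fin m ⊕ Fin m) ⊕ (Fin m ⊕ Fin m)) F)) * (U * (X : Matrix ((Fin m ⊕ Fin m) ⊕ (Fin m ⊕ Fin m)) ((Fin m ⊕ Fin m) ⊕ (Fin m ⊕ Fin m)) F) * Ui) * (1 - (S'.L a : Matrix ((Fin m ⊕ Fin m) ⊕ (Fin m ⊕ Fin m)) ((Fin m ⊕ Fin m) ⊕ (Fin m ⊕ Fin m)) F))) * U := by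
                rw [k1, mul_assoc Ui U, k2]; simp only [mul_assoc]
            _ = _ := by rw [hy']; simp [mul_smul_comm, smul_mul_assoc]
    obtain ⟨y, hy, hy'⟩ := hflip hqb' heb he
    obtain ⟨w, hw, hw'⟩ := hflip hqa' hea hy
    have hval : T * z * T⁻¹ = w := by
      refine Units.ext ?_
      rw [Units.val_mul, Units.val_mul, hT]
      obtain ⟨A, hA⟩ : ∃ A, A = (dg (1 : GL (Fin m ⊕ Fin m) F) (-1) * sigma) := ⟨_, rfl⟩
      obtain ⟨B, hB⟩ : ∃ B, B = dg Y Y := ⟨_, rfl⟩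
      rw [← hB] at hy'
      rw [← hA] at hw'
      simp only [← hA, ← hB]
      change (2 : F)⁻¹ • ((1 + (A : Matrix ((Fin m ⊕ Fin m) ⊕ (Fin m ⊕ Fin m)) ((Fin m ⊕ Fin m) ⊕ (Fin m ⊕ Fin m)) F)) * (1 + (B : Matrix ((Fin m ⊕ Fin m) ⊕ (Fin m ⊕ Fin m)) ((Fin m ⊕ Fin m) ⊕ (Fin m ⊕ Fin m)) F))) * (z : Matrix ((Fin m ⊕ Fin m) ⊕ (Fin m ⊕ Fin m)) ((Fin m ⊕ Fin m) ⊕ (Fin m ⊕ Fin m)) F) *
        ((2 : F)⁻¹ • ((1 - (B : Matrix ((Fin m ⊕ Fin m) ⊕ (Fin m ⊕ Fin m)) ((Fin m ⊕ Fin m) ⊕ (Fin m ⊕ Fin m)) F)) * (1 - (A : Matrix ((Fin m ⊕ Fin m) ⊕ (Fin m ⊕ Fin m)) ((Fin m ⊕ Fin m) ⊕ (Fin m ⊕ Fin m)) F)))) = _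
      rw [smul_mul_assoc, smul_mul_smul_comm,
        show (1 + (A : Matrix ((Fin m ⊕ Fin m) ⊕ (Fin m ⊕ Fin m)) ((Fin m ⊕ Fin m) ⊕ (Fin m ⊕ Fin m)) F)) * (1 + (B : Matrix ((Fin m ⊕ Fin m) ⊕ (Fin m ⊕ Fin m)) ((Fin m ⊕ Fin m) ⊕ (Fin m ⊕ Fin m)) F)) * (z : Matrix ((Fin m ⊕ Fin m) ⊕ (Fin m ⊕ Fin m)) ((Fin m ⊕ Fin m) ⊕ (Fin m ⊕ Fin m)) F) *
          ((1 - (B : Matrix ((Fin m ⊕ Fin m) ⊕ (Fin m ⊕ Fin m)) ((Fin m ⊕ Fin m) ⊕ (Fin m ⊕ Fin m)) F)) * (1 - (A : Matrix ((Fin m ⊕ Fin m) ⊕ (Fin m ⊕ Fin m)) ((Fin m ⊕ Fin m) ⊕ (Fin m ⊕ Fin m)) F))) = (1 + (A : Matrix ((Fin m ⊕ Fin m) ⊕ (Fin m ⊕ Fin m)) ((Fin m ⊕ Fin m) ⊕ (Fin m ⊕ Fin m)) F)) *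
          ((1 + (B : Matrix ((Fin m ⊕ Fin m) ⊕ (Fin m ⊕ Fin m)) ((Fin m ⊕ Fin m) ⊕ (Fin m ⊕ Fin m)) F)) * (z : Matrix ((Fin m ⊕ Fin m) ⊕ (Fin m ⊕ Fin m)) ((Fin m ⊕ Fin m) ⊕ (Fin m ⊕ Fin m)) F) * (1 - (B : Matrix ((Fin m ⊕ Fin m) ⊕ (Fin m ⊕ Fin m)) ((Fin m ⊕ Fin m) ⊕ (Fin m ⊕ Fin m)) F))) * (1 - (A : Matrix ((Fin m ⊕ Fin m) ⊕ (Fin m ⊕ Fin m)) ((Fin m ⊕ Fin m) ⊕ (Fin m ⊕ Fin m)) F)) by
            simp only [mul_assoc],
        hy', mul_smul_comm, smul_mul_assoc, hw', smul_smul, smul_smul,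
        show (2 : F)⁻¹ * (2 : F)⁻¹ * 2 * 2 = 1 by field_simp, one_smul]
    exact hval ▸ hR.mem_of_PM (S'.mem _) hw
  have hTD : T ∉ Cfsg.Geo.decompositionStabilizer D := by
    rintro ⟨s, hs'⟩
    obtain ⟨i0⟩ := hD.nonempty
    obtain ⟨e, he⟩ : ∃ e : (Fin m ⊕ Fin m) ⊕ (Fin m ⊕ Fin m) → F, e = Sum.elim (Pi.single i0 (1 : F)) 0 := ⟨_, rfl⟩
    have hmem : (T : Matrix _ _ F) *ᵥ e ∈ D (s 0) :=
      (hs' 0).le ⟨e, (hD0 _).2 (by rw [he, Sum.elim_comp_inr]), Matrix.toLin'_apply _ _⟩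
    obtain ⟨P, hP⟩ : ∃ P, P = (1 : Matrix (Fin m ⊕ Fin m) (Fin m ⊕ Fin m) F) + (Y : Matrix _ _ F) := ⟨_, rfl⟩
    have hP0 : P *ᵥ Pi.single i0 (1 : F) ≠ 0 := by
      intro h0
      have hY' : (Y : Matrix (Fin m ⊕ Fin m) (Fin m ⊕ Fin m) F) * Y = -1 := by
        rw [← Units.val_mul, hY2, Units.val_neg, Units.val_one]
      have h1 : (1 - (Y : Matrix (Fin m ⊕ Fin m) (Fin m ⊕ Fin m) F)) * P = (2 : F) • 1 := by
        rw [hP, sub_mul, mul_add, mul_add, one_mul, one_mul, mul_one, hY', two_smul]; abel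
      have h3 := congrArg ((1 - (Y : Matrix (Fin m ⊕ Fin m) (Fin m ⊕ Fin m) F)) *ᵥ ·) h0
      simp only [mulVec_mulVec, h1, mulVec_zero, smul_mulVec, one_mulVec] at h3
      have := congrFun ((smul_eq_zero.1 h3).resolve_left h2) i0
      simp at this
    have hval : (T : Matrix _ _ F) *ᵥ e = (2 : F)⁻¹ • Sum.elim (P *ᵥ Pi.single i0 (1 : F)) (-(P *ᵥ Pi.single i0 (1 : F))) := by
      rw [hT, twist_val, Units.val_mul, dg_val, sigma_val, dg_val, fromBlocks_multiply,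
        show (1 : Matrix ((Fin m ⊕ Fin m) ⊕ (Fin m ⊕ Fin m)) ((Fin m ⊕ Fin m) ⊕ (Fin m ⊕ Fin m)) F) =
          fromBlocks 1 0 0 1 from fromBlocks_one.symm, fromBlocks_add, fromBlocks_add, fromBlocks_multiply,
        smul_mulVec, fromBlocks_mulVec, he, hP, Sum.elim_comp_inl, Sum.elim_comp_inr]
      simp [neg_mulVec, add_mulVec]
      congr 2
      funext i
      simp
    rw [hval] at hmem
    have hi : (2 : F)⁻¹ ≠ 0 := inv_ne_zero h2
    rcases hei (s 0) with h' | h' <;> rw [h'] at hmem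
    · have h1 := (hD0 _).1 hmem
      refine hP0 ?_
      funext i
      have := congrFun h1 i
      simpa [hi] using this
    · have h1 := (hD1 _).1 hmem
      refine hP0 ?_
      funext i
      have := congrFun h1 i
      simpa [hi] using this
  have hfull := Cfsg.Agent.S5647.all_full hf hint (fun i j hij u hu v hv => by
      rcases hei i with rfl | rfl <;> rcases hei j with rfl | rfl
      · exact absurd rfl hij
      · simp [dbl, (hD0 u).1 hu, (hD1 v).1 hv, (h0 _).1, (h0 _).2]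
      · simp [dbl, (hD1 u).1 hu, (hD0 v).1 hv, (h0 _).1, (h0 _).2]
      · exact absurd rfl hij)
    (fun i w hw hw0 => by
      obtain ⟨⟨x, hx⟩, -⟩ := hf.nondegenerate w hw0
      rcases hei i with rfl | rfl
      · refine ⟨Sum.elim (x ∘ Sum.inl) 0, (hD0 _).2 (by simp [Sum.elim_comp_inr]), ?_⟩
        simpa [dbl, (hD0 w).1 hw, (h0 _).1, Sum.elim_comp_inl, Sum.elim_comp_inr] using hx
      · refine ⟨Sum.elim 0 (x ∘ Sum.inr), (hD1 _).2 (by simp [Sum.elim_comp_inl]), ?_⟩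
        simpa [dbl, (hD1 w).1 hw, (h0 _).1, Sum.elim_comp_inl, Sum.elim_comp_inr] using hx)
    (fun i j => by
      have key : ∀ i, Module.finrank F (D i) = Module.finrank F (D (if i = 0 then 1 else 0)) := fun i => by
        rw [← hswapD i]
        exact ((D i).equivMapOfInjective _ (Matrix.mulVec_injective_of_isUnit (Units.isUnit _))).finrank_eq
      rcases hei i with rfl | rfl <;> rcases hei j with rfl | rfl
      · rfl
      · simpa using key 0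
      · simpa using key 1
      · rfl)
    (fun i u hu hu0 => ⟨-u, (D i).neg_mem hu, by rw [neg_right' hf, hf.alternating, neg_zero], neg_ne_zero.2 hu0,
      fun h' => hu0 ((smul_eq_zero.1 (show (2 : F) • u = 0 by
        rw [two_smul]
        nth_rewrite 1 [← h']
        exact neg_add_cancel u)).resolve_left h2)⟩)
    hstab (hN T hTiso hTn) hTiso hTD
  exact fun g hg => iso_mem_of_full hf hfull hg

end Model

/-- Between the normaliser and the symplectic group there is nothing. -/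
theorem sp_dichotomy {p : ℕ} (hp : p.Prime) (hodd : Odd p) (hF : Fintype.card F = p) :
    ∀ (k m : ℕ) (R : Subgroup (GL (Fin m ⊕ Fin m) F)), Data k (sympForm m F) R → Cfsg.Geo.IsOfMinusType k R →
      ∀ H : Subgroup (GL (Fin m ⊕ Fin m) F), H ≤ spGL m F → (∀ g ∈ spGL m F, Normalises g R → g ∈ H) →
        (∀ g ∈ H, Normalises g R) ∨ spGL m F ≤ H := by
  intro k
  induction k with
  | zero => intro m R hR; exact absurd hR.two_le (by norm_num)
  | succ k ih =>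
    intro m R hR hmin H hH hN
    rcases Nat.lt_or_ge k 2 with hk | hk
    · have hk1 : k + 1 = 2 := by have := hR.two_le; omega
      exact base hp hodd hF (hk1 ▸ hR) (hk1 ▸ hmin) hH hN
    obtain ⟨S⟩ := exists_frame hR
    haveI := hR.nonempty
    have hs := isSymplecticForm_sympForm (F := F) m
    have hHiso : ∀ g ∈ H, Iso (sympForm m F) g := fun g hg => hH hg
    have hNiso : ∀ g, Iso (sympForm m F) g → Normalises g R → g ∈ H := fun g hg hn => hN g hg hn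
    -- coordinates along any involution
    have hsplit : ∀ r ∈ R, r * r = 1 → r ≠ 1 → r ≠ -1 → ∃ (m0 : ℕ)
        (E : ((Fin m0 ⊕ Fin m0) ⊕ (Fin m0 ⊕ Fin m0) → F) ≃ₗ[F] (Fin m ⊕ Fin m → F)),
        coordGL E r = dg (1 : GL (Fin m0 ⊕ Fin m0) F) (-1) ∧
        Data (k + 1) (dbl (sympForm m0 F)) (R.map (coordGL E).toMonoidHom) ∧
        sigma ∈ R.map (coordGL E).toMonoidHom ∧
        (fun u v => sympForm m F (E u) (E v)) = dbl (sympForm m0 F) ∧
        (∀ g ∈ H.map (coordGL E).toMonoidHom, Iso (dbl (sympForm m0 F)) g) ∧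
        (∀ g, Iso (dbl (sympForm m0 F)) g → Normalises g (R.map (coordGL E).toMonoidHom) →
          g ∈ H.map (coordGL E).toMonoidHom) := by
      intro r hr hr2 hr1 hrn
      obtain ⟨x, hx⟩ := S.surj r hr
      have hx0 : x ≠ 0 := fun h => by
        subst h
        rcases hx.trans (S.L_zero hR) with h | h
        · exact hr1 h
        · exact hrn h
      have hqx : S.Q.q x = 0 := by
        refine (S.sq x).1 ?_
        rcases hx.symm with h | h <;> rw [h]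
        · exact hr2
        · rw [neg_mul_neg, hr2]
      obtain ⟨V, hV, hVnd, hE⟩ := exists_split (κ := Fin (2 ^ (k - 1)) ⊕ Fin (2 ^ (k - 1))) hR S hx0 hqx hx
      obtain ⟨m0, j, hm0, hj⟩ := exists_std_coords ((toBilin hs.bilinear).compl₁₂ V.subtype V.subtype)
        (fun v => hs.alternating v) (fun v hv => Subtype.ext (hVnd v v.2 fun w hw => hv ⟨w, hw⟩))
      have hmk : m0 = 2 ^ (k - 1) := by
        have hc := hR.card_index
        have hp2 : 2 ^ k = 2 * 2 ^ (k - 1) := by rw [← pow_succ', Nat.sub_add_cancel (by omega)]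
        rw [Fintype.card_sum, Fintype.card_fin, pow_succ, hp2] at hc
        rw [hm0, Fintype.card_sum, Fintype.card_fin] at hV
        omega
      subst hmk
      obtain ⟨E, hE1, hE2, hE3⟩ := hE j
      have hf : (fun u v => sympForm m F (E u) (E v)) = dbl (sympForm (2 ^ (k - 1)) F) := by
        funext u v
        rw [hE1]
        have h : ∀ a b, sympForm m F (j a : Fin m ⊕ Fin m → F) (j b) = sympForm (2 ^ (k - 1)) F a b := hj
        simp only [dbl, h]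
      have hD := coord_data E hR
      rw [hf] at hD
      refine ⟨_, E, hE2, hD, hE3, hf, ?_, fun g hg hn => ?_⟩
      · rintro _ ⟨g, hg, rfl⟩
        rw [← hf]
        exact (iso_coord E g).2 (hHiso g hg)
      · obtain ⟨g', rfl⟩ := (coordGL E).surjective g
        rw [← hf] at hg
        exact ⟨g', hNiso g' ((iso_coord E g').1 hg) ((normalises_coord E g').1 hn), rfl⟩
    by_cases hfull : spGL m F ≤ H
    · exact Or.inr hfull
    left
    have hgood : ∀ r ∈ R, r * r = 1 → r ≠ 1 → r ≠ -1 → Good R H r := by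
      intro r hr hr2 hr1 hrn
      obtain ⟨m0, E, hE, hD, hσ, hEf, hH', hN'⟩ := hsplit r hr hr2 hr1 hrn
      have hrm : dg (1 : GL (Fin m0 ⊕ Fin m0) F) (-1) ∈ R.map (coordGL E).toMonoidHom := hE ▸ Subgroup.mem_map_of_mem _ hr
      have hmin' := minus_coord E hmin
      have hb := block_data hD hrm hσ hk (Or.inl hmin')
      have hbmin : Cfsg.Geo.IsOfMinusType k (block (R.map (coordGL E).toMonoidHom)) := by
        obtain ⟨k', hk', -, -, -, hm⟩ := Asch.sign_group_c6 (sign_group hb)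
        have hc := hb.card_index
        rw [Fintype.card_sum, Fintype.card_fin] at hc
        rw [show k = k' from Nat.pow_right_injective le_rfl (show 2 ^ k = 2 ^ k' by omega)]
        exact hm
      rcases model_dichotomy hk hD hmin' hrm hσ hH' hN' (ih m0 _ hb hbmin) with h | h
      · exact good_coord E (hE ▸ h)
      · refine absurd (fun g hg => ?_) hfull
        have hg' : coordGL E g ∈ H.map (coordGL E).toMonoidHom := h _ (by rw [← hEf]; exact (iso_coord E g).2 hg)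
        obtain ⟨g', hg1, he⟩ := hg'
        exact (coordGL E).injective he ▸ hg1
    have hsing : ∀ e, e ≠ 0 → S.Q.q e = 0 → ∀ g ∈ H, g * S.L e = S.L e * g → Normalises g R := by
      intro e he hqe g hg hge
      have h2 : S.L e * S.L e = 1 := (S.sq e).2 hqe
      obtain ⟨m0, E, hE, hD, hσ, -, hH', hN'⟩ := hsplit (S.L e) (S.mem e) h2
        (fun h => he (S.uniq _ _ (PM.trans (Or.inl h : PM (S.L e) 1) (S.L_zero hR).symm)))
        (fun h => he (S.uniq _ _ (PM.trans (Or.inr h : PM (S.L e) 1) (S.L_zero hR).symm)))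
      have hrm : dg (1 : GL (Fin m0 ⊕ Fin m0) F) (-1) ∈ R.map (coordGL E).toMonoidHom :=
        hE ▸ Subgroup.mem_map_of_mem _ (S.mem e)
      refine (normalises_coord E g).1 (cent_of_good hD hrm hσ hk (Or.inl (minus_coord E hmin)) hH' hN' ?_ _
        (Subgroup.mem_map_of_mem _ hg) ?_)
      · rintro _ ⟨u, hu, rfl⟩ hu2 hu1 hun
        refine coord_good E (hgood u hu ?_ ?_ ?_)
        · exact (coordGL E).injective (by rw [map_mul, map_one]; exact hu2)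
        · exact fun h => hu1 (by rw [h]; exact map_one _)
        · exact fun h => hun (by rw [h, MulEquiv.coe_toMonoidHom, coordGL_neg, map_one])
      · rw [← hE]; simp only [MulEquiv.coe_toMonoidHom, ← map_mul, hge]
    exact S.normalises_of_centralisers hR (by omega) hHiso hNiso
      (S.centralisers_of_singular hR (by omega) hHiso hNiso hsing)

end CfsgLib.Classical22.C6Two
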