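/-
Maximality of the normaliser of a group of symplectic type of minus type in the symplectic group over a prime field.
-/
import Cfsg.Agent.Lib.Classical22.C6Two.Sp

set_option autoImplicit false

namespace CfsgLib.Classical22.C6Two

open Matrix CfsgLib.Transvec Cfsg
open scoped MatrixGroups commutatorElement

variable {F : Type*} [Field F] [Fintype F]

/-- The hypotheses of the statements give the data. -/
theorem data_of_type {m k : ℕ} (hm : 2 ≤ m) (h2 : (2 : F) ≠ 0) {R : Subgroup (GL (Fin m ⊕ Fin m) F)}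
    (hR : Geo.IsSymplecticTypeGroup 2 R) (hirr : Geo.ActsAbsolutelyIrreducibly (Geo.matrixSet R)) (hle : R ≤ spGL m F)
    (hcard : Nat.card R = 2 ^ (1 + 2 * k)) (hZ : Nat.card (Subgroup.center R) = 2) (hmin : Geo.IsOfMinusType k R) :
    Data k (sympForm m F) R := by
  haveI : Nonempty (Fin m ⊕ Fin m) := ⟨Sum.inl ⟨0, by omega⟩⟩
  haveI : Fact (Nat.Prime 2) := ⟨Nat.prime_two⟩
  obtain ⟨z, hz⟩ := exists_prime_orderOf_dvd_card' 2 (hZ.symm ▸ dvd_rfl : 2 ∣ Nat.card (Subgroup.center R))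
  have hz2 : ((z : R) : GL (Fin m ⊕ Fin m) F) * ((z : R) : GL (Fin m ⊕ Fin m) F) = 1 := by
    have h := pow_orderOf_eq_one z
    rw [hz, sq] at h
    exact congrArg (fun u : Subgroup.center R => ((u : R) : GL (Fin m ⊕ Fin m) F)) h
  obtain ⟨c, hc⟩ := hirr.2 (((z : R) : GL (Fin m ⊕ Fin m) F) : Matrix (Fin m ⊕ Fin m) (Fin m ⊕ Fin m) F) (by
    rintro _ ⟨a, ha, rfl⟩
    exact congrArg (fun u : R => ((u : GL (Fin m ⊕ Fin m) F) : Matrix (Fin m ⊕ Fin m) (Fin m ⊕ Fin m) F))
      (Subgroup.mem_center_iff.1 z.2 ⟨a, ha⟩).symm)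
  have hz1 : ((z : R) : GL (Fin m ⊕ Fin m) F) ≠ 1 := fun h => by
    have : z = 1 := Subtype.ext (Subtype.ext h)
    rw [this, orderOf_one] at hz
    norm_num at hz
  have hzm : ((z : R) : GL (Fin m ⊕ Fin m) F) = -1 := by
    rcases mul_self_eq_one_iff.1 (Asch.sp_scalar_sq (by omega) (hle (z : R).2) hc) with rfl | rfl
    · exact absurd (Units.ext (by rw [hc, one_smul, Units.val_one])) hz1
    · exact Units.ext (by rw [hc, neg_one_smul, Units.val_neg, Units.val_one])
  have h4 : ∀ q : R, q ^ 4 = 1 := fun q => by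
    have h := Monoid.pow_exponent_eq_one q
    rwa [hR.exponent_eq, show 2 * Nat.gcd 2 2 = 4 from rfl] at h
  obtain ⟨hcm, hsq, -⟩ := CfsgLib.Local.symplectic_four (Q := R) ⟨hR.pGroup, hR.cyclic_of_characteristic⟩ h4 z.2
    (Subtype.ext (by rw [Subgroup.coe_pow, sq]; exact hz2)) fun h => hz1 (congrArg Subtype.val h)
  have hsq' : ∀ a ∈ R, a * a = 1 ∨ a * a = -1 := by
    intro a ha
    rcases hsq ⟨a, ha⟩ with h | h <;> have h' := congrArg Subtype.val h <;>
      simp only [Subgroup.coe_pow, sq, OneMemClass.coe_one, hzm] at h'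
    · exact Or.inl h'
    · exact Or.inr h'
  have hcm' : ∀ a ∈ R, ∀ b ∈ R, a * b = b * a ∨ a * b = -(b * a) := by
    intro a ha b hb
    rcases hcm ⟨a, ha⟩ ⟨b, hb⟩ with h | h <;> have h' := congrArg Subtype.val h <;>
      simp only [Subgroup.coe_mul, Subgroup.coe_inv, OneMemClass.coe_one, hzm, mul_inv_eq_iff_eq_mul, one_mul] at h'
    · exact Or.inl h'
    · exact Or.inr (by rw [h', neg_mul, neg_mul, one_mul])
  have hs : ∀ x : GL (Fin m ⊕ Fin m) F, PM x 1 → x ∈ Geo.scalars (Fin m ⊕ Fin m) F := fun x hx => by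
    rw [Geo.mem_scalars_iff]
    rcases hx with h | h <;> rw [h]
    · exact ⟨1, by simp⟩
    · exact ⟨-1, by simp⟩
  have hSG : Asch.SignGroup R := ⟨hle, hirr, fun x hx => hs _ (hsq' x hx), fun x hx y hy => hs _ (by
    rw [commutatorElement_def]
    rcases hcm' x hx y hy with h | h
    · exact Or.inl (by rw [h]; group)
    · refine Or.inr ?_
      rw [h, neg_mul, neg_mul]
      congr 1
      group), hm, h2⟩
  obtain ⟨k', hk', -, hc', -, -⟩ := Asch.sign_group_c6 hSG
  have hkk : k' = k := by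
    have := Nat.pow_right_injective le_rfl (hc'.symm.trans hcard)
    omega
  subst hkk
  have hk2 : 2 ≤ k' := by
    by_contra h
    have := Nat.pow_le_pow_right (show 1 ≤ 2 by norm_num) (show k' ≤ 1 by omega)
    omega
  exact ⟨(isSymplecticForm_sympForm m).bilinear, (isSymplecticForm_sympForm m).nondegenerate, fun x hx => hle hx,
    by rw [Fintype.card_sum, Fintype.card_fin, ← hk']; ring, h2, hk2, hzm ▸ (z : R).2, hsq', hcm', hirr,
    by rw [hcard]; ring_nf, Or.inl hmin⟩

/-- The normaliser is maximal. -/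
theorem isMaximalIn_sympType {m k : ℕ} (hm : 2 ≤ m) {p : ℕ} (hp : p.Prime) (hodd : Odd p) (hF : Fintype.card F = p)
    {R : Subgroup (GL (Fin m ⊕ Fin m) F)}
    (hR : Geo.IsSymplecticTypeGroup 2 R) (hirr : Geo.ActsAbsolutelyIrreducibly (Geo.matrixSet R)) (hle : R ≤ spGL m F)
    (hcard : Nat.card R = 2 ^ (1 + 2 * k)) (hZ : Nat.card (Subgroup.center R) = 2) (hmin : Geo.IsOfMinusType k R) :
    Geo.IsMaximalIn (spGL m F) (Geo.subgroupNormalizer R ⊓ spGL m F) := by
  classical
  have h2 : (2 : F) ≠ 0 := Ring.two_ne_zero fun h => by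
    have := FiniteField.even_card_of_char_two h
    rw [hF] at this
    exact absurd (Nat.even_iff.2 this) (Nat.not_even_iff_odd.2 hodd)
  have hD := data_of_type hm h2 hR hirr hle hcard hZ hmin
  obtain ⟨S⟩ := exists_frame hD
  refine ⟨lt_of_le_of_ne inf_le_right fun he => ?_, fun M hM hMK => ?_⟩
  · have hnorm : ∀ g ∈ spGL m F, Normalises g R := fun g hg =>
      (normalises_iff g).2 (he.symm ▸ hg : g ∈ Geo.subgroupNormalizer R ⊓ spGL m F).1
    obtain ⟨a, -, hqa⟩ := S.Q.exists_ns (T := ⊤) (P := ⊥)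
      (fun p hp => by rw [(Submodule.mem_bot _).1 hp, S.Q.q_zero])
      (fun p hp t _ => by rw [(Submodule.mem_bot _).1 hp, map_zero, LinearMap.zero_apply]) (inf_bot_eq _)
      (by rw [finrank_top, S.Q.dim, finrank_bot]; have := S.Q.room; omega)
    obtain ⟨b, hb⟩ := S.Q.exists_B_one (x := a) fun h0 => by rw [h0, S.Q.q_zero] at hqa; exact zero_ne_one hqa
    haveI := hD.nonempty
    have hfull : spGL m F ≤ R := sp_normal_full hm h2 (fun g hg x hx _ => hnorm g hg x hx) (S.mem b) (hle (S.mem b))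
      (hle (S.mem a)) (fun h => neg_ne h2 _ ((S.anti_of hD hb).symm.trans h))
    obtain ⟨i⟩ := hD.nonempty
    have hv : (Pi.single i 1 : Fin m ⊕ Fin m → F) ≠ 0 := by simp
    obtain ⟨y, hy⟩ := (hD.nondeg _ hv).1
    have ht := hfull (sT_mem_spGL m (Pi.single i 1) 1)
    have hf := isSymplecticForm_sympForm (F := F) m
    have hsT := sT_mul hf (Pi.single i (1 : F)) (1 : F) 1
    rcases hD.sq _ ht with h | h <;> rw [hsT] at h
    · have h' := congrArg (fun g : GL (Fin m ⊕ Fin m) F => (g : Matrix (Fin m ⊕ Fin m) (Fin m ⊕ Fin m) F) *ᵥ y) h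
      simp only [sT_mulVec hf, Units.val_one, one_mulVec, add_eq_left] at h'
      rcases smul_eq_zero.1 h' with h' | h'
      · rw [one_add_one_eq_two] at h'
        exact hy ((mul_eq_zero.1 h').resolve_left h2)
      · exact hv h'
    · have h' := congrArg (fun g : GL (Fin m ⊕ Fin m) F =>
        (g : Matrix (Fin m ⊕ Fin m) (Fin m ⊕ Fin m) F) *ᵥ (Pi.single i (1 : F))) h
      simp only [sT_fix hf (hf.alternating _), Units.val_neg, Units.val_one, neg_mulVec, one_mulVec] at h'
      exact hv ((smul_eq_zero.1 (show (2 : F) • (Pi.single i (1 : F) : Fin m ⊕ Fin m → F) = 0 by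
        rw [two_smul]
        nth_rewrite 1 [h']
        exact neg_add_cancel _)).resolve_left h2)
  · rcases sp_dichotomy hp hodd hF k m R hD hmin M hMK (fun g hg hn => hM ⟨(normalises_iff g).1 hn, hg⟩) with h | h
    · exact Or.inl (le_antisymm (fun g hg => ⟨(normalises_iff g).1 (h g hg), hMK hg⟩) hM)
    · exact Or.inr (le_antisymm hMK h)

end CfsgLib.Classical22.C6Two
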